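import Mathlib
import Cfsg.Agent.H27.SolCount

/-!
Numbers of elements of given order.
-/

set_option autoImplicit false
set_option linter.all false

namespace H26

/-- The number of elements of order `m`. -/
noncomputable def ocnt (G : Type*) [Monoid G] (m : ℕ) : ℕ := Nat.card {g : G // orderOf g = m}

variable {G : Type*} [Group G] [Finite G]

theorem ocnt_one : ocnt G 1 = 1 := by
  rw [ocnt, Nat.card_eq_one_iff_unique]
  refine ⟨⟨fun a b => Subtype.ext ?_⟩, ⟨⟨1, orderOf_one⟩⟩⟩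
  rw [orderOf_eq_one_iff.1 a.2, orderOf_eq_one_iff.1 b.2]

theorem ocnt_pos_iff {m : ℕ} : 0 < ocnt G m ↔ ∃ g : G, orderOf g = m := by
  rw [ocnt, Nat.card_pos_iff]
  exact ⟨fun ⟨⟨g⟩, _⟩ => ⟨g.1, g.2⟩, fun ⟨g, hg⟩ => ⟨⟨⟨g, hg⟩⟩, Finite.of_injective _ Subtype.val_injective⟩⟩

theorem even_ocnt {m : ℕ} (hm : 3 ≤ m) : Even (ocnt G m) := by
  classical
  haveI := Fintype.ofFinite G
  rw [ocnt, Nat.card_eq_fintype_card, Fintype.card_subtype, even_iff_two_dvd,
    ← ZMod.natCast_eq_zero_iff]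
  rw [Finset.cast_card]
  refine Finset.sum_involution (fun g _ => g⁻¹) (fun g _ => by decide) ?_ ?_ (fun g _ => inv_inv g)
  · intro g hg _ he
    rw [Finset.mem_filter] at hg
    have h2 : g ^ 2 = 1 := by
      rw [pow_two]
      nth_rewrite 1 [← he]
      exact inv_mul_cancel g
    have := Nat.le_of_dvd (by norm_num) (orderOf_dvd_of_pow_eq_one h2)
    omega
  · intro g hg
    rw [Finset.mem_filter] at hg ⊢
    exact ⟨Finset.mem_univ _, by rw [orderOf_inv, hg.2]⟩

theorem card_pow_eq_one (N : ℕ) (hN : N ≠ 0) :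
    Nat.card {g : G // g ^ N = 1} = ∑ d ∈ N.divisors, ocnt G d := by
  classical
  haveI := Fintype.ofFinite G
  rw [Nat.card_eq_fintype_card, Fintype.card_subtype]
  rw [Finset.card_eq_sum_card_fiberwise (f := (orderOf : G → ℕ)) (t := N.divisors)]
  · refine Finset.sum_congr rfl fun d hd => ?_
    rw [ocnt, Nat.card_eq_fintype_card, Fintype.card_subtype, Finset.filter_filter]
    refine congrArg Finset.card (Finset.filter_congr fun g _ => ⟨fun h => h.2, fun h => ⟨?_, h⟩⟩)
    exact orderOf_dvd_iff_pow_eq_one.1 (h ▸ Nat.dvd_of_mem_divisors hd)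
  · intro g hg
    rw [Finset.mem_coe, Finset.mem_filter] at hg
    exact Nat.mem_divisors.2 ⟨orderOf_dvd_of_pow_eq_one hg.2, hN⟩

/-- Frobenius: a common divisor of `N` and the group order divides the number of solutions. -/
theorem dvd_sum_ocnt {N r : ℕ} (hN : N ≠ 0) (hrN : r ∣ N) (hr : r ∣ Nat.card G) :
    r ∣ ∑ d ∈ N.divisors, ocnt G d := by
  rw [← card_pow_eq_one N hN]
  exact (Nat.dvd_gcd hrN hr).trans (H27.gcd_card_dvd_card_pow_eq_one G N)

omit [Group G] [Finite G] in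
theorem sum_divisors_mul_prime {a p : ℕ} (hp : p.Prime) (hpa : ¬ p ∣ a) (ha : a ≠ 0) (f : ℕ → ℕ) :
    ∑ d ∈ (a * p).divisors, f d = ∑ d ∈ a.divisors, f d + ∑ d ∈ a.divisors, f (d * p) := by
  have h : (a * p).divisors = a.divisors ∪ a.divisors.image (· * p) := by
    ext d
    simp only [Nat.mem_divisors, Finset.mem_union, Finset.mem_image]
    constructor
    · rintro ⟨hd, -⟩
      by_cases hpd : p ∣ d
      · obtain ⟨c, rfl⟩ := hpd
        refine Or.inr ⟨c, ⟨?_, ha⟩, mul_comm _ _⟩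
        rw [mul_comm a p] at hd
        exact Nat.dvd_of_mul_dvd_mul_left hp.pos hd
      · exact Or.inl ⟨((hp.coprime_iff_not_dvd.2 hpd).symm).dvd_of_dvd_mul_right hd, ha⟩
    · rintro (⟨hd, -⟩ | ⟨c, ⟨hc, -⟩, rfl⟩)
      · exact ⟨hd.trans (dvd_mul_right a p), Nat.mul_ne_zero ha hp.ne_zero⟩
      · exact ⟨Nat.mul_dvd_mul_right hc p, Nat.mul_ne_zero ha hp.ne_zero⟩
  rw [h, Finset.sum_union, Finset.sum_image]
  · intro x _ y _ hxy
    exact Nat.eq_of_mul_eq_mul_right hp.pos hxy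
  · rw [Finset.disjoint_left]
    intro d hd hd'
    obtain ⟨c, -, rfl⟩ := Finset.mem_image.1 hd'
    exact hpa ((dvd_mul_left p c).trans (Nat.dvd_of_mem_divisors hd))

omit [Group G] [Finite G] in
theorem sum_divisors_prime' {p : ℕ} (hp : p.Prime) (f : ℕ → ℕ) :
    ∑ d ∈ p.divisors, f d = f 1 + f p := by
  rw [hp.divisors, Finset.sum_pair hp.one_lt.ne]

theorem sum_prime {p : ℕ} (hp : p.Prime) : ∑ d ∈ p.divisors, ocnt G d = 1 + ocnt G p := by
  rw [sum_divisors_prime' hp, ocnt_one]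

theorem sum_sq {p : ℕ} (hp : p.Prime) :
    ∑ d ∈ (p ^ 2).divisors, ocnt G d = 1 + ocnt G p + ocnt G (p ^ 2) := by
  rw [Nat.divisors_prime_pow hp, Finset.sum_map]
  simp [Finset.sum_range_succ, ocnt_one]

theorem sum_mul {p q : ℕ} (hp : p.Prime) (hq : q.Prime) (hpq : p ≠ q) :
    ∑ d ∈ (p * q).divisors, ocnt G d = 1 + ocnt G p + ocnt G q + ocnt G (p * q) := by
  rw [sum_divisors_mul_prime hq (fun h => hpq ((Nat.prime_dvd_prime_iff_eq hq hp).1 h).symm) hp.ne_zero,
    sum_divisors_prime' hp, sum_divisors_prime' hp, one_mul, ocnt_one]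
  ring

theorem dvd_one_add {p : ℕ} (hp : p.Prime) (h : p ∣ Nat.card G) : p ∣ 1 + ocnt G p := by
  rw [← sum_prime hp]
  exact dvd_sum_ocnt hp.ne_zero dvd_rfl h

theorem dvd_sq {p : ℕ} (hp : p.Prime) (h : p ∣ Nat.card G) : p ∣ ocnt G (p ^ 2) := by
  have h1 := dvd_sum_ocnt (G := G) (N := p ^ 2) (pow_ne_zero 2 hp.ne_zero) (dvd_pow_self p two_ne_zero) h
  rw [sum_sq hp] at h1
  exact (Nat.dvd_add_right (dvd_one_add hp h)).1 h1

theorem dvd_mul_left' {p q : ℕ} (hp : p.Prime) (hq : q.Prime) (hpq : p ≠ q) (h : p ∣ Nat.card G) :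
    p ∣ ocnt G q + ocnt G (p * q) := by
  have h1 := dvd_sum_ocnt (G := G) (N := p * q) (Nat.mul_ne_zero hp.ne_zero hq.ne_zero) (dvd_mul_right p q) h
  rw [sum_mul hp hq hpq, add_assoc] at h1
  exact (Nat.dvd_add_right (dvd_one_add hp h)).1 h1

/-- An element of prime order centralising no element of order `m` makes the count divisible. -/
theorem dvd_ocnt_of_no_commute {t : G} {r m : ℕ} (hr : r.Prime) (ht : orderOf t = r)
    (hfree : ∀ x : G, orderOf x = m → ¬ Commute t x) : r ∣ ocnt G m := by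
  haveI := Fact.mk hr
  let act : MulAction (Subgroup.zpowers t) {x : G // orderOf x = m} :=
    { smul := fun g x => ⟨(g : G) * x.1 * (g : G)⁻¹, by
        rw [← MulAut.conj_apply, MulEquiv.orderOf_eq]; exact x.2⟩
      one_smul := fun x => Subtype.ext (show ((1 : Subgroup.zpowers t) : G) * x.1 * _ = _ by simp)
      mul_smul := fun g h x => Subtype.ext
        (show ((g * h : Subgroup.zpowers t) : G) * x.1 * ((g * h : Subgroup.zpowers t) : G)⁻¹ =
          (g : G) * ((h : G) * x.1 * (h : G)⁻¹) * (g : G)⁻¹ by push_cast; group) }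
  have hP : IsPGroup r (Subgroup.zpowers t) := IsPGroup.of_card (n := 1) (by rw [Nat.card_zpowers, ht, pow_one])
  have h := hP.card_modEq_card_fixedPoints {x : G // orderOf x = m}
  have hempty : IsEmpty (MulAction.fixedPoints (Subgroup.zpowers t) {x : G // orderOf x = m}) := by
    refine ⟨fun ⟨x, hx⟩ => hfree x.1 x.2 ?_⟩
    have h2 : t * x.1 * t⁻¹ = x.1 := congrArg Subtype.val (hx ⟨t, Subgroup.mem_zpowers t⟩)
    exact mul_inv_eq_iff_eq_mul.1 h2
  rw [@Nat.card_of_isEmpty _ hempty] at h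
  exact Nat.modEq_zero_iff_dvd.1 h

/-- If there are few elements of order `a b`, some element of order `a` centralises none of order `b`. -/
theorem exists_no_commute {a b : ℕ} (hab : a.Coprime b) (hb : 3 ≤ b)
    (h : ocnt G (a * b) < 2 * ocnt G a) :
    ∃ u : G, orderOf u = a ∧ ∀ v : G, orderOf v = b → ¬ Commute u v := by
  classical
  by_contra hcon
  push Not at hcon
  choose v hv hc using hcon
  obtain ⟨e, he⟩ := H27.exists_split_exponent (G := G) hab
  refine absurd h (not_lt.2 ?_)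
  rw [ocnt, ocnt, mul_comm]
  let w : {g : G // orderOf g = a} → Bool → G := fun u i =>
    if i then v u.1 u.2 else (v u.1 u.2)⁻¹
  have hw : ∀ u i, orderOf (w u i) = b ∧ Commute u.1 (w u i) := by
    intro u i
    dsimp only [w]
    cases i
    · simp only [Bool.false_eq_true, if_false, orderOf_inv]
      exact ⟨hv _ _, (hc _ _).inv_right⟩
    · simp only [if_true]
      exact ⟨hv _ _, hc _ _⟩
  have h2 : Nat.card ({g : G // orderOf g = a} × Bool) = Nat.card {g : G // orderOf g = a} * 2 := by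
    rw [Nat.card_prod, Nat.card_eq_fintype_card (α := Bool), Fintype.card_bool]
  rw [← h2]
  refine Nat.card_le_card_of_injective (fun x => ⟨x.1.1 * w x.1 x.2, ?_⟩) ?_
  · obtain ⟨ho, hco⟩ := hw x.1 x.2
    rw [hco.orderOf_mul_eq_mul_orderOf_of_coprime (by rw [ho, x.1.2]; exact hab), ho, x.1.2]
  · rintro ⟨u, i⟩ ⟨u', i'⟩ heq
    have heq' : u.1 * w u i = u'.1 * w u' i' := congrArg Subtype.val heq
    have hrec : ∀ u i, (u.1 * w u i) ^ e = u.1 := fun u i =>
      he _ _ (hw u i).2 (orderOf_dvd_iff_pow_eq_one.1 (dvd_of_eq u.2)) (by rw [← (hw u i).1, pow_orderOf_eq_one])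
    have hu : u = u' := Subtype.ext (by rw [← hrec u i, heq', hrec u' i'])
    subst hu
    have h3 := mul_left_cancel heq'
    have h4 : v u.1 u.2 ≠ (v u.1 u.2)⁻¹ := by
      intro h5
      have : (v u.1 u.2) ^ 2 = 1 := by
        rw [pow_two]; nth_rewrite 2 [h5]; exact mul_inv_cancel _
      have := Nat.le_of_dvd (by norm_num) (orderOf_dvd_of_pow_eq_one this)
      rw [hv u.1 u.2] at this
      omega
    dsimp only [w] at h3
    cases i <;> cases i' <;> simp_all

/-- The norm identity for a family of elements of one order. -/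
theorem norm_eq_one {A : Type*} [CommGroup A] (ψ : G →* MulAut A) (B : Subgroup G) [Fintype B]
    (s : B → G) (q : ℕ) (hq : 0 < q) (τ : ℕ → G) (φ : ℕ → B → B)
    (hφ : ∀ k, 0 < k → k < q → Function.Bijective (φ k))
    (hs : ∀ x k, 0 < k → k < q → s x ^ k = (φ k x : G) * τ k)
    (hB : ∀ w : A, ∏ y : B, ψ (y : G) w = 1)
    (hS : ∀ x : B, ∀ w : A, ∏ k ∈ Finset.range q, ψ (s x ^ k) w = 1) (w : A) :
    w ^ Fintype.card B = 1 := by
  have h : ∏ k ∈ Finset.range q, ∏ x : B, ψ (s x ^ k) w = 1 := by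
    rw [Finset.prod_comm]
    exact Finset.prod_eq_one fun x _ => hS x w
  rw [Finset.prod_eq_single 0] at h
  · simpa using h
  · intro k hk hk0
    rw [Finset.mem_range] at hk
    have hk' : 0 < k := Nat.pos_of_ne_zero hk0
    refine (Fintype.prod_bijective (φ k) (hφ k hk' hk) _ (fun y : B => ψ (y : G) (ψ (τ k) w)) ?_).trans
      (hB _)
    intro x
    rw [hs x k hk' hk, map_mul, MulAut.mul_apply]
  · intro h0
    exact absurd (Finset.mem_range.2 hq) h0

end H26
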