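import Mathlib

/-!
Square matrices over the field with two elements packed row by row into one number, and their
product computed on the numbers.
-/

set_option autoImplicit false
set_option maxRecDepth 20000

namespace H26.BitCode

/-- Pack rows of width `m`. -/
def pk (m : ℕ) : List ℕ → ℕ
  | [] => 0
  | a :: l => a + 2 ^ m * pk m l

theorem testBit_pk (m : ℕ) : ∀ (l : List ℕ), (∀ a ∈ l, a < 2 ^ m) → ∀ i k, k < m →
    (pk m l).testBit (m * i + k) = (l.getD i 0).testBit k
  | [], _, i, k, _ => by simp [pk]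
  | a :: l, h, i, k, hk => by
    have ha := h a List.mem_cons_self
    rw [pk, add_comm a, Nat.testBit_two_pow_mul_add _ ha]
    cases i with
    | zero => simp [hk]
    | succ i =>
      have e : m * (i + 1) + k = m + (m * i + k) := by ring
      rw [if_neg (by omega), show m * (i + 1) + k - m = m * i + k by omega,
        testBit_pk m l (fun b hb => h b (List.mem_cons_of_mem _ hb)) i k hk]
      simp

theorem pk_lt (m : ℕ) : ∀ (l : List ℕ), (∀ a ∈ l, a < 2 ^ m) → pk m l < 2 ^ (m * l.length)
  | [], _ => by simp [pk]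
  | a :: l, h => by
    have ha := h a List.mem_cons_self
    have hl := pk_lt m l fun b hb => h b (List.mem_cons_of_mem _ hb)
    calc pk m (a :: l) < 2 ^ m + 2 ^ m * pk m l := by rw [pk]; omega
      _ = 2 ^ m * (pk m l + 1) := by ring
      _ ≤ 2 ^ m * 2 ^ (m * l.length) := Nat.mul_le_mul_left _ hl
      _ = 2 ^ (m * (a :: l).length) := by rw [← pow_add, List.length_cons]; ring_nf

theorem pk_mul (m : ℕ) : ∀ (l : List ℕ) (c : ℕ), pk m (l.map (· * c)) = pk m l * c
  | [], c => by simp [pk]
  | a :: l, c => by simp only [List.map_cons, pk, pk_mul m l c]; ring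

/-- One row of a code. -/
def rowC (m b j : ℕ) : ℕ := (b >>> (m * j)) % 2 ^ m

/-- Multiply codes; `ones` is the code with the lowest bit of every row. -/
noncomputable def mulW (m ones a b : ℕ) : ℕ :=
  Nat.rec (motive := fun _ => ℕ) 0
    (fun j acc => Nat.xor acc (((a >>> j) &&& ones) * rowC m b j)) m

/-- An entry. -/
def cbit (m c i k : ℕ) : Bool := c.testBit (m * i + k)

/-- A bit as a field element. -/
def b2 (b : Bool) : ZMod 2 := if b then 1 else 0

theorem b2_xor (a b : Bool) : b2 (a ^^ b) = b2 a + b2 b := by cases a <;> cases b <;> decide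

theorem b2_and (a b : Bool) : b2 (a && b) = b2 a * b2 b := by cases a <;> cases b <;> decide

theorem b2_inj {a b : Bool} (h : b2 a = b2 b) : a = b := by
  revert h; cases a <;> cases b <;> decide

theorem b2_decide (x : ZMod 2) : b2 (decide (x = 1)) = x := by revert x; decide

variable {m : ℕ}

/-- The code with the lowest bit of every row. -/
def onesOf (m : ℕ) : ℕ := pk m (List.replicate m 1)

theorem lt_two_pow_of_testBit {x n : ℕ} (h : ∀ j, n ≤ j → x.testBit j = false) : x < 2 ^ n :=
  Nat.lt_pow_two_of_testBit x h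

theorem index_cases (hm : 0 < m) (n : ℕ) : ∃ i k, k < m ∧ n = m * i + k :=
  ⟨n / m, n % m, Nat.mod_lt _ hm, (Nat.div_add_mod n m).symm⟩

theorem lt_of_index {i k : ℕ} (h : m * i + k < m * m) : i < m := by
  by_contra hi
  have := Nat.mul_le_mul_left m (not_lt.1 hi)
  omega

theorem replicate_lt (hm : 0 < m) : ∀ a ∈ List.replicate m 1, a < 2 ^ m := fun a ha => by
  rw [List.eq_of_mem_replicate ha]
  exact Nat.one_lt_two_pow hm.ne'

theorem shift_mask (hm : 0 < m) (a j : ℕ) (hj : j < m) :
    (a >>> j) &&& onesOf m = pk m ((List.range m).map fun i => (cbit m a i j).toNat) := by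
  have hl : ∀ x ∈ (List.range m).map (fun i => (cbit m a i j).toNat), x < 2 ^ m := fun x hx => by
    obtain ⟨i, -, rfl⟩ := List.mem_map.1 hx
    exact (Bool.toNat_le _).trans_lt (Nat.one_lt_two_pow hm.ne')
  apply Nat.eq_of_testBit_eq
  intro n
  by_cases hn : n < m * m
  · obtain ⟨i, k, hk, rfl⟩ := index_cases hm n
    have hi : i < m := lt_of_index hn
    rw [Nat.testBit_and, Nat.testBit_shiftRight, onesOf, testBit_pk _ _ (replicate_lt hm) _ _ hk,
      testBit_pk _ _ hl _ _ hk, List.getD_eq_getElem _ _ (by simpa using hi),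
      List.getD_eq_getElem _ _ (by simpa using hi), List.getElem_map, List.getElem_range,
      List.getElem_replicate]
    cases k with
    | zero =>
      rw [show j + (m * i + 0) = m * i + j by omega]
      show (cbit m a i j && _) = _
      cases cbit m a i j <;> simp
    | succ k =>
      cases cbit m a i j <;> simp [Nat.testBit_succ]
  · have h1 : onesOf m < 2 ^ n := lt_of_lt_of_le (pk_lt _ _ (replicate_lt hm))
      (Nat.pow_le_pow_right (by norm_num) (by simp; omega))
    have h2 := lt_of_lt_of_le (pk_lt _ _ hl) (Nat.pow_le_pow_right (n := 2) (by norm_num)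
      (show m * ((List.range m).map fun i => (cbit m a i j).toNat).length ≤ n by simp; omega))
    rw [Nat.testBit_lt_two_pow (lt_of_le_of_lt Nat.and_le_right h1), Nat.testBit_lt_two_pow h2]

theorem rowC_lt (b j : ℕ) : rowC m b j < 2 ^ m := Nat.mod_lt _ (Nat.two_pow_pos m)

theorem summand_bit (hm : 0 < m) (a b j : ℕ) (hj : j < m) (i k : ℕ) (hi : i < m) (hk : k < m) :
    (((a >>> j) &&& onesOf m) * rowC m b j).testBit (m * i + k) =
      (cbit m a i j && cbit m b j k) := by
  rw [shift_mask hm a j hj, ← pk_mul, List.map_map, testBit_pk _ _ ?_ _ _ hk,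
    List.getD_eq_getElem _ _ (by simpa using hi), List.getElem_map, List.getElem_range]
  · simp only [Function.comp]
    have e : (rowC m b j).testBit k = cbit m b j k := by
      rw [rowC, Nat.testBit_mod_two_pow, Nat.testBit_shiftRight]
      simp [hk, cbit]
    cases cbit m a i j <;> simp [e]
  · intro x hx
    obtain ⟨i', -, rfl⟩ := List.mem_map.1 hx
    simp only [Function.comp]
    cases cbit m a i' j <;> simp [rowC_lt]

theorem summand_lt (hm : 0 < m) (a b j : ℕ) (hj : j < m) :
    ((a >>> j) &&& onesOf m) * rowC m b j < 2 ^ (m * m) := by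
  rw [shift_mask hm a j hj, ← pk_mul]
  refine (pk_lt _ _ fun x hx => ?_).trans_le (Nat.pow_le_pow_right (by norm_num) (by simp))
  simp only [List.mem_map] at hx
  obtain ⟨y, ⟨i', -, rfl⟩, rfl⟩ := hx
  cases cbit m a i' j <;> simp [rowC_lt]

variable {ones : ℕ}

theorem mulW_spec (hm : 0 < m) (ho : ones = onesOf m) (a b i k : ℕ) (hi : i < m) (hk : k < m) :
    b2 (cbit m (mulW m ones a b) i k) =
      ∑ j : Fin m, b2 (cbit m a i j.val) * b2 (cbit m b j.val k) := by
  subst ho
  have key : ∀ n ≤ m, b2 ((Nat.rec (motive := fun _ => ℕ) 0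
      (fun j acc => Nat.xor acc (((a >>> j) &&& onesOf m) * rowC m b j)) n).testBit (m * i + k)) =
      ∑ j : Fin n, b2 (cbit m a i j.val) * b2 (cbit m b j.val k) := by
    intro n
    induction n with
    | zero => intro _; simp [b2]
    | succ n ih =>
      intro hn
      rw [Fin.sum_univ_castSucc]
      simp only [Fin.val_castSucc, Fin.val_last]
      rw [← ih (by omega)]
      show b2 (Nat.testBit (_ ^^^ _) _) = _
      rw [Nat.testBit_xor, b2_xor, summand_bit hm a b n (by omega) i k hi hk, b2_and]
  exact key m le_rfl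

theorem mulW_lt (hm : 0 < m) (ho : ones = onesOf m) (a b : ℕ) :
    mulW m ones a b < 2 ^ (m * m) := by
  subst ho
  have key : ∀ n ≤ m, (Nat.rec (motive := fun _ => ℕ) 0
      (fun j acc => Nat.xor acc (((a >>> j) &&& onesOf m) * rowC m b j)) n) < 2 ^ (m * m) := by
    intro n
    induction n with
    | zero => intro _; exact Nat.two_pow_pos _
    | succ n ih =>
      intro hn
      exact Nat.xor_lt_two_pow (ih (by omega)) (summand_lt hm a b n (by omega))
  exact key m le_rfl

/-- The code of a matrix. -/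
def codeM (A : Matrix (Fin m) (Fin m) (ZMod 2)) : ℕ :=
  pk m (List.ofFn fun i : Fin m => Nat.ofBits fun k : Fin m => decide (A i k = 1))

/-- The matrix of a code. -/
def matC (m c : ℕ) : Matrix (Fin m) (Fin m) (ZMod 2) := fun i k => b2 (cbit m c i.val k.val)

theorem rows_lt (A : Matrix (Fin m) (Fin m) (ZMod 2)) :
    ∀ x ∈ List.ofFn fun i : Fin m => Nat.ofBits fun k : Fin m => decide (A i k = 1), x < 2 ^ m :=
  fun x hx => by obtain ⟨a, rfl⟩ := List.mem_ofFn.1 hx; exact Nat.ofBits_lt_two_pow _

theorem matC_codeM (A : Matrix (Fin m) (Fin m) (ZMod 2)) : matC m (codeM A) = A := by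
  ext i k
  rw [matC, cbit, codeM, testBit_pk _ _ (rows_lt A) _ _ k.isLt, List.getD_eq_getElem _ _ (by simp),
    List.getElem_ofFn, Nat.testBit_ofBits_lt _ _ k.isLt]
  exact b2_decide _

theorem codeM_injective : Function.Injective (codeM (m := m)) := fun A B h => by
  rw [← matC_codeM A, h, matC_codeM]

theorem codeM_lt (A : Matrix (Fin m) (Fin m) (ZMod 2)) : codeM A < 2 ^ (m * m) :=
  (pk_lt _ _ (rows_lt A)).trans_le (Nat.pow_le_pow_right (by norm_num) (by simp))

theorem matC_inj (hm : 0 < m) {x y : ℕ} (hx : x < 2 ^ (m * m)) (hy : y < 2 ^ (m * m))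
    (h : matC m x = matC m y) : x = y := by
  apply Nat.eq_of_testBit_eq
  intro n
  by_cases hn : n < m * m
  · obtain ⟨i, k, hk, rfl⟩ := index_cases hm n
    exact b2_inj (congrFun (congrFun h ⟨i, lt_of_index hn⟩) ⟨k, hk⟩)
  · have hle : 2 ^ (m * m) ≤ 2 ^ n := Nat.pow_le_pow_right (by norm_num) (by omega)
    rw [Nat.testBit_lt_two_pow (hx.trans_le hle), Nat.testBit_lt_two_pow (hy.trans_le hle)]

theorem matC_mul (hm : 0 < m) (ho : ones = onesOf m) (x y : ℕ) :
    matC m (mulW m ones x y) = matC m x * matC m y := by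
  ext i k
  rw [Matrix.mul_apply]
  exact mulW_spec hm ho x y i.val k.val i.isLt k.isLt

theorem codeM_matC (hm : 0 < m) {c : ℕ} (hc : c < 2 ^ (m * m)) : codeM (matC m c) = c :=
  matC_inj hm (codeM_lt _) hc (matC_codeM _)

theorem codeM_mul (hm : 0 < m) (ho : ones = onesOf m) (A B : Matrix (Fin m) (Fin m) (ZMod 2)) :
    codeM (A * B) = mulW m ones (codeM A) (codeM B) := by
  refine matC_inj hm (codeM_lt _) (mulW_lt hm ho _ _) ?_
  rw [matC_mul hm ho, matC_codeM, matC_codeM, matC_codeM]

end H26.BitCode
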