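import Cfsg.Agent.H97.SchurCertGen

/-!
Linear algebra of multiplier certificates on lists of exponents, each path being evaluated once.
-/

set_option autoImplicit false

namespace H26.CertLin

open H97.SchurCert

/-- Add exponent lists. -/
def addL : List ℕ → List ℕ → List ℕ
  | [], l => l
  | a :: x, [] => a :: x
  | a :: x, b :: y => (a + b) :: addL x y

/-- Raise one exponent by one. -/
def bump : ℕ → List ℕ → List ℕ
  | 0, [] => [1]
  | 0, a :: l => (a + 1) :: l
  | i + 1, [] => 0 :: bump i []
  | i + 1, a :: l => a :: bump i l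

/-- The exponents of a list of indices. -/
def countL (v : List ℕ) : List ℕ := v.foldr bump []

/-- Add a list several times. -/
def addN : ℕ → List ℕ → List ℕ → List ℕ
  | 0, _, r => r
  | k + 1, x, r => addL x (addN k x r)

/-- The exponents of a combination. -/
def comboL (vecs : List (List ℕ)) : List (ℕ × ℕ) → List ℕ
  | [] => []
  | (e, c) :: l => addN c (vecs.getD e []) (comboL vecs l)

/-- One combination isolates its target. -/
def targetOK (p t : ℕ) (dr : List ℕ) (res : List ℕ) : Bool :=
  decide (t < res.length) && (List.range res.length).all fun i =>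
    dr.contains i || res.getD i 0 % p == if i == t then 1 else 0

/-- The vectors are the exponents of the paths and each combination isolates its target. -/
def combosLOK (D : Data) (vecs : List (List ℕ)) : Bool :=
  ((List.range vecs.length).all fun e => countL (pathVec D e) == vecs.getD e []) &&
  (let dr := D.defs.map Prod.fst
   (List.range D.targets.length).all fun k => !dr.contains (D.targets.getD k 0) &&
    targetOK D.p (D.targets.getD k 0) dr (comboL vecs (D.combos.getD k [])))

variable {K : Type} [CommGroup K] (Z : ℕ → K)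

/-- The value of an exponent list. -/
def evL : ℕ → List ℕ → K
  | _, [] => 1
  | s, a :: l => Z s ^ a * evL (s + 1) l

theorem evL_addL : ∀ (x y : List ℕ) (s : ℕ), evL Z s (addL x y) = evL Z s x * evL Z s y
  | [], y, s => by simp [addL, evL]
  | a :: x, [], s => by simp [addL, evL]
  | a :: x, b :: y, s => by
    simp only [addL, evL, evL_addL x y (s + 1), pow_add]
    exact mul_mul_mul_comm _ _ _ _

theorem evL_bump : ∀ (i : ℕ) (l : List ℕ) (s : ℕ), evL Z s (bump i l) = Z (s + i) * evL Z s l
  | 0, [], s => by simp [bump, evL]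
  | 0, a :: l, s => by simp [bump, evL, pow_succ', mul_assoc]
  | i + 1, [], s => by
    simp only [bump, evL, evL_bump i [] (s + 1), pow_zero, one_mul, mul_one]
    rw [Nat.add_assoc, Nat.add_comm 1 i]
  | i + 1, a :: l, s => by
    simp only [bump, evL, evL_bump i l (s + 1)]
    rw [Nat.add_assoc, Nat.add_comm 1 i]
    exact mul_left_comm _ _ _

theorem evL_countL : ∀ v : List ℕ, evL Z 0 (countL v) = evG Z v
  | [] => by simp [countL, evL, evG]
  | a :: v => by
    rw [show countL (a :: v) = bump a (countL v) from rfl, evL_bump, evL_countL v, Nat.zero_add]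
    simp [evG]

theorem evL_addN (x r : List ℕ) : ∀ k, evL Z 0 (addN k x r) = evL Z 0 x ^ k * evL Z 0 r
  | 0 => by simp [addN]
  | k + 1 => by rw [addN, evL_addL, evL_addN x r k, pow_succ', mul_assoc]

theorem evL_single {t : ℕ} : ∀ (l : List ℕ) (s : ℕ),
    (∀ i < l.length, Z (s + i) ^ l.getD i 0 = if s + i = t then Z t else 1) →
      evL Z s l = if s ≤ t ∧ t < s + l.length then Z t else 1
  | [], s, _ => by simp [evL]
  | a :: l, s, h => by
    have h0 : Z s ^ a = if s = t then Z t else 1 := by
      simpa using h 0 (by simp)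
    have h1 := evL_single l (s + 1) fun i hi => by
      have := h (i + 1) (by simp; omega)
      simpa [Nat.add_assoc, Nat.add_comm 1 i, List.getD_cons_succ] using this
    rw [evL, h0, h1, List.length_cons]
    by_cases hst : s = t
    · subst hst; simp
    · rw [if_neg hst, one_mul]
      exact if_congr ⟨fun h => ⟨by omega, by omega⟩, fun h => ⟨by omega, by omega⟩⟩ rfl rfl

theorem kill_of_lists {D : Data} {vecs : List (List ℕ)} (h : combosLOK D vecs = true) :
    ∀ (K : Type) [CommGroup K] (Z : ℕ → K), (∀ i, Z i ^ D.p = 1) →
      (∀ d ∈ D.defs, Z d.1 = 1) → (∀ e, evG Z (pathVec D e) = 1) → ∀ t ∈ D.targets, Z t = 1 := by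
  intro K _ Z hexp hdef hpath
  simp only [combosLOK, Bool.and_eq_true, beq_iff_eq, List.all_eq_true, List.mem_range] at h
  obtain ⟨hv, hc⟩ := h
  have hvec : ∀ e, evL Z 0 (vecs.getD e []) = 1 := fun e => by
    by_cases he : e < vecs.length
    · rw [← hv e he, evL_countL, hpath]
    · rw [List.getD_eq_default _ _ (Nat.le_of_not_lt he)]; rfl
  have hcombo : ∀ c : List (ℕ × ℕ), evL Z 0 (comboL vecs c) = 1 := by
    intro c
    induction c with
    | nil => rfl
    | cons q c ih => rw [comboL, evL_addN, hvec, ih, one_pow, one_mul]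
  intro t ht
  obtain ⟨k, hk, rfl⟩ := List.getElem_of_mem ht
  obtain ⟨hnd, hok⟩ := hc k hk
  rw [List.getD_eq_getElem _ _ hk] at hok
  simp only [targetOK, Bool.and_eq_true, decide_eq_true_eq, List.all_eq_true, List.mem_range,
    Bool.or_eq_true, beq_iff_eq, List.contains_iff_mem] at hok
  obtain ⟨hlt, hi⟩ := hok
  rw [List.getD_eq_getElem _ _ hk] at hnd
  simp only [Bool.not_eq_true', List.contains_eq_mem, decide_eq_false_iff_not] at hnd
  have key := evL_single Z (t := D.targets[k]) (comboL vecs (D.combos.getD k [])) 0 fun i hi' => by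
    rw [Nat.zero_add]
    rcases hi i hi' with hd | hd
    · obtain ⟨d, hd', rfl⟩ := List.mem_map.1 hd
      rw [hdef d hd', one_pow, if_neg]
      exact fun e => hnd (e ▸ hd)
    · rw [← Nat.mod_add_div ((comboL vecs (D.combos.getD k [])).getD i 0) D.p, pow_add, pow_mul,
        hexp, one_pow, mul_one, hd]
      by_cases hit : i = D.targets[k]
      · rw [if_pos hit, if_pos hit, pow_one, hit]
      · rw [if_neg hit, if_neg hit, pow_zero]
  rw [hcombo, if_pos ⟨Nat.zero_le _, by omega⟩] at key
  exact key.symm

theorem big_of_size {G : Type} [Group G] [Finite G] {op : ℕ → ℕ → ℕ} {one : ℕ} (C : Coding G op one)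
    (D : Data) (h : sizeOK op one D = true) (val : ℕ → G)
    (hval : ∀ i, C.code (val i) = D.syms.getD i one) :
    D.p ^ D.n ≤ Nat.card (Subgroup.closure (val '' {k | k < D.n})) := by
  simp only [sizeOK, Bool.and_eq_true, decide_eq_true_eq, beq_iff_eq] at h
  obtain ⟨⟨-, hlen⟩, hinc⟩ := h
  let w : ℕ → List ℕ := fun e =>
    (List.range D.n).flatMap fun i => List.replicate (e / D.p ^ i % D.p) i
  let f : Fin D.sorted.length → Subgroup.closure (val '' {k | k < D.n}) := fun a =>
    ⟨evG val (w D.sorted[a.val]), evG_mem (S := (Subgroup.closure _).toSubmonoid) fun s hs => by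
      obtain ⟨i, hi, hs⟩ := List.mem_flatMap.1 hs
      exact Subgroup.subset_closure
        ⟨s, (List.eq_of_mem_replicate hs).symm ▸ List.mem_range.1 hi, rfl⟩⟩
  have hf : Function.Injective f := by
    intro a b he
    have he' := congrArg (fun g => C.code (Subtype.val g)) he
    simp only [f, evG_code C val D.syms _ hval] at he'
    have hn := List.pairwise_iff_getElem.1 ((increasing_nodup _ hinc).imp fun h => ne_of_lt h)
    by_contra hne
    rcases Nat.lt_or_gt_of_ne (fun e => hne (Fin.ext e)) with hl | hl
    · have := hn a.val b.val (by simp) (by simp) hl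
      simp only [List.getElem_map] at this
      exact this he'
    · have := hn b.val a.val (by simp) (by simp) hl
      simp only [List.getElem_map] at this
      exact this he'.symm
  have := Nat.card_le_card_of_injective f hf
  rwa [Nat.card_fin, hlen] at this

end H26.CertLin
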