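import Mathlib
import Cfsg.Prelude.Def_Transfer
import Cfsg.Agent.H27.PiClasses
import Cfsg.Agent.H5.Frobenius

/-!
# Many classes of `p`-elements force a normal `p`-complement
-/

set_option autoImplicit false
set_option linter.style.haveILetI false
set_option linter.unusedSectionVars false

namespace H26

open Subgroup

universe u v

/-- the number of classes of elements killed by `n`. -/
noncomputable abbrev kPow (G : Type u) [Group G] (n : ℕ) : ℕ :=
  Nat.card {C : ConjClasses G // ∃ g : G, ConjClasses.mk g = C ∧ g ^ n = 1}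

theorem kPow_mul_le {G : Type u} [Group G] [Finite G] {a b : ℕ} (hb : b ≠ 0) (hcop : a.Coprime b)
    (hfull : ∀ q : ℕ, q.Prime → q ∣ b → (Nat.card G).factorization q ≤ b.factorization q) :
    kPow G (a * b) ≤ kPow G a * b := by
  classical
  let Y := {C : ConjClasses G // ∃ g : G, ConjClasses.mk g = C ∧ g ^ a = 1}
  let rep : Y → G := fun C => C.2.choose
  have hrep : ∀ C : Y, ConjClasses.mk (rep C) = C.1 ∧ rep C ^ a = 1 := fun C => C.2.choose_spec
  let Z : Y → Type u := fun C =>
    {D : ConjClasses (centralizer ({rep C} : Set G)) // ∃ g, ConjClasses.mk g = D ∧ g ^ b = 1}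
  have hZ : ∀ C : Y, Nat.card (Z C) ≤ b := fun C =>
    H27.card_classes_pow_eq_one_le b hb _ fun q hq hqb =>
      le_trans ((Nat.factorization_le_iff_dvd Nat.card_pos.ne' Nat.card_pos.ne').mpr
        (Subgroup.card_subgroup_dvd_card _) q) (hfull q hq hqb)
  cases nonempty_fintype Y
  calc kPow G (a * b) ≤ Nat.card (Σ C : Y, Z C) := by
        refine Nat.card_le_card_of_surjective (fun t =>
          ⟨ConjClasses.mk (rep t.1 * (t.2.2.choose : G)), _, rfl, ?_⟩) ?_
        · have hc : Commute (rep t.1) (t.2.2.choose : G) := H27.mem_cent_comm.mp t.2.2.choose.2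
          have h2 : (t.2.2.choose : G) ^ b = 1 := congrArg Subtype.val t.2.2.choose_spec.2
          rw [hc.mul_pow, pow_mul, (hrep t.1).2, one_pow, one_mul, mul_comm, pow_mul, h2, one_pow]
        · rintro ⟨C, g, rfl, hg⟩
          obtain ⟨y, z, hyz, hy, hz, rfl⟩ := H27.exists_split hcop hg
          let C₀ : Y := ⟨ConjClasses.mk y, y, rfl, hy⟩
          obtain ⟨x, hx⟩ := isConj_iff.mp (ConjClasses.mk_eq_mk_iff_isConj.mp (hrep C₀).1.symm)
          have hz' : x * z * x⁻¹ ∈ centralizer ({rep C₀} : Set G) := by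
            rw [H27.mem_cent_comm, ← hx]
            simpa [MulAut.conj_apply] using hyz.map (MulAut.conj x).toMonoidHom
          let D₀ : Z C₀ := ⟨ConjClasses.mk ⟨_, hz'⟩, _, rfl, Subtype.ext (by simp [hz])⟩
          refine ⟨⟨C₀, D₀⟩, Subtype.ext ?_⟩
          obtain ⟨c, hc⟩ := isConj_iff.mp
            (ConjClasses.mk_eq_mk_iff_isConj.mp D₀.2.choose_spec.1)
          have hc' : (c : G) * (D₀.2.choose : G) * (c : G)⁻¹ = x * z * x⁻¹ :=
            congrArg Subtype.val hc
          refine ConjClasses.mk_eq_mk_iff_isConj.mpr (isConj_iff.mpr ⟨x⁻¹ * c, ?_⟩)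
          calc x⁻¹ * (c : G) * (rep C₀ * (D₀.2.choose : G)) * (x⁻¹ * (c : G))⁻¹
              = x⁻¹ * ((c : G) * rep C₀ * (c : G)⁻¹ *
                  ((c : G) * (D₀.2.choose : G) * (c : G)⁻¹)) * x := by group
            _ = x⁻¹ * (rep C₀ * (x * z * x⁻¹)) * x := by
                rw [hc', H27.mem_cent.mp c.2, mul_inv_cancel_right]
            _ = y * z := by rw [← hx]; group
    _ = ∑ C : Y, Nat.card (Z C) := Nat.card_sigma
    _ ≤ ∑ _C : Y, b := Finset.sum_le_sum fun C _ => hZ C
    _ = Nat.card Y * b := by simp [Nat.card_eq_fintype_card]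

/-- predicate-free version: the number of classes meeting the subset `R`. -/
noncomputable abbrev kSet {G : Type u} [Group G] (R : Set G) : ℕ :=
  Nat.card {C : ConjClasses G // ∃ g ∈ R, ConjClasses.mk g = C}

/-- counting classes with weights. -/
theorem mul_kSet_le {G : Type u} [Group G] [Finite G] (R : Subgroup G) (N : ℕ) (w : R → ℕ)
    (hw : ∀ x : R, ∃ S : Finset R, (∀ z ∈ S, IsConj (x : G) (z : G)) ∧ N ≤ ∑ z ∈ S, w z)
    [Fintype R] : N * kSet (R : Set G) ≤ ∑ x : R, w x := by
  classical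
  cases nonempty_fintype {C : ConjClasses G // ∃ g ∈ (R : Set G), ConjClasses.mk g = C}
  rw [← Finset.sum_fiberwise_of_maps_to (t := Finset.univ)
    (g := fun x : R => (⟨ConjClasses.mk (x : G), x, x.2, rfl⟩ :
      {C : ConjClasses G // ∃ g ∈ (R : Set G), ConjClasses.mk g = C})) (fun _ _ => Finset.mem_univ _)]
  rw [kSet, Nat.card_eq_fintype_card, mul_comm, ← Finset.card_univ, ← smul_eq_mul,
    ← Finset.sum_const]
  refine Finset.sum_le_sum fun C _ => ?_
  obtain ⟨C, g, hg, rfl⟩ := C
  obtain ⟨S, hS, hN⟩ := hw ⟨g, hg⟩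
  refine hN.trans (Finset.sum_le_sum_of_subset fun z hz => ?_)
  rw [Finset.mem_filter]
  exact ⟨Finset.mem_univ _, Subtype.ext (ConjClasses.mk_eq_mk_iff_isConj.2 (hS z hz).symm)⟩

section Fusion

variable {G : Type u} [Group G] [Finite G] {p q : ℕ}

theorem kPow_eq_kSet [Fact p.Prime] (R : Sylow p G) {e : ℕ}
    (he : Nat.card (R : Subgroup G) = p ^ e) :
    kPow G (p ^ e) = kSet ((R : Subgroup G) : Set G) := by
  refine Nat.card_congr (Equiv.subtypeEquivRight fun C => ⟨?_, ?_⟩)
  · rintro ⟨g, rfl, hg⟩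
    obtain ⟨i, -, hi⟩ := (Nat.dvd_prime_pow Fact.out).mp (orderOf_dvd_of_pow_eq_one hg)
    obtain ⟨Q, hQ⟩ := IsPGroup.exists_le_sylow
      (IsPGroup.of_card (p := p) (G := zpowers g) (n := i) (by rw [Nat.card_zpowers, hi]))
    obtain ⟨x, hx⟩ := MulAction.exists_smul_eq G Q R
    refine ⟨x * g * x⁻¹, ?_, ConjClasses.mk_eq_mk_iff_isConj.mpr (isConj_iff.mpr ⟨x⁻¹, by group⟩)⟩
    rw [← hx, Sylow.coe_subgroup_smul]
    exact Subgroup.mem_map_of_mem (MulAut.conj x).toMonoidHom (hQ (mem_zpowers g))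
  · rintro ⟨g, hg, rfl⟩
    refine ⟨g, rfl, ?_⟩
    rw [← he]
    exact congrArg Subtype.val (pow_card_eq_one' (x := (⟨g, hg⟩ : (R : Subgroup G))))

/-- a prime-power element acting nontrivially can be chosen normalising a `p`-subgroup that
contains the centre of a Sylow subgroup above it. -/
theorem exists_good_pair (hp : Fact p.Prime) (hq : q.Prime) (hqp : q ≠ p) {Q : Subgroup G}
    (hQ : IsPGroup p Q) {x : G} (hxQ : x ∈ normalizer (Q : Set G)) {i : ℕ}
    (hx : x ^ q ^ i = 1) (hxc : x ∉ centralizer (Q : Set G)) :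
    ∃ (R : Sylow p G) (T : Subgroup G) (y : G) (j : ℕ), T ≤ (R : Subgroup G) ∧
      (R : Subgroup G) ⊓ centralizer (T : Set G) ≤ T ∧ y ∈ normalizer (T : Set G) ∧
      y ^ q ^ j = 1 ∧ y ∉ centralizer (T : Set G) := by
  classical
  let N := normalizer (Q : Set G)
  let C := centralizer (Q : Set G)
  have hQN : Q ≤ N := le_normalizer
  have hCN : C ≤ N := centralizer_le_normalizer _
  haveI hQn : (Q.subgroupOf N).Normal := normal_in_normalizer
  haveI hCn : (C.subgroupOf N).Normal := H5.centralizer_subgroupOf_normalizer_normal Q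
  let D : Subgroup N := Q.subgroupOf N ⊔ C.subgroupOf N
  have hQ' : IsPGroup p (Q.subgroupOf N) := hQ.comap_subtype
  obtain ⟨S₀, hS₀⟩ := hQ'.exists_le_sylow (p := p)
  let SD : Sylow p D := Classical.arbitrary _
  obtain ⟨P₀, hP₀⟩ : ∃ P₀ : Sylow p D, (Q.subgroupOf N).subgroupOf D ≤ P₀ :=
    (hQ'.comap_subtype (K := D)).exists_le_sylow
  -- a Sylow subgroup of `G` above it
  have hP₀' : IsPGroup p (((P₀ : Subgroup D).map D.subtype).map N.subtype) :=
    (P₀.isPGroup'.map _).map _
  obtain ⟨R, hR⟩ := hP₀'.exists_le_sylow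
  let T : Subgroup G := ((P₀ : Subgroup D).map D.subtype).map N.subtype
  have hQT : Q ≤ T := fun a ha => by
    have h1 : (⟨a, hQN ha⟩ : N) ∈ D := mem_sup_left ha
    exact ⟨⟨a, hQN ha⟩, ⟨⟨_, h1⟩, hP₀ ha, rfl⟩, rfl⟩
  have hTc : (R : Subgroup G) ⊓ centralizer (T : Set G) ≤ T := by
    rintro a ⟨haR, haC⟩
    have haQ : a ∈ C := centralizer_le hQT haC
    have haD : (⟨a, hCN haQ⟩ : N) ∈ D := mem_sup_right haQ
    let a' : D := ⟨⟨a, hCN haQ⟩, haD⟩
    have hsupp : IsPGroup p (((P₀ : Subgroup D) ⊔ zpowers a') : Subgroup D) := by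
      have hle : ((P₀ : Subgroup D) ⊔ zpowers a').map (N.subtype.comp D.subtype) ≤
          (R : Subgroup G) := by
        rw [Subgroup.map_sup, sup_le_iff, ← Subgroup.map_map, MonoidHom.map_zpowers, zpowers_le]
        exact ⟨hR, haR⟩
      exact (R.isPGroup'.to_le hle).of_equiv ((equivMapOfInjective _ _
        ((N.subtype_injective.comp D.subtype_injective : Function.Injective (N.subtype.comp D.subtype)))).symm)
    have h2 : ((P₀ : Subgroup D) ⊔ zpowers a') = (P₀ : Subgroup D) :=
      P₀.is_maximal' hsupp le_sup_left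
    have h3 : a' ∈ (P₀ : Subgroup D) := h2 ▸ mem_sup_right (mem_zpowers a')
    exact ⟨_, ⟨a', h3, rfl⟩, rfl⟩
  -- Frattini
  obtain ⟨c, hc, m, hm, hcm⟩ : ∃ c ∈ D, ∃ m ∈ normalizer (((P₀ : Subgroup D).map D.subtype : Subgroup N) : Set N),
      c * m = ⟨x, hxQ⟩ := by
    have h1 := Sylow.normalizer_sup_eq_top P₀
    rw [sup_comm] at h1
    exact mem_sup_of_normal_left.1 (h1 ▸ mem_top (⟨x, hxQ⟩ : N))
  -- the q-part of m
  obtain ⟨a, b, hb, hab⟩ : ∃ a b : ℕ, ¬ q ∣ b ∧ orderOf (m : G) = q ^ a * b :=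
    ⟨_, _, Nat.not_dvd_ordCompl hq (orderOf_pos _).ne',
      (Nat.ordProj_mul_ordCompl_eq_self (orderOf (m : G)) q).symm⟩
  obtain ⟨k, hk, hk'⟩ : ∃ k, b ∣ k ∧ k ≡ 1 [MOD q ^ i] := by
    by_cases hi1 : q ^ i = 1
    · exact ⟨0, dvd_zero b, by rw [hi1]; exact Nat.modEq_one⟩
    · obtain ⟨b', -, hb'⟩ := Nat.exists_mul_mod_eq_one_of_coprime
        (((hq.coprime_iff_not_dvd).2 hb).symm.pow_right i)
        (lt_of_le_of_ne (Nat.one_le_pow _ _ hq.pos) (Ne.symm hi1))
      exact ⟨b * b', dvd_mul_right _ _, by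
        rw [Nat.ModEq, hb', Nat.mod_eq_of_lt (lt_of_le_of_ne (Nat.one_le_pow _ _ hq.pos) (Ne.symm hi1))]⟩
  refine ⟨R, T, (m : G) ^ k, a, hR, hTc, ?_, ?_, ?_⟩
  · refine pow_mem (?_ : (m : G) ∈ normalizer (T : Set G)) k
    exact le_normalizer_map N.subtype ⟨m, hm, rfl⟩
  · rw [← pow_mul, ← orderOf_dvd_iff_pow_eq_one, hab, mul_comm k]
    exact Nat.mul_dvd_mul_left _ hk
  · intro hy
    have hxk : x ^ k = x := by
      have := (pow_eq_pow_iff_modEq (x := x)).2 (hk'.of_dvd (orderOf_dvd_of_pow_eq_one hx))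
      rwa [pow_one] at this
    haveI : D.Normal := sup_normal _ _
    have hmC : (m ^ k : N) ∈ D := mem_sup_right (show ((m ^ k : N) : G) ∈ C from by
      rw [SubmonoidClass.coe_pow]; exact centralizer_le hQT hy)
    have hxD : (⟨x, hxQ⟩ : N) ∈ D := by
      rw [← QuotientGroup.eq_one_iff]
      have e : (⟨x, hxQ⟩ : N) = (⟨x, hxQ⟩ : N) ^ k := Subtype.ext (by simp [hxk])
      rw [e, QuotientGroup.mk_pow, ← hcm, QuotientGroup.mk_mul, (QuotientGroup.eq_one_iff c).2 hc,
        one_mul, ← QuotientGroup.mk_pow, QuotientGroup.eq_one_iff]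
      exact hmC
    obtain ⟨u, hu, v, hv, huv⟩ := mem_sup_of_normal_left.1 hxD
    apply hxc
    -- the image of `x` modulo the centralizer is a `p`-element of `q`-power order
    obtain ⟨l, hl⟩ := hQ' ⟨u, hu⟩
    have h1 : (QuotientGroup.mk (⟨x, hxQ⟩ : N) : N ⧸ C.subgroupOf N) = QuotientGroup.mk u := by
      rw [← huv, QuotientGroup.mk_mul, (QuotientGroup.eq_one_iff v).2 hv, mul_one]
    have h2 : orderOf (QuotientGroup.mk u : N ⧸ C.subgroupOf N) ∣ p ^ l := by
      rw [orderOf_dvd_iff_pow_eq_one, ← QuotientGroup.mk_pow, show u ^ p ^ l = 1 from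
        congrArg Subtype.val hl, QuotientGroup.mk_one]
    have h3 : orderOf (QuotientGroup.mk u : N ⧸ C.subgroupOf N) ∣ q ^ i := by
      rw [← h1, orderOf_dvd_iff_pow_eq_one, ← QuotientGroup.mk_pow,
        show (⟨x, hxQ⟩ : N) ^ q ^ i = 1 from Subtype.ext (by simp [hx]), QuotientGroup.mk_one]
    have h4 := Nat.eq_one_of_dvd_coprimes
      (((Nat.coprime_primes hp.out hq).2 (Ne.symm hqp)).pow l i) h2 h3
    rw [orderOf_eq_one_iff, ← h1, QuotientGroup.eq_one_iff] at h4
    exact h4

/-- the fundamental counting inequality. -/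
theorem count_of_good_pair (hp : Fact p.Prime) (hq : q.Prime) (hqp : q ≠ p) (R : Sylow p G)
    {T : Subgroup G} {y : G} {j : ℕ} (hT : T ≤ (R : Subgroup G))
    (hcen : (R : Subgroup G) ⊓ centralizer (T : Set G) ≤ T) (hy : y ∈ normalizer (T : Set G))
    (hyq : y ^ q ^ j = 1) (hyT : y ∉ centralizer (T : Set G)) :
    ∃ t c : ℕ, t ≤ Nat.card (R : Subgroup G) ∧ p * c ≤ t ∧ (p = 2 → 4 * c ≤ t) ∧
      2 * q * kSet ((R : Subgroup G) : Set G) + 2 * c + (q - 2) * t ≤
        2 * q * c + q * Nat.card (R : Subgroup G) := by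
  classical
  letI : Fintype (R : Subgroup G) := Fintype.ofFinite _
  let C : Subgroup G := T ⊓ centralizer ({y} : Set G)
  have hCT : C ≤ T := inf_le_left
  refine ⟨Nat.card T, Nat.card C, Subgroup.card_le_of_le hT, ?_, ?_, ?_⟩
  · obtain ⟨kt, hkt⟩ := IsPGroup.iff_card.1 (R.isPGroup'.to_le hT)
    obtain ⟨kc, hkc⟩ := IsPGroup.iff_card.1 (R.isPGroup'.to_le (hCT.trans hT))
    have hlt : Nat.card C < Nat.card T := by
      refine lt_of_le_of_ne (Subgroup.card_le_of_le hCT) fun h => hyT ?_
      have hCeq : C = T := eq_of_le_of_card_ge hCT h.ge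
      refine mem_centralizer_iff.2 fun t ht => ?_
      have := H27.mem_cent.mp ((hCeq.symm ▸ ht : t ∈ C).2)
      exact this
    rw [hkt, hkc] at hlt
    rw [hkt, hkc, ← pow_succ']
    exact Nat.pow_le_pow_right hp.out.pos ((Nat.pow_lt_pow_iff_right hp.out.one_lt).1 hlt)
  · rintro rfl
    obtain ⟨kt, hkt⟩ := IsPGroup.iff_card.1 (R.isPGroup'.to_le hT)
    obtain ⟨kc, hkc⟩ := IsPGroup.iff_card.1 (R.isPGroup'.to_le (hCT.trans hT))
    by_contra hcon
    have hle : kt ≤ kc + 1 := by
      by_contra h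
      apply hcon
      rw [hkt, hkc, show (4 : ℕ) = 2 ^ 2 by norm_num, ← pow_add]
      exact Nat.pow_le_pow_right (by norm_num) (by omega)
    apply hyT
    refine mem_centralizer_iff.2 fun t ht => ?_
    -- squares and the index two coset
    let C' := C.subgroupOf T
    have hidx : C'.index = 1 ∨ C'.index = 2 := by
      have h1 : C.relIndex T * Nat.card C = Nat.card T := by
        have h := Subgroup.card_mul_index C'
        rw [Nat.card_congr (subgroupOfEquivOfLe hCT).toEquiv, mul_comm] at h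
        exact h
      rw [hkt, hkc] at h1
      have h2 : C.relIndex T ≤ 2 := by
        have : C.relIndex T * 2 ^ kc ≤ 2 * 2 ^ kc := by
          rw [h1, ← pow_succ']; exact Nat.pow_le_pow_right (by norm_num) hle
        exact Nat.le_of_mul_le_mul_right this (by positivity)
      have h3 : C.relIndex T ≠ 0 := fun h => by
        rw [h, zero_mul] at h1
        exact pow_ne_zero kt two_ne_zero h1.symm
      change C.relIndex T = 1 ∨ C.relIndex T = 2
      omega
    set d := t⁻¹ * (y * t * y⁻¹) with hd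
    by_cases htC : t ∈ C
    · exact H27.mem_cent.mp htC.2
    have hdT : y * t * y⁻¹ ∈ T := (mem_normalizer_iff.1 hy t).1 ht
    have hi2 : C'.index = 2 := by
      rcases hidx with h | h
      · exact absurd ((index_eq_one.1 h) ▸ mem_top (⟨t, ht⟩ : T) : (⟨t, ht⟩ : T) ∈ C') htC
      · exact h
    have hne : ¬ y * t * y⁻¹ ∈ C := fun h => htC (by
      have h1 := H27.mem_cent.mp h.2
      have : t = y * t * y⁻¹ := by
        calc t = y⁻¹ * (y * t * y⁻¹ * y) := by group
          _ = y⁻¹ * (y * (y * t * y⁻¹)) := by rw [h1]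
          _ = _ := by group
      rw [this]; exact h)
    have hdC : d ∈ C := by
      have h1 := (mul_mem_iff_of_index_two hi2 (a := (⟨t, ht⟩ : T)⁻¹) (b := ⟨_, hdT⟩)).2
        ⟨fun h => absurd (inv_mem_iff.1 h) htC, fun h => absurd h hne⟩
      exact h1
    have hdy : Commute y d := (H27.mem_cent.mp hdC.2).symm
    have hiter : ∀ n : ℕ, y ^ n * t * (y ^ n)⁻¹ = t * d ^ n := fun n => by
      induction n with
      | zero => simp
      | succ n ih =>
        calc y ^ (n + 1) * t * (y ^ (n + 1))⁻¹ = y * (y ^ n * t * (y ^ n)⁻¹) * y⁻¹ := by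
              rw [pow_succ']; group
          _ = y * t * y⁻¹ * (y * d ^ n * y⁻¹) := by rw [ih]; group
          _ = t * d * d ^ n := by
              rw [(hdy.pow_right n).eq, mul_inv_cancel_right, hd]; group
          _ = _ := by rw [pow_succ', mul_assoc]
    have h5 := hiter (q ^ j)
    rw [hyq, inv_one, one_mul, mul_one, left_eq_mul] at h5
    obtain ⟨l, hl⟩ := R.isPGroup' ⟨d, hT (hCT hdC)⟩
    have h6 : d = 1 := by
      rw [← orderOf_eq_one_iff]
      exact Nat.eq_one_of_dvd_coprimes (((Nat.coprime_primes hp.out hq).2 (Ne.symm hqp)).pow l j)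
        (orderOf_dvd_of_pow_eq_one (congrArg Subtype.val hl)) (orderOf_dvd_of_pow_eq_one h5)
    have h7 : y * t * y⁻¹ = t := by
      rw [hd, inv_mul_eq_one] at h6
      exact h6.symm
    exact (mul_inv_eq_iff_eq_mul.1 h7).symm
  · let w : ↥(R : Subgroup G) → ℕ := fun x =>
      if (x : G) ∈ C then 2 * q else if (x : G) ∈ T then 2 else q
    have hq2 : 2 ≤ q := hq.two_le
    have key := mul_kSet_le (R : Subgroup G) (2 * q) w (fun x => by
      by_cases hC : ∃ z : (R : Subgroup G), IsConj (x : G) z ∧ (z : G) ∈ C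
      · obtain ⟨z, hxz, hzC⟩ := hC
        exact ⟨{z}, fun a ha => by rw [Finset.mem_singleton.1 ha]; exact hxz, by simp [w, hzC]⟩
      by_cases hT' : ∃ z : (R : Subgroup G), IsConj (x : G) z ∧ (z : G) ∈ T
      · obtain ⟨z₀, hxz₀, hz₀⟩ := hT'
        have hz₀C : (z₀ : G) ∉ C := fun h => hC ⟨z₀, hxz₀, h⟩
        -- the orbit of `y`
        have hmem : ∀ n : ℕ, y ^ n * z₀ * (y ^ n)⁻¹ ∈ T := fun n =>
          (mem_normalizer_iff.1 (pow_mem hy n) z₀).1 hz₀
        let f : ℕ → (R : Subgroup G) := fun n => ⟨_, hT (hmem n)⟩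
        have hfix : ∀ n : ℕ, 0 < n → n < q → y ^ n * (z₀ : G) * (y ^ n)⁻¹ ≠ z₀ := by
          intro n hn hnq h
          apply hz₀C
          refine ⟨hz₀, H27.mem_cent_comm.2 ?_⟩
          have hcom : Commute (y ^ n) (z₀ : G) := mul_inv_eq_iff_eq_mul.1 h
          have hcop : Nat.Coprime n (orderOf y) :=
            ((Nat.Coprime.pow_left j (hq.coprime_iff_not_dvd.2
              (Nat.not_dvd_of_pos_of_lt hn hnq))).coprime_dvd_left
              (orderOf_dvd_of_pow_eq_one hyq)).symm
          obtain ⟨m, hm⟩ := exists_pow_eq_self_of_coprime hcop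
          have := hcom.pow_left m
          rwa [hm] at this
        have hinj : Set.InjOn f (Finset.range q : Set ℕ) := by
          intro a ha b hb hab
          simp only [Finset.coe_range, Set.mem_Iio] at ha hb
          have heq : y ^ a * (z₀ : G) * (y ^ a)⁻¹ = y ^ b * z₀ * (y ^ b)⁻¹ := congrArg Subtype.val hab
          rcases lt_trichotomy a b with h | h | h
          · obtain ⟨n, rfl⟩ := Nat.exists_eq_add_of_le h.le
            refine absurd ?_ (hfix n (by omega) (by omega))
            have := congrArg (fun z => (y ^ a)⁻¹ * z * y ^ a) heq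
            simpa [pow_add, mul_assoc] using this.symm
          · exact h
          · obtain ⟨n, rfl⟩ := Nat.exists_eq_add_of_le h.le
            refine absurd ?_ (hfix n (by omega) (by omega))
            have := congrArg (fun z => (y ^ b)⁻¹ * z * y ^ b) heq
            simpa [pow_add, mul_assoc] using this
        refine ⟨(Finset.range q).image f, ?_, ?_⟩
        · intro z hz
          obtain ⟨n, -, rfl⟩ := Finset.mem_image.1 hz
          exact hxz₀.trans (isConj_iff.2 ⟨y ^ n, rfl⟩)
        · rw [Finset.sum_image hinj]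
          have : ∀ n ∈ Finset.range q, 2 ≤ w (f n) := fun n _ => by
            simp only [w]; split_ifs <;> omega
          calc 2 * q = ∑ _n ∈ Finset.range q, 2 := by simp [mul_comm]
            _ ≤ _ := Finset.sum_le_sum this
      · -- outside `T` some other conjugate lies in `R`
        simp only [not_exists, not_and] at hC hT'
        obtain ⟨z, hzc, hzx⟩ : ∃ z : (R : Subgroup G), IsConj (x : G) z ∧ z ≠ x := by
          by_contra hcon
          simp only [not_exists, not_and, ne_eq, not_not] at hcon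
          apply hT' x (IsConj.refl _)
          refine hcen ⟨x.2, mem_centralizer_iff.2 fun t ht => ?_⟩
          have h1 := congrArg Subtype.val (hcon ⟨t * x * t⁻¹,
            mul_mem (mul_mem (hT ht) x.2) (inv_mem (hT ht))⟩ (isConj_iff.2 ⟨t, rfl⟩))
          exact mul_inv_eq_iff_eq_mul.1 h1
        refine ⟨{x, z}, ?_, ?_⟩
        · intro a ha
          rcases Finset.mem_insert.1 ha with rfl | ha
          · exact IsConj.refl _
          · rw [Finset.mem_singleton.1 ha]; exact hzc
        · rw [Finset.sum_pair (Ne.symm hzx)]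
          simp only [w, hC x (IsConj.refl _), hT' x (IsConj.refl _), hC z hzc, hT' z hzc, if_false]
          omega)
    have hsum : ∑ x : (R : Subgroup G), w x + (q - 2) * Nat.card T + 2 * Nat.card C =
        2 * q * Nat.card C + q * Nat.card (R : Subgroup G) := by
      have hw : ∀ x : (R : Subgroup G), w x + (q - 2) * (if (x : G) ∈ T then 1 else 0) +
          2 * (if (x : G) ∈ C then 1 else 0) = 2 * q * (if (x : G) ∈ C then 1 else 0) + q := by
        intro x
        by_cases h1 : (x : G) ∈ C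
        · simp [w, h1, hCT h1]; omega
        · by_cases h2 : (x : G) ∈ T
          · simp [w, h1, h2]; omega
          · simp [w, h1, h2]
      have hcard : ∀ H : Subgroup G, H ≤ (R : Subgroup G) →
          ∑ x : (R : Subgroup G), (if (x : G) ∈ H then 1 else 0) = Nat.card H := fun H hH => by
        rw [Finset.sum_boole, Nat.cast_id, ← Fintype.card_subtype, ← Nat.card_eq_fintype_card]
        exact Nat.card_congr
          { toFun := fun z => ⟨_, z.2⟩, invFun := fun z => ⟨⟨_, hH z.2⟩, z.2⟩,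
            left_inv := fun _ => rfl, right_inv := fun _ => rfl }
      have := Finset.sum_congr (rfl : (Finset.univ : Finset (R : Subgroup G)) = _) (fun x _ => hw x)
      rw [Finset.sum_add_distrib, Finset.sum_add_distrib, Finset.sum_add_distrib, ← Finset.mul_sum,
        ← Finset.mul_sum, ← Finset.mul_sum, hcard T hT, hcard C (hCT.trans hT), Finset.sum_const,
        Finset.card_univ, ← Nat.card_eq_fintype_card, smul_eq_mul] at this
      rw [mul_comm q]
      linarith
    omega

end Fusion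

end H26
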