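import Cfsg.Agent.H26.ClassCount
import Cfsg.Prelude.Def_OddOrderLocal

/-!
# Consequences of the class counting inequality
-/

set_option autoImplicit false
set_option linter.style.haveILetI false
set_option linter.unusedSectionVars false

namespace H26

open Subgroup
open scoped commutatorElement

universe u v

variable {G : Type u} [Group G] [Finite G] {p : ℕ}

/-- the number of classes of `p`-elements of `G`. -/
noncomputable abbrev kP (p : ℕ) (G : Type u) [Group G] : ℕ :=
  kPow G (p ^ (Nat.card G).factorization p)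

theorem kP_eq [hp : Fact p.Prime] (R : Sylow p G) : kP p G = kSet ((R : Subgroup G) : Set G) :=
  kPow_eq_kSet R R.card_eq_multiplicity

/-- the counting bound in numeric form. -/
theorem kP_bound [hp : Fact p.Prime] {q : ℕ} (hq : q.Prime) (hqp : q ≠ p) {Q : Subgroup G}
    (hQ : IsPGroup p Q) {x : G} (hxQ : x ∈ normalizer (Q : Set G)) {i : ℕ}
    (hx : x ^ q ^ i = 1) (hxc : x ∉ centralizer (Q : Set G)) (P : Sylow p G) :
    (p = 2 → 2 * kP p G ≤ Nat.card (P : Subgroup G)) ∧
      2 * p * kP p G ≤ (p + 1) * Nat.card (P : Subgroup G) ∧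
      (q ≠ 2 → p ≠ 2 → 2 * kP p G ≤ Nat.card (P : Subgroup G)) := by
  obtain ⟨R, T, y, j, hT, hcen, hy, hyq, hyT⟩ := exists_good_pair hp hq hqp hQ hxQ hx hxc
  obtain ⟨t, c, htN, hpc, h4, hkey⟩ := count_of_good_pair hp hq hqp R hT hcen hy hyq hyT
  rw [← kP_eq R, R.card_eq_multiplicity] at hkey
  rw [R.card_eq_multiplicity] at htN
  rw [P.card_eq_multiplicity]
  generalize kP p G = k at hkey ⊢
  generalize p ^ (Nat.card G).factorization p = N at hkey htN ⊢
  have hq2 := hq.two_le
  have hp2 := hp.out.two_le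
  obtain ⟨s, rfl⟩ : ∃ s, q = s + 2 := ⟨q - 2, by omega⟩
  simp only [Nat.add_sub_cancel] at hkey
  refine ⟨fun h2 => ?_, ?_, fun hq0 hp0 => ?_⟩
  · subst h2
    have hs : 1 ≤ s := by omega
    have hc : (2 * s + 2) * c ≤ s * t := by
      calc (2 * s + 2) * c ≤ (s * 4) * c := Nat.mul_le_mul_right c (by omega)
        _ = s * (4 * c) := by ring
        _ ≤ s * t := Nat.mul_le_mul_left s (h4 rfl)
    refine Nat.le_of_mul_le_mul_left ?_ (show 0 < s + 2 by omega)
    linarith
  · refine Nat.le_of_mul_le_mul_left ?_ (show 0 < s + 2 by omega)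
    have h7 := Nat.mul_le_mul_left p hkey
    have h8 : (2 * s + 2) * (p * c) ≤ (2 * s + 2) * t := Nat.mul_le_mul_left _ hpc
    have h9 : (2 * s) * t ≤ (p * s) * t := Nat.mul_le_mul_right t (Nat.mul_le_mul_right s hp2)
    have h10 : 2 * t ≤ (s + 2) * N := Nat.mul_le_mul (by omega) htN
    linarith
  · have hs : 1 ≤ s := by omega
    have hsp : 2 * s + 2 ≤ s * p := by
      rcases Nat.lt_or_ge p 4 with h | h
      · have hp' : p = 3 := by omega
        subst hp'
        have : s + 2 ≠ 3 := hqp
        omega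
      · calc 2 * s + 2 ≤ s * 4 := by omega
          _ ≤ s * p := Nat.mul_le_mul_left s h
    have hc : (2 * s + 2) * c ≤ s * t := by
      calc (2 * s + 2) * c ≤ (s * p) * c := Nat.mul_le_mul_right c hsp
        _ = s * (p * c) := by ring
        _ ≤ s * t := Nat.mul_le_mul_left s hpc
    refine Nat.le_of_mul_le_mul_left ?_ (show 0 < s + 2 by omega)
    linarith

/-- `k_p(G)` is at most the class number of a Sylow subgroup. -/
theorem kP_le_classes [hp : Fact p.Prime] (P : Sylow p G) :
    kP p G ≤ Nat.card (ConjClasses (P : Subgroup G)) := by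
  rw [kP_eq P]
  refine Nat.card_le_card_of_surjective
    (fun C : ConjClasses (P : Subgroup G) => (⟨C.map (P : Subgroup G).subtype, by
      obtain ⟨x, rfl⟩ := ConjClasses.exists_rep C
      exact ⟨x, x.2, rfl⟩⟩ :
      {C : ConjClasses G // ∃ g ∈ ((P : Subgroup G) : Set G), ConjClasses.mk g = C})) ?_
  rintro ⟨C, g, hg, rfl⟩
  exact ⟨ConjClasses.mk ⟨g, hg⟩, Subtype.ext rfl⟩

/-- with a normal `p`-complement the `p`-classes are the classes of a Sylow subgroup. -/
theorem kP_eq_classes [hp : Fact p.Prime] (h : Cfsg.HasNormalPComplement p G) (P : Sylow p G) :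
    kP p G = Nat.card (ConjClasses (P : Subgroup G)) := by
  refine le_antisymm (kP_le_classes P) ?_
  rw [kP_eq P]
  obtain ⟨N, hN, hc⟩ := (H5.hasNormalPComplement_iff_exists P).1 h
  refine Nat.card_le_card_of_injective
    (fun C : ConjClasses (P : Subgroup G) => (⟨C.map (P : Subgroup G).subtype, by
      obtain ⟨x, rfl⟩ := ConjClasses.exists_rep C
      exact ⟨x, x.2, rfl⟩⟩ :
      {C : ConjClasses G // ∃ g ∈ ((P : Subgroup G) : Set G), ConjClasses.mk g = C})) ?_
  intro C D hCD
  obtain ⟨x, rfl⟩ := ConjClasses.exists_rep C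
  obtain ⟨y, rfl⟩ := ConjClasses.exists_rep D
  obtain ⟨g, hg⟩ := isConj_iff.1 (ConjClasses.mk_eq_mk_iff_isConj.1 (congrArg Subtype.val hCD))
  haveI := hN
  obtain ⟨k, hk, hkxy⟩ := H5.fusion_of_isComplement' hc x.2 y.2 hg
  exact ConjClasses.mk_eq_mk_iff_isConj.2 (isConj_iff.2 ⟨⟨k, hk⟩, Subtype.ext hkxy⟩)

/-- class number of a nonabelian `p`-group. -/
theorem classes_le_of_nonabelian [hp : Fact p.Prime] {P : Type u} [Group P] [Finite P]
    (hP : IsPGroup p P) (hna : ¬ IsMulCommutative P) :
    p ^ 3 * Nat.card (ConjClasses P) ≤ (p ^ 2 + p - 1) * Nat.card P := by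
  classical
  letI : Fintype P := Fintype.ofFinite P
  letI : Fintype (⊤ : Subgroup P) := Fintype.ofFinite _
  have hp1 : 1 ≤ p := hp.out.pos
  have hk : Nat.card (ConjClasses P) = kSet ((⊤ : Subgroup P) : Set P) := by
    refine (Nat.card_congr (Equiv.subtypeUnivEquiv fun C => ?_)).symm
    obtain ⟨x, rfl⟩ := ConjClasses.exists_rep C
    exact ⟨x, trivial, rfl⟩
  have key : p * Nat.card (ConjClasses P) ≤ ∑ x : (⊤ : Subgroup P),
      if (x : P) ∈ center P then p else 1 := by
    rw [hk]
    refine mul_kSet_le (⊤ : Subgroup P) p _ (fun x => ?_)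
    by_cases hx : (x : P) ∈ center P
    · exact ⟨{x}, fun z hz => by rw [Finset.mem_singleton.1 hz], by simp [hx]⟩
    · refine ⟨Finset.univ.filter (fun z => IsConj (x : P) z), fun z hz => (Finset.mem_filter.1 hz).2, ?_⟩
      have h1 : (Finset.univ.filter (fun z : (⊤ : Subgroup P) => IsConj (x : P) z)).card =
          (centralizer ({(x : P)} : Set P)).index := by
        rw [← H27.card_carrier_eq_index, ← Fintype.card_subtype, ← Nat.card_eq_fintype_card]
        refine Nat.card_congr
          { toFun := fun z => ⟨z.1.1, ConjClasses.mem_carrier_iff_mk_eq.2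
              (ConjClasses.mk_eq_mk_iff_isConj.2 z.2.symm)⟩
            invFun := fun z => ⟨⟨z.1, trivial⟩, (ConjClasses.mk_eq_mk_iff_isConj.1
              (ConjClasses.mem_carrier_iff_mk_eq.1 z.2)).symm⟩
            left_inv := fun _ => rfl
            right_inv := fun _ => rfl }
      obtain ⟨m, -, hm⟩ := (Nat.dvd_prime_pow hp.out).1
        ((IsPGroup.iff_card.1 hP).choose_spec ▸ index_dvd_card (centralizer ({(x : P)} : Set P)))
      have h2 : p ≤ (centralizer ({(x : P)} : Set P)).index := by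
        rw [hm]
        refine Nat.le_self_pow ?_ p
        rintro rfl
        rw [pow_zero] at hm
        exact hx (H27.index_cent_eq_one_iff.1 hm)
      calc p ≤ _ := h2
        _ = ∑ _z ∈ Finset.univ.filter (fun z : (⊤ : Subgroup P) => IsConj (x : P) z), 1 := by
            rw [← h1, Finset.card_eq_sum_ones]
        _ ≤ _ := Finset.sum_le_sum fun z _ => by split_ifs <;> omega
  have hsum : (∑ x : (⊤ : Subgroup P), if (x : P) ∈ center P then p else 1) + Nat.card (center P) =
      p * Nat.card (center P) + Nat.card P := by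
    have h1 : ∀ x : P, (if x ∈ center P then p else 1) + (if x ∈ center P then 1 else 0) =
        p * (if x ∈ center P then 1 else 0) + 1 := fun x => by split_ifs <;> simp
    have h2 : Nat.card (center P) = ∑ x : P, if x ∈ center P then 1 else 0 := by
      rw [Finset.sum_boole, Nat.cast_id, ← Fintype.card_subtype, Nat.card_eq_fintype_card]
    rw [h2, Fintype.sum_equiv Subgroup.topEquiv.toEquiv
      (fun x : (⊤ : Subgroup P) => if (x : P) ∈ center P then p else 1)
      (fun x : P => if x ∈ center P then p else 1) (fun x => rfl),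
      ← Finset.sum_add_distrib, Finset.sum_congr rfl (fun x _ => h1 x), Finset.sum_add_distrib,
      ← Finset.mul_sum, Finset.sum_const, Finset.card_univ, Nat.card_eq_fintype_card, smul_eq_mul,
      mul_one]
  have hZ : p ^ 2 * Nat.card (center P) ≤ Nat.card P := by
    rw [← Subgroup.card_mul_index (center P), mul_comm]
    refine Nat.mul_le_mul_left _ ?_
    obtain ⟨n, hn⟩ := IsPGroup.iff_card.1 hP
    obtain ⟨m, -, hm⟩ := (Nat.dvd_prime_pow hp.out).1 (hn ▸ index_dvd_card (center P))
    rw [hm]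
    refine Nat.pow_le_pow_right hp1 ?_
    by_contra hcon
    apply hna
    haveI : IsCyclic (P ⧸ center P) := by
      have hcard : Nat.card (P ⧸ center P) = p ^ m := hm
      rcases (by omega : m = 0 ∨ m = 1) with rfl | rfl
      · rw [pow_zero] at hcard
        haveI : Subsingleton (P ⧸ center P) := (Nat.card_eq_one_iff_unique.1 hcard).1
        exact isCyclic_of_subsingleton
      · rw [pow_one] at hcard
        exact isCyclic_of_prime_card hcard
    exact ⟨⟨fun a b => commutative_of_cyclic_center_quotient (QuotientGroup.mk' (center P))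
      (by rw [QuotientGroup.ker_mk']) a b⟩⟩
  have e1 : p ^ 2 + p - 1 = p ^ 2 + (p - 1) := by omega
  obtain ⟨r, rfl⟩ : ∃ r, p = r + 1 := ⟨p - 1, by omega⟩
  rw [e1, Nat.add_sub_cancel]
  have h3 : (r + 1) ^ 2 * ((r + 1) * Nat.card (ConjClasses P) + Nat.card (center P)) ≤
      (r + 1) ^ 2 * ((r + 1) * Nat.card (center P) + Nat.card P) :=
    Nat.mul_le_mul_left _ (by rw [← hsum]; omega)
  have h4 : r * ((r + 1) ^ 2 * Nat.card (center P)) ≤ r * Nat.card P := Nat.mul_le_mul_left r hZ
  linarith

/-- if every prime-power element normalising centralises, then every `p'`-element does. -/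
theorem centralizes_of_prime_power [hp : Fact p.Prime] {Q : Subgroup G}
    (h : ∀ (q : ℕ) (i : ℕ) (x : G), q.Prime → q ≠ p → x ∈ normalizer (Q : Set G) →
      x ^ q ^ i = 1 → (∀ r, r.Prime → r ∣ orderOf x → r = q) → x ∈ centralizer (Q : Set G))
    {g : G} (hg : g ∈ normalizer (Q : Set G)) (hcop : Nat.Coprime (orderOf g) p) :
    g ∈ centralizer (Q : Set G) := by
  suffices H : ∀ n : ℕ, ∀ g : G, g ∈ normalizer (Q : Set G) → g ^ n = 1 → Nat.Coprime n p →
      g ∈ centralizer (Q : Set G) from H _ g hg (pow_orderOf_eq_one g) hcop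
  intro n
  induction n using Nat.recOnPrimeCoprime with
  | zero =>
    intro g _ _ h0
    exact absurd ((Nat.coprime_zero_left _).1 h0) hp.out.one_lt.ne'
  | prime_pow q i hq =>
    intro g hg hpow hcop
    rcases Nat.eq_zero_or_pos i with rfl | hi
    · rw [pow_zero, pow_one] at hpow; rw [hpow]; exact one_mem _
    refine h q i g hq ?_ hg hpow fun r hr hrd => ?_
    · rintro rfl
      exact (hq.coprime_iff_not_dvd.1 ((Nat.coprime_pow_left_iff hi _ _).1 hcop)) dvd_rfl
    · exact (Nat.prime_dvd_prime_iff_eq hr hq).1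
        (hr.dvd_of_dvd_pow (hrd.trans (orderOf_dvd_of_pow_eq_one hpow)))
  | coprime a b ha hb hab iha ihb =>
    intro g hg hpow hcop
    obtain ⟨u, hu1, hu2⟩ := Nat.chineseRemainder hab 1 0
    obtain ⟨v, hv1, hv2⟩ := Nat.chineseRemainder hab 0 1
    have hsum : u + v ≡ 1 [MOD a * b] :=
      (Nat.modEq_and_modEq_iff_modEq_mul hab).1 ⟨by simpa using hu1.add hv1, by simpa using hu2.add hv2⟩
    have hd1 : a * b ∣ u * a := by
      obtain ⟨c, hc⟩ := (Nat.modEq_zero_iff_dvd).1 hu2
      exact ⟨c, by rw [hc]; ring⟩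
    have hd2 : a * b ∣ v * b := by
      obtain ⟨c, hc⟩ := (Nat.modEq_zero_iff_dvd).1 hv1
      exact ⟨c, by rw [hc]; ring⟩
    have hgu : (g ^ u) ^ a = 1 := by
      obtain ⟨c, hc⟩ := hd1
      rw [← pow_mul, hc, pow_mul, hpow, one_pow]
    have hgv : (g ^ v) ^ b = 1 := by
      obtain ⟨c, hc⟩ := hd2
      rw [← pow_mul, hc, pow_mul, hpow, one_pow]
    have heq : g = g ^ u * g ^ v := by
      rw [← pow_add]
      have := (pow_eq_pow_iff_modEq (x := g)).2 (hsum.of_dvd (orderOf_dvd_of_pow_eq_one hpow))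
      rw [this, pow_one]
    rw [heq]
    exact mul_mem (iha _ (pow_mem hg u) hgu hcop.coprime_mul_right)
      (ihb _ (pow_mem hg v) hgv hcop.coprime_mul_left)

/-- `G` has a normal `p`-complement when `k_p` is large enough. -/
theorem hasNormalPComplement_of_centralizes [hp : Fact p.Prime] (P : Sylow p G)
    (h : ∀ (Q : Subgroup G) (q i : ℕ) (x : G), IsPGroup p Q → q.Prime → q ≠ p →
      x ∈ normalizer (Q : Set G) → x ^ q ^ i = 1 → (∀ r, r.Prime → r ∣ orderOf x → r = q) →
      x ∈ centralizer (Q : Set G)) : Cfsg.HasNormalPComplement p G :=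
  H5.hasNormalPComplement_of_frobenius P fun Q hQ g hg hgc =>
    centralizes_of_prime_power (fun q i x hq hqp => h Q q i x (P.isPGroup'.to_le hQ) hq hqp) hg hgc

/-- normal `σ`-complement and abelian Hall subgroup, from the primes in `σ`. -/
theorem exists_complement_hall (σ : Finset ℕ) (hσ : ∀ r ∈ σ, r.Prime)
    (h : ∀ r ∈ σ, Cfsg.HasNormalPComplement r G ∧
      ∀ P : Sylow r G, IsMulCommutative (P : Subgroup G)) :
    ∃ K : Subgroup G, K.Characteristic ∧
      (∀ r : ℕ, r.Prime → r ∣ Nat.card K → r ∉ σ) ∧ (∀ r : ℕ, r.Prime → r ∣ K.index → r ∈ σ) ∧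
      ∃ H : Subgroup G, Cfsg.IsPiHall (σ : Set ℕ) H ∧ IsMulCommutative H := by
  classical
  let S : Set G := {g | ∀ r ∈ σ, Nat.Coprime (orderOf g) r}
  let K : Subgroup G := Subgroup.closure S
  have hchar : K.Characteristic := by
    rw [characteristic_iff_map_le]
    intro φ
    rw [MonoidHom.map_closure, closure_le]
    rintro _ ⟨g, hg, rfl⟩
    refine subset_closure fun r hr => ?_
    change Nat.Coprime (orderOf (φ g)) r
    rw [MulEquiv.orderOf_eq]
    exact hg r hr
  haveI := hchar
  have hK : ∀ r ∈ σ, K ≤ Cfsg.pResidual r G := fun r hr =>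
    (closure_le _).2 fun g hg => H5.mem_pResidual_of_coprime (hg r hr)
  have hKcop : ∀ r ∈ σ, ¬ r ∣ Nat.card K := by
    intro r hr hd
    haveI := Fact.mk (hσ r hr)
    obtain ⟨P⟩ : Nonempty (Sylow r G) := inferInstance
    exact H5.not_dvd_card_of_isComplement' (H5.pResidual_isComplement' (h r hr).1 P)
      (hd.trans (Subgroup.card_dvd_of_le (hK r hr)))
  have hidx : ∀ r : ℕ, r.Prime → r ∣ K.index → r ∈ σ := by
    intro r hr hd
    by_contra hrσ
    haveI := Fact.mk hr
    obtain ⟨P⟩ : Nonempty (Sylow r G) := inferInstance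
    refine P.not_dvd_index (hd.trans (index_dvd_of_le fun g hg => subset_closure fun s hs => ?_))
    obtain ⟨i, hi⟩ := P.isPGroup' ⟨g, hg⟩
    refine Nat.Coprime.coprime_dvd_left (orderOf_dvd_of_pow_eq_one (congrArg Subtype.val hi)) ?_
    exact ((Nat.coprime_primes hr (hσ s hs)).2 (fun e => hrσ (e ▸ hs))).pow_left i
  have hcomm : commutator G ≤ K := by
    intro g hg
    refine subset_closure fun r hr => ?_
    haveI := Fact.mk (hσ r hr)
    obtain ⟨P⟩ : Nonempty (Sylow r G) := inferInstance
    have hc := H5.pResidual_isComplement' (h r hr).1 P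
    have hle : commutator G ≤ Cfsg.pResidual r G := by
      haveI := (h r hr).2 P
      haveI hq : IsMulCommutative (G ⧸ Cfsg.pResidual r G) :=
        ⟨⟨fun a b => hc.symm.QuotientMulEquiv.injective (by
          rw [map_mul, map_mul]; exact IsMulCommutative.is_comm.comm _ _)⟩⟩
      intro z hz
      rw [← QuotientGroup.eq_one_iff, ← mem_bot, ← commutator_eq_bot (G := G ⧸ Cfsg.pResidual r G)]
      have h2 : (commutator G).map (QuotientGroup.mk' (Cfsg.pResidual r G)) ≤
          commutator (G ⧸ Cfsg.pResidual r G) := by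
        rw [map_commutator_eq, _root_.commutator_def]
        exact commutator_mono le_top le_top
      exact h2 (mem_map_of_mem _ hz)
    have h1 := orderOf_dvd_natCard (⟨g, hle hg⟩ : Cfsg.pResidual r G)
    rw [Subgroup.orderOf_mk] at h1
    exact (Nat.Coprime.coprime_dvd_left h1
      ((hσ r hr).coprime_iff_not_dvd.2 (H5.not_dvd_card_of_isComplement' hc)).symm)
  have hKn : K.Normal := inferInstance
  have hcop : Nat.Coprime (Nat.card K) K.index :=
    Nat.coprime_of_dvd fun r hr h1 h2 => hKcop r (hidx r hr h2) h1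
  obtain ⟨H, hH⟩ := exists_right_complement'_of_coprime hcop
  refine ⟨K, hchar, fun r hr hd hrσ => hKcop r hrσ hd, hidx, H, ⟨?_, ?_⟩, ⟨⟨fun a b => ?_⟩⟩⟩
  · intro r hr hd
    refine hidx r hr ?_
    rwa [hH.symm.index_eq_card]
  · intro r hr hrσ hd
    refine hKcop r hrσ ?_
    rwa [← hH.index_eq_card]
  · have h1 : ⁅(a : G), (b : G)⁆ ∈ K ⊓ H :=
      ⟨hcomm (commutator_mem_commutator (mem_top _) (mem_top _)),
        by rw [SetLike.mem_coe, commutatorElement_def]; exact H.mul_mem (H.mul_mem (H.mul_mem a.2 b.2) (H.inv_mem a.2)) (H.inv_mem b.2)⟩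
    rw [hH.disjoint.eq_bot, mem_bot, commutatorElement_eq_one_iff_mul_comm] at h1
    exact Subtype.ext h1

end H26
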