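import Cfsg.Agent.H26.ClassCountApps

/-!
# The counting theorems in the shape used by the statements
-/

set_option autoImplicit false
set_option linter.style.haveILetI false
set_option linter.unusedSectionVars false

namespace H26

open Subgroup

universe u

variable {G : Type u} [Group G] [Finite G]

theorem card_classes_prime_pow_eq (p : ℕ) [hp : Fact p.Prime] :
    Nat.card {c : ConjClasses G // ∀ x ∈ c.carrier, ∃ k : ℕ, orderOf x = p ^ k} = kP p G := by
  refine Nat.card_congr (Equiv.subtypeEquivRight fun C => ⟨?_, ?_⟩)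
  · intro h
    obtain ⟨g, rfl⟩ := ConjClasses.exists_rep C
    obtain ⟨k, hk⟩ := h g ConjClasses.mem_carrier_mk
    refine ⟨g, rfl, orderOf_dvd_iff_pow_eq_one.1 ?_⟩
    rw [hk]
    refine pow_dvd_pow p ?_
    exact (hp.out.pow_dvd_iff_le_factorization Nat.card_pos.ne').1 (hk ▸ orderOf_dvd_natCard g)
  · rintro ⟨g, rfl, hg⟩ x hx
    obtain ⟨i, -, hi⟩ := (Nat.dvd_prime_pow hp.out).1 (orderOf_dvd_of_pow_eq_one hg)
    refine ⟨i, ?_⟩
    rw [← hi]
    obtain ⟨c, rfl⟩ := isConj_iff.1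
      (ConjClasses.mk_eq_mk_iff_isConj.1 (ConjClasses.mem_carrier_iff_mk_eq.1 hx).symm)
    exact MulEquiv.orderOf_eq (MulAut.conj c) g

/-- the `σ`-part of the order. -/
noncomputable abbrev piPart (G : Type u) [Group G] (σ : Finset ℕ) : ℕ :=
  σ.prod (fun r => r ^ (Nat.card G).factorization r)

theorem piPart_factorization (σ : Finset ℕ) (hσ : ∀ r ∈ σ, r.Prime) (r : ℕ) :
    (piPart G σ).factorization r = if r ∈ σ then (Nat.card G).factorization r else 0 := by
  rw [piPart, Nat.factorization_prod (fun x hx => pow_ne_zero _ (hσ x hx).ne_zero),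
    Finset.sum_apply']
  split_ifs with h
  · rw [Finset.sum_eq_single r]
    · rw [(hσ r h).factorization_pow, Finsupp.single_eq_same]
    · intro b hb hbr
      rw [(hσ b hb).factorization_pow, Finsupp.single_eq_of_ne (Ne.symm hbr)]
    · exact fun h' => absurd h h'
  · refine Finset.sum_eq_zero fun b hb => ?_
    rw [(hσ b hb).factorization_pow, Finsupp.single_eq_of_ne]
    rintro rfl
    exact h hb

theorem piPart_ne_zero (σ : Finset ℕ) (hσ : ∀ r ∈ σ, r.Prime) : piPart G σ ≠ 0 :=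
  Finset.prod_ne_zero_iff.2 fun x hx => pow_ne_zero _ (hσ x hx).ne_zero

theorem card_classes_pi_eq (σ : Finset ℕ) (hσ : ∀ r ∈ σ, r.Prime) :
    Nat.card {c : ConjClasses G // ∀ x ∈ c.carrier, ∀ r : ℕ, r.Prime → r ∣ orderOf x → r ∈ σ} =
      kPow G (piPart G σ) := by
  refine Nat.card_congr (Equiv.subtypeEquivRight fun C => ⟨?_, ?_⟩)
  · intro h
    obtain ⟨g, rfl⟩ := ConjClasses.exists_rep C
    refine ⟨g, rfl, orderOf_dvd_iff_pow_eq_one.1 ?_⟩
    rw [← Nat.factorization_le_iff_dvd (orderOf_pos g).ne' (piPart_ne_zero σ hσ)]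
    intro r
    rw [piPart_factorization σ hσ]
    split_ifs with hr
    · exact (Nat.factorization_le_iff_dvd (orderOf_pos g).ne' Nat.card_pos.ne').2
        (orderOf_dvd_natCard g) r
    · rw [Nat.le_zero, Nat.factorization_eq_zero_iff]
      by_cases hrp : r.Prime
      · exact Or.inr (Or.inl fun hd => hr (h g ConjClasses.mem_carrier_mk r hrp hd))
      · exact Or.inl hrp
  · rintro ⟨g, rfl, hg⟩ x hx r hr hrd
    obtain ⟨c, rfl⟩ := isConj_iff.1
      (ConjClasses.mk_eq_mk_iff_isConj.1 (ConjClasses.mem_carrier_iff_mk_eq.1 hx).symm)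
    have h1 : orderOf (c * g * c⁻¹) = orderOf g := MulEquiv.orderOf_eq (MulAut.conj c) g
    rw [h1] at hrd
    by_contra hrσ
    have h2 := hr.factorization_pos_of_dvd (piPart_ne_zero (G := G) σ hσ)
      (hrd.trans (orderOf_dvd_of_pow_eq_one hg))
    rw [piPart_factorization σ hσ, if_neg hrσ] at h2
    exact absurd h2 (lt_irrefl 0)

theorem kPow_piPart_le (σ : Finset ℕ) (hσ : ∀ r ∈ σ, r.Prime) {q : ℕ} (hq : q ∈ σ) :
    ∃ b : ℕ, piPart G σ = q ^ (Nat.card G).factorization q * b ∧ b ≠ 0 ∧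
      kPow G (piPart G σ) ≤ kP q G * b := by
  classical
  have hσ' : ∀ r ∈ σ.erase q, r.Prime := fun r hr => hσ r (Finset.mem_of_mem_erase hr)
  refine ⟨piPart G (σ.erase q), (Finset.mul_prod_erase σ _ hq).symm, piPart_ne_zero _ hσ', ?_⟩
  rw [show piPart G σ = q ^ (Nat.card G).factorization q * piPart G (σ.erase q) from
    (Finset.mul_prod_erase σ _ hq).symm]
  refine kPow_mul_le (piPart_ne_zero _ hσ') ?_ fun r hr hrd => ?_
  · refine Nat.Coprime.prod_right fun r hr => ?_
    exact ((Nat.coprime_primes (hσ q hq) (hσ' r hr)).2 (Finset.ne_of_mem_erase hr).symm).pow _ _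
  · have h2 := hr.factorization_pos_of_dvd (piPart_ne_zero _ hσ') hrd
    rw [piPart_factorization _ hσ'] at h2 ⊢
    split_ifs with h
    · exact le_rfl
    · rw [if_neg h] at h2
      exact absurd h2 (lt_irrefl 0)

theorem two_nilpotent_of_kP (P : Sylow 2 G) (h : Nat.card (P : Subgroup G) < 2 * kP 2 G) :
    Cfsg.HasNormalPComplement 2 G := by
  haveI := Fact.mk Nat.prime_two
  refine hasNormalPComplement_of_centralizes P fun Q q i x hQ hq hq2 hxN hx _ => ?_
  by_contra hc
  exact absurd h (not_lt.2 ((kP_bound hq hq2 hQ hxN hx hc P).1 rfl))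

theorem nilpotent_abelian_of_kP {p : ℕ} [hp : Fact p.Prime] (P : Sylow p G)
    (h : (p + 1) * Nat.card (P : Subgroup G) < 2 * p * kP p G) :
    Cfsg.HasNormalPComplement p G ∧ IsMulCommutative (P : Subgroup G) := by
  refine ⟨hasNormalPComplement_of_centralizes P fun Q q i x hQ hq hqp hxN hx _ => ?_, ?_⟩
  · by_contra hc
    exact absurd h (not_lt.2 (kP_bound hq hqp hQ hxN hx hc P).2.1)
  · by_contra hna
    have h1 := classes_le_of_nonabelian P.isPGroup' hna
    have h2 := kP_le_classes (G := G) P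
    have hp2 := hp.out.two_le
    generalize Nat.card (P : Subgroup G) = N at h h1
    generalize Nat.card (ConjClasses (P : Subgroup G)) = c at h1 h2
    generalize kP p G = k at h h2
    obtain ⟨s, rfl⟩ : ∃ s, p = s + 2 := ⟨p - 2, by omega⟩
    have e1 : (s + 2) ^ 2 + (s + 2) - 1 = s ^ 2 + 5 * s + 5 := by
      have : (s + 2) ^ 2 + (s + 2) = s ^ 2 + 5 * s + 5 + 1 := by ring
      omega
    rw [e1] at h1
    have h3 : (s + 2) ^ 2 * ((s + 2 + 1) * N + 1) ≤ (s + 2) ^ 2 * (2 * (s + 2) * k) :=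
      Nat.mul_le_mul_left _ h
    have h4 : (s + 2) ^ 3 * k ≤ (s + 2) ^ 3 * c := Nat.mul_le_mul_left _ h2
    have h5 : 2 * (s ^ 2 + 5 * s + 5) * N ≤ (s + 2) ^ 2 * (s + 3) * N :=
      Nat.mul_le_mul_right N (by nlinarith)
    have h6 : 0 < (s + 2) ^ 2 := by positivity
    nlinarith

theorem abelian_of_kP_half {p : ℕ} [hp : Fact p.Prime] (hp2 : p ≠ 2) (P : Sylow p G)
    (h : Nat.card (P : Subgroup G) < 2 * kP p G) : IsMulCommutative (P : Subgroup G) := by
  by_contra hna
  have h1 := classes_le_of_nonabelian P.isPGroup' hna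
  have h2 := kP_le_classes (G := G) P
  have hp3 : 3 ≤ p := by have := hp.out.two_le; omega
  generalize Nat.card (P : Subgroup G) = N at h h1
  generalize Nat.card (ConjClasses (P : Subgroup G)) = c at h1 h2
  generalize kP p G = k at h h2
  obtain ⟨s, rfl⟩ : ∃ s, p = s + 3 := ⟨p - 3, by omega⟩
  have e1 : (s + 3) ^ 2 + (s + 3) - 1 = s ^ 2 + 7 * s + 11 := by
    have : (s + 3) ^ 2 + (s + 3) = s ^ 2 + 7 * s + 11 + 1 := by ring
    omega
  rw [e1] at h1
  have h3 : (s + 3) ^ 3 * (N + 1) ≤ (s + 3) ^ 3 * (2 * k) := Nat.mul_le_mul_left _ h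
  have h4 : (s + 3) ^ 3 * k ≤ (s + 3) ^ 3 * c := Nat.mul_le_mul_left _ h2
  have h5 : 2 * (s ^ 2 + 7 * s + 11) * N ≤ (s + 3) ^ 3 * N :=
    Nat.mul_le_mul_right N (by nlinarith)
  have h6 : 0 < (s + 3) ^ 3 := by positivity
  nlinarith

end H26
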