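import Cfsg.Agent.H26.HeRepBase

/-!
The representation of the presented Held group is faithful; codes of its elements.
-/

set_option autoImplicit false
set_option maxRecDepth 100000

namespace H26.HeRep

open H93.Coset H26.BitCode

theorem lift_word {G : Type} [Group G] (gen : ℕ → G) (f : Cfsg.Spor.He.Gen → G)
    (r : FreeGroup Cfsg.Spor.He.Gen) (h : ∀ x, gen (H93.HeTable.ix x) = f x)
    (h2 : ∀ x, f x * f x = 1) : FreeGroup.lift f r = ev gen (wordOf H93.HeTable.ix r) :=
  lift_eq_ev f gen _ h h2 r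

theorem ix_lt (a : Cfsg.Spor.He.Gen) : H93.HeTable.ix a < 7 := by cases a <;> decide

theorem lift_gn (r : FreeGroup Cfsg.Spor.He.Gen) :
    FreeGroup.lift (fun x => gn (H93.HeTable.ix x)) r = ev gn (wordOf H93.HeTable.ix r) :=
  lift_word gn (fun x => gn (H93.HeTable.ix x)) r (fun _ => rfl)
    (fun x => gn_sq (H93.HeTable.ix x))

theorem ev_rel (r : FreeGroup Cfsg.Spor.He.Gen)
    (hr : r ∈ relList Cfsg.Spor.He.edges Cfsg.Spor.He.extra) :
    ev gn (wordOf H93.HeTable.ix r) = 1 := by
  refine Units.ext ?_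
  have h := of_decide_eq_true (List.all_eq_true.1 rel_check r hr)
  rw [val_ev, h, matC_one, Units.val_one]

theorem rels_hold : ∀ r ∈ Cfsg.Spor.coxRelators Cfsg.Spor.He.edges ∪ {r | r ∈ Cfsg.Spor.He.extra},
    FreeGroup.lift (fun a => gn (H93.HeTable.ix a)) r = 1 :=
  fun r hr => (lift_gn r).trans (ev_rel r (mem_relList.2 hr))

/-- The representation. -/
noncomputable def rho : Cfsg.Spor.He →* GL51 := PresentedGroup.toGroup rels_hold

theorem rho_of (a : Cfsg.Spor.He.Gen) : rho (PresentedGroup.of a) = gn (H93.HeTable.ix a) :=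
  PresentedGroup.toGroup.of rels_hold

theorem rho_injective : Function.Injective rho := by
  haveI : IsSimpleGroup Cfsg.Spor.He := H93.HeOrder.isHe.1
  rw [← MonoidHom.ker_eq_bot_iff]
  refine (rho.normal_ker.eq_bot_or_eq_top).resolve_right fun h => ?_
  have ha : PresentedGroup.of Cfsg.Spor.He.Gen.a ∈ rho.ker := by rw [h]; trivial
  rw [MonoidHom.mem_ker, rho_of] at ha
  have h1 : matC 51 (codes.getD 0 0) = matC 51 oneW := by
    have h0 := congrArg Units.val ha
    rw [show H93.HeTable.ix Cfsg.Spor.He.Gen.a = 0 from rfl, gn_val, Nat.zero_mod, Units.val_one]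
      at h0
    rw [matC_one, h0]
  have h2 := matC_inj (by norm_num) (show codes.getD 0 0 < 2 ^ (51 * 51) by decide +kernel) oneW_lt h1
  revert h2
  decide +kernel

theorem card_he : Nat.card Cfsg.Spor.He = 4030387200 := H93.HeOrder.isHe.2

theorem finite_he : Finite Cfsg.Spor.He :=
  Nat.finite_of_card_ne_zero (by rw [card_he]; norm_num)

/-- The code of an element. -/
noncomputable def codeH (g : Cfsg.Spor.He) : ℕ := codeM (rho g).val

theorem codeH_one : codeH 1 = oneW := by
  rw [codeH, map_one, Units.val_one, ← matC_one, codeM_matC (by norm_num) oneW_lt]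

theorem codeH_mul (a b : Cfsg.Spor.He) : codeH (a * b) = opW (codeH a) (codeH b) := by
  rw [codeH, map_mul, Units.val_mul, codeM_mul (by norm_num) onesW_eq]
  rfl

/-- Elements of the Held group have faithful codes. -/
noncomputable def coding : H97.SchurCert.Coding Cfsg.Spor.He opW oneW where
  code := codeH
  inj := fun _ _ h => rho_injective (Units.ext (codeM_injective h))
  map_one := codeH_one
  map_mul := codeH_mul

/-- The code of a word in the generators. -/
noncomputable def wordW (w : List (Fin 7)) : ℕ :=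
  w.foldr (fun k acc => opW (codes.getD k.val 0) acc) oneW

theorem codes_lt : ∀ k : Fin 7, codes.getD k.val 0 < 2 ^ (51 * 51) := by decide +kernel

theorem ix_surj : ∀ k : Fin 7, ∃ a : Cfsg.Spor.He.Gen, H93.HeTable.ix a = k.val := fun k => by
  fin_cases k
  exacts [⟨.a, rfl⟩, ⟨.b, rfl⟩, ⟨.c, rfl⟩, ⟨.d, rfl⟩, ⟨.e, rfl⟩, ⟨.f, rfl⟩, ⟨.g, rfl⟩]

theorem exists_code : ∀ w : List (Fin 7), ∃ g : Cfsg.Spor.He, codeH g = wordW w
  | [] => ⟨1, codeH_one⟩
  | k :: w => by
    obtain ⟨g, hg⟩ := exists_code w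
    obtain ⟨a, ha⟩ := ix_surj k
    refine ⟨PresentedGroup.of a * g, ?_⟩
    rw [codeH_mul, hg, wordW, wordW, List.foldr_cons, codeH, rho_of, ha, gn_val,
      Nat.mod_eq_of_lt k.isLt, codeM_matC (by norm_num) (codes_lt k)]

end H26.HeRep
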