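import Cfsg.Agent.H26.BitCode
import Cfsg.Agent.H26.HeRepData
import Cfsg.Agent.H93.HeOrder
import Cfsg.Agent.H97.SchurCert

/-!
A faithful representation of the presented Held group by 51 by 51 matrices over the field with two
elements, and the resulting codes of its elements.
-/

set_option autoImplicit false
set_option maxRecDepth 100000

namespace H26.HeRep

open H93.Coset H26.BitCode

/-- Multiply codes. -/
noncomputable def opW (a b : ℕ) : ℕ := mulW 51 onesW a b

theorem onesW_eq : onesW = onesOf 51 := by decide +kernel

theorem oneW_bits : ∀ i k : Fin 51, cbit 51 oneW i.val k.val = decide (i = k) := by decide +kernel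

theorem matC_one : matC 51 oneW = 1 := by
  ext i k
  rw [matC, oneW_bits, Matrix.one_apply]
  by_cases h : i = k <;> simp [h, b2]

theorem oneW_lt : oneW < 2 ^ (51 * 51) := by decide +kernel

theorem matC_op (x y : ℕ) : matC 51 (opW x y) = matC 51 x * matC 51 y :=
  matC_mul (by norm_num) onesW_eq x y

theorem sq_check : ∀ k : Fin 7, opW (codes.getD k.val 0) (codes.getD k.val 0) = oneW := by
  decide +kernel

/-- The group of invertible matrices. -/
abbrev GL51 : Type := (Matrix (Fin 51) (Fin 51) (ZMod 2))ˣ

/-- A generating matrix. -/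
noncomputable def gk (k : Fin 7) : GL51 where
  val := matC 51 (codes.getD k.val 0)
  inv := matC 51 (codes.getD k.val 0)
  val_inv := by rw [← matC_op, sq_check, matC_one]
  inv_val := by rw [← matC_op, sq_check, matC_one]

/-- The generating matrices by number. -/
noncomputable def gn (k : ℕ) : GL51 := gk ⟨k % 7, Nat.mod_lt _ (by norm_num)⟩

theorem gn_val (k : ℕ) : (gn k).val = matC 51 (codes.getD (k % 7) 0) := rfl

attribute [irreducible] gn

theorem sq_check' (k : ℕ) : opW (codes.getD (k % 7) 0) (codes.getD (k % 7) 0) = oneW :=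
  sq_check ⟨k % 7, Nat.mod_lt _ (by norm_num)⟩

theorem gn_sq (k : ℕ) : gn k * gn k = 1 := by
  refine Units.ext ?_
  rw [Units.val_mul, Units.val_one, gn_val, ← matC_op, sq_check', matC_one]

/-- The code of a word. -/
noncomputable def evC : List ℕ → ℕ
  | [] => oneW
  | g :: w => opW (evC w) (codes.getD (g % 7) 0)

theorem val_ev : ∀ w : List ℕ, (ev gn w).val = matC 51 (evC w)
  | [] => by rw [ev, evC, Units.val_one, matC_one]
  | g :: w => by
    rw [ev, evC, matC_op, Units.val_mul, val_ev w, gn_val]

theorem rel_check : ((relList Cfsg.Spor.He.edges Cfsg.Spor.He.extra).all fun r =>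
    decide (evC (wordOf H93.HeTable.ix r) = oneW)) = true := by decide +kernel

end H26.HeRep
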