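import Cfsg.Agent.H26.HeRep
import Cfsg.Agent.H26.HeSchurData2
import Cfsg.Agent.H26.HeSchurData3
import Cfsg.Agent.H26.HeSchurData5
import Cfsg.Agent.H26.HeSchurData7
import Cfsg.Agent.H97.SchurMathieu

/-! The Schur multiplier of the Held group is trivial. -/

set_option autoImplicit false
set_option maxRecDepth 100000

namespace H26.HeSchur

open H97.SchurCert H26.HeRep

/-- Unpack a word. -/
def unpack (c : ℕ × ℕ) : List (Fin 7) :=
  (List.range c.1).map fun i => ⟨(c.2 >>> (3 * i)) % 8 % 7, Nat.mod_lt _ (by norm_num)⟩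

/-- The code of a chunked word. -/
noncomputable def chunksW (cs : List (ℕ × ℕ)) : ℕ :=
  cs.foldr (fun c acc => opW (wordW (unpack c)) acc) oneW

theorem exists_chunks : ∀ cs : List (ℕ × ℕ), ∃ g : Cfsg.Spor.He, codeH g = chunksW cs
  | [] => ⟨1, codeH_one⟩
  | c :: cs => by
    obtain ⟨g, hg⟩ := exists_code (unpack c)
    obtain ⟨h, hh⟩ := exists_chunks cs
    exact ⟨g * h, by rw [codeH_mul, hg, hh]; rfl⟩

/-- All parts of one certificate. -/
noncomputable def certOK (D : Data) (W : List (List (ℕ × ℕ))) : Bool :=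
  decide (W.map chunksW = D.syms) && rulesOK opW oneW D && defsOK D && pcOK D &&
    sizeOK opW oneW D && combosOK D

theorem cert2 : certOK data2 words2 = true := by decide +kernel
theorem cert3 : certOK data3 words3 = true := by decide +kernel
theorem cert5 : certOK data5 words5 = true := by decide +kernel
theorem cert7 : certOK data7 words7 = true := by decide +kernel

theorem not_dvd {Γ : Type} [Group Γ] [Finite Γ] (D : Data) [Fact D.p.Prime]
    (W : List (List (ℕ × ℕ))) (h : certOK D W = true) {M : ℕ}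
    (hcard : 4030387200 = D.p ^ D.n * M) (hM : ¬ D.p ∣ M)
    (σ : Γ →* Cfsg.Spor.He) (hσ : Cfsg.IsStemExtension σ) : ¬ D.p ∣ Nat.card σ.ker := by
  simp only [certOK, Bool.and_eq_true, decide_eq_true_eq] at h
  obtain ⟨⟨⟨⟨⟨h1, h2⟩, h3⟩, h4⟩, h5⟩, h6⟩ := h
  refine not_dvd_card_ker coding D (fun v hv => ?_) h2 h3 h4 h5 h6
    (by rw [card_he]; exact hcard) hM σ hσ
  rw [← h1, List.mem_map] at hv
  obtain ⟨w, -, rfl⟩ := hv
  exact exists_chunks w

theorem hasTrivialMultiplier_He : Cfsg.HasCyclicSchurMultiplier Cfsg.Spor.He 1 := by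
  haveI := finite_he
  refine H97.hasTrivialMultiplier fun Γ _ _ σ hσ => ?_
  rw [← Subgroup.card_eq_one]
  by_contra hne
  obtain ⟨p, hp, hdvd⟩ := Nat.exists_prime_and_dvd hne
  haveI := Fact.mk hp
  have hsq := sq_dvd_of_dvd_card_ker σ hσ hdvd
  rw [card_he] at hsq
  have hmem : p ∈ Nat.primeFactorsList 4030387200 :=
    (Nat.mem_primeFactorsList (by norm_num)).2 ⟨hp, (dvd_pow_self p two_ne_zero).trans hsq⟩
  simp only [Nat.primeFactorsList_ofNat, List.mem_cons, List.not_mem_nil, or_false] at hmem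
  have h5 : p = 2 ∨ p = 3 ∨ p = 5 ∨ p = 7 ∨ p = 17 := by omega
  rcases h5 with rfl | rfl | rfl | rfl | rfl
  · haveI : Fact data2.p.Prime := ⟨Nat.prime_two⟩
    exact not_dvd data2 words2 cert2 (M := 3935925) (by decide) (by decide) σ hσ hdvd
  · haveI : Fact data3.p.Prime := ⟨Nat.prime_three⟩
    exact not_dvd data3 words3 cert3 (M := 149273600) (by decide) (by decide) σ hσ hdvd
  · haveI : Fact data5.p.Prime := ⟨by show Nat.Prime 5; norm_num⟩
    exact not_dvd data5 words5 cert5 (M := 161215488) (by decide) (by decide) σ hσ hdvd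
  · haveI : Fact data7.p.Prime := ⟨by show Nat.Prime 7; norm_num⟩
    exact not_dvd data7 words7 cert7 (M := 11750400) (by decide) (by decide) σ hσ hdvd
  · norm_num at hsq

end H26.HeSchur
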