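import Cfsg.Agent.H96.J2Stab
import Cfsg.Agent.H97.SchurCert

/-!
Codes for elements of the double cover of the Hall-Janko group: the images of the three coordinate
roots, 72 integers in [-8, 8) packed into one number, multiplied by icosian arithmetic.
-/

set_option autoImplicit false

namespace H26
namespace J2Schur

open Cfsg.Spor H96.J2

/-- pack small integers -/
def packI : List ℤ → ℕ
  | [] => 0
  | a :: l => (a + 8).toNat + 16 * packI l

/-- the `k`-th packed integer -/
def unpackI : ℕ → ℕ → List ℤ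
  | 0, _ => []
  | k + 1, n => (((n % 16 : ℕ) : ℤ) - 8) :: unpackI k (n / 16)

theorem unpack_pack : ∀ l : List ℤ, (∀ a ∈ l, -8 ≤ a ∧ a < 8) → unpackI l.length (packI l) = l
  | [], _ => rfl
  | a :: l, h => by
    have ha := h a List.mem_cons_self
    have e1 : ((a + 8).toNat + 16 * packI l) % 16 = (a + 8).toNat := by omega
    have e2 : ((a + 8).toNat + 16 * packI l) / 16 = packI l := by omega
    show (((((a + 8).toNat + 16 * packI l) % 16 : ℕ) : ℤ) - 8) ::
      unpackI l.length (((a + 8).toNat + 16 * packI l) / 16) = a :: l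
    rw [e1, e2, unpack_pack l fun b hb => h b (List.mem_cons_of_mem _ hb)]
    congr 1
    omega

def qInts (q : Q8) : List ℤ := [q.x0.a, q.x0.b, q.x1.a, q.x1.b, q.x2.a, q.x2.b, q.x3.a, q.x3.b]

def vInts (v : V3) : List ℤ := qInts v.x ++ qInts v.y ++ qInts v.z

def qOf (l : List ℤ) (i : ℕ) : Q8 :=
  Q8.mk8 (l.getD i 0) (l.getD (i + 1) 0) (l.getD (i + 2) 0) (l.getD (i + 3) 0) (l.getD (i + 4) 0)
    (l.getD (i + 5) 0) (l.getD (i + 6) 0) (l.getD (i + 7) 0)

def vOf (l : List ℤ) (i : ℕ) : V3 := ⟨qOf l i, qOf l (i + 8), qOf l (i + 16)⟩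

/-- three vectors -/
abbrev Tri := V3 × V3 × V3

def encT (t : Tri) : ℕ := packI (vInts t.1 ++ vInts t.2.1 ++ vInts t.2.2)

def decT (n : ℕ) : Tri :=
  (vOf (unpackI 72 n) 0, vOf (unpackI 72 n) 24, vOf (unpackI 72 n) 48)

def Small (v : V3) : Prop := ∀ a ∈ vInts v, -8 ≤ a ∧ a < 8

theorem vInts_length (v : V3) : (vInts v).length = 24 := rfl

theorem vOf_vInts (a b c : V3) :
    vOf (vInts a ++ vInts b ++ vInts c) 0 = a ∧ vOf (vInts a ++ vInts b ++ vInts c) 24 = b ∧
      vOf (vInts a ++ vInts b ++ vInts c) 48 = c := ⟨rfl, rfl, rfl⟩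

theorem decT_encT {t : Tri} (h1 : Small t.1) (h2 : Small t.2.1) (h3 : Small t.2.2) :
    decT (encT t) = t := by
  have hl : (vInts t.1 ++ vInts t.2.1 ++ vInts t.2.2).length = 72 := rfl
  have h : unpackI 72 (encT t) = vInts t.1 ++ vInts t.2.1 ++ vInts t.2.2 := by
    rw [← hl, encT, unpack_pack]
    intro a ha
    rcases List.mem_append.mp ha with ha | ha
    · rcases List.mem_append.mp ha with ha | ha
      · exact h1 a ha
      · exact h2 a ha
    · exact h3 a ha
  obtain ⟨e1, e2, e3⟩ := vOf_vInts t.1 t.2.1 t.2.2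
  unfold decT
  rw [h, e1, e2, e3]

theorem form_bound {a b : ℤ} (h : 2 * a * a + 2 * a * b + 3 * b * b ≤ 32) :
    (-8 ≤ a ∧ a < 8) ∧ (-8 ≤ b ∧ b < 8) := by
  have hb : b * b ≤ 12 := by nlinarith [sq_nonneg (2 * a + b)]
  have ha : a * a ≤ 19 := by nlinarith [sq_nonneg (a + 3 * b)]
  refine ⟨⟨?_, ?_⟩, ⟨?_, ?_⟩⟩ <;> nlinarith

theorem small_of_root {v : V3} (h : v.isRoot = true) : Small v := by
  obtain ⟨hx, hy, hz⟩ := V3.inI3_iff.mp (V3.inI3_of_inL (V3.isRoot_iff.mp h).1)
  have hs := V3.root_nrm h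
  obtain ⟨a1, a2⟩ := Q8.nrm_spec hx
  obtain ⟨b1, b2⟩ := Q8.nrm_spec hy
  obtain ⟨c1, c2⟩ := Q8.nrm_spec hz
  have dx := (Q8.nrm_disc hx).1
  have dy := (Q8.nrm_disc hy).1
  have dz := (Q8.nrm_disc hz).1
  simp only [Zt.add, Zt.mk.injEq] at hs
  simp only [Zt.tr] at dx dy dz
  have key : ∀ q : Q8, q.nsum.tr ≤ 32 → ∀ a ∈ qInts q, -8 ≤ a ∧ a < 8 := by
    intro q hq a ha
    rw [(Q8.nsum_eq q).1] at hq
    have p0 := (Q8.sq_disc q.x0.a q.x0.b).1
    have p1 := (Q8.sq_disc q.x1.a q.x1.b).1
    have p2 := (Q8.sq_disc q.x2.a q.x2.b).1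
    have p3 := (Q8.sq_disc q.x3.a q.x3.b).1
    have f0 := form_bound (a := q.x0.a) (b := q.x0.b) (by linarith)
    have f1 := form_bound (a := q.x1.a) (b := q.x1.b) (by linarith)
    have f2 := form_bound (a := q.x2.a) (b := q.x2.b) (by linarith)
    have f3 := form_bound (a := q.x3.a) (b := q.x3.b) (by linarith)
    simp only [qInts, List.mem_cons, List.not_mem_nil, or_false] at ha
    rcases ha with rfl | rfl | rfl | rfl | rfl | rfl | rfl | rfl
    exacts [f0.1, f0.2, f1.1, f1.2, f2.1, f2.2, f3.1, f3.2]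
  intro a ha
  rcases List.mem_append.mp ha with ha | ha
  · rcases List.mem_append.mp ha with ha | ha
    · exact key v.x (by simp only [Zt.tr, a1, a2]; linarith) a ha
    · exact key v.y (by simp only [Zt.tr, b1, b2]; linarith) a ha
  · exact key v.z (by simp only [Zt.tr, c1, c2]; linarith) a ha

/-- halve a vector -/
def hV (v : V3) : V3 := ⟨v.x.half, v.y.half, v.z.half⟩

/-- apply a triple of images to a vector -/
def appT (G : Tri) (v : V3) : V3 :=
  hV (((V3.lsmul v.x G.1).add (V3.lsmul v.y G.2.1)).add (V3.lsmul v.z G.2.2))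

/-- multiply codes -/
def mulC (a b : ℕ) : ℕ :=
  encT (appT (decT a) (decT b).1, appT (decT a) (decT b).2.1, appT (decT a) (decT b).2.2)

/-- the code of the identity -/
def oneC : ℕ := encT (e0, e1, e2)

theorem exists_img (g : twoJ2) (x : icoLeech) : ∃ v : V3, v.inL = true ∧
    v.val = (((g : Equiv.Perm icoLeech) x : icoLeech) : H3) :=
  V3.exists_of_mem ((g : Equiv.Perm icoLeech) x).2

noncomputable def img (g : twoJ2) (x : icoLeech) : V3 := (exists_img g x).choose

theorem img_spec (g : twoJ2) (x : icoLeech) : (img g x).inL = true ∧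
    (img g x).val = (((g : Equiv.Perm icoLeech) x : icoLeech) : H3) :=
  (exists_img g x).choose_spec

theorem img_eq {g : twoJ2} {x : icoLeech} {v : V3}
    (h : v.val = (((g : Equiv.Perm icoLeech) x : icoLeech) : H3)) : img g x = v :=
  V3.val_inj ((img_spec g x).2.trans h.symm)

theorem img_small (g : twoJ2) {x : icoLeech} (hx : qip (x : H3) x = 4) : Small (img g x) := by
  obtain ⟨hL, hv⟩ := img_spec g x
  exact small_of_root (V3.isRoot_iff.mpr ⟨hL, by rw [hv, (isAut_of_mem g.2).map_qip, hx]⟩)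

noncomputable def imgs (g : twoJ2) : Tri := (img g base, img g base1, img g base2)

/-- the code of an element -/
noncomputable def codeT (g : twoJ2) : ℕ := encT (imgs g)

theorem base12_qip : qip (base1 : H3) base1 = 4 ∧ qip (base2 : H3) base2 = 4 :=
  ⟨(V3.isRoot_iff.mp (by decide +kernel : e1.isRoot = true)).2,
    (V3.isRoot_iff.mp (by decide +kernel : e2.isRoot = true)).2⟩

theorem dec_code (g : twoJ2) : decT (codeT g) = imgs g :=
  decT_encT (img_small g base_qip) (img_small g base12_qip.1) (img_small g base12_qip.2)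

theorem appT_imgs (g : twoJ2) {v : V3} (hv : v.inL = true) :
    appT (imgs g) v = img g (toLat v hv) := by
  have hA := isAut_of_mem g.2
  obtain ⟨hx, hy, hz⟩ := V3.inI3_iff.mp (V3.inI3_of_inL hv)
  obtain ⟨a0, a1⟩ := img_spec g base
  obtain ⟨b0, b1⟩ := img_spec g base1
  obtain ⟨c0, c1⟩ := img_spec g base2
  set w := img g (toLat v hv) with hw
  have e : ((V3.lsmul v.x (img g base)).add (V3.lsmul v.y (img g base1))).add
      (V3.lsmul v.z (img g base2)) = w.add w := by
    apply V3.val_inj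
    rw [V3.val_add, V3.val_add, V3.val_add, V3.val_lsmul' hx (V3.inI3_of_inL a0),
      V3.val_lsmul' hy (V3.inI3_of_inL b0), V3.val_lsmul' hz (V3.inI3_of_inL c0), a1, b1, c1, hw,
      (img_spec g (toLat v hv)).2, hA.double]
    rfl
  show hV (((V3.lsmul v.x (img g base)).add (V3.lsmul v.y (img g base1))).add
    (V3.lsmul v.z (img g base2))) = w
  rw [e]
  simp [hV, V3.add, Q8.half_add_self]

theorem codeT_mul (a b : twoJ2) : codeT (a * b) = mulC (codeT a) (codeT b) := by
  rw [mulC, dec_code, dec_code, codeT]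
  congr 1
  have key : ∀ x : icoLeech, img (a * b) x = appT (imgs a) (img b x) := by
    intro x
    obtain ⟨hL, hv⟩ := img_spec b x
    rw [appT_imgs a hL]
    refine img_eq ?_
    rw [(img_spec a (toLat (img b x) hL)).2]
    have : toLat (img b x) hL = (b : Equiv.Perm icoLeech) x := Subtype.ext hv
    rw [this]
    rfl
  simp only [imgs, key]

theorem codeT_inj : Function.Injective codeT := by
  intro a b h
  have e : imgs a = imgs b := by rw [← dec_code, h, dec_code]
  simp only [imgs, Prod.mk.injEq] at e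
  refine Subtype.ext (IsAut.ext (isAut_of_mem a.2) (isAut_of_mem b.2) ?_ ?_ ?_) <;>
    apply Subtype.ext
  · rw [← (img_spec a base).2, e.1, (img_spec b base).2]
  · rw [← (img_spec a base1).2, e.2.1, (img_spec b base1).2]
  · rw [← (img_spec a base2).2, e.2.2, (img_spec b base2).2]

theorem codeT_one : codeT 1 = oneC := by
  simp only [codeT, imgs, oneC]
  rw [img_eq (g := 1) (x := base) (v := e0) rfl, img_eq (g := 1) (x := base1) (v := e1) rfl,
    img_eq (g := 1) (x := base2) (v := e2) rfl]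

/-- the coding of the double cover -/
noncomputable def coding : H97.SchurCert.Coding twoJ2 mulC oneC where
  code := codeT
  inj := codeT_inj
  map_one := codeT_one
  map_mul := codeT_mul

/-- the code of a word in the line reflections -/
def wordCode (w : List ℕ) : ℕ := encT (applyWord w e0, applyWord w e1, applyWord w e2)

theorem exists_code {w : List ℕ} (hw : w.all (· < 315) = true) :
    ∃ g : twoJ2, codeT g = wordCode w := by
  obtain ⟨g, hg, h⟩ := exists_word w hw
  refine ⟨⟨g, hg⟩, ?_⟩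
  simp only [codeT, imgs, wordCode]
  rw [img_eq (g := ⟨g, hg⟩) (x := base) (v := applyWord w e0) (h e0 e0_inL).2.symm,
    img_eq (g := ⟨g, hg⟩) (x := base1) (v := applyWord w e1) (h e1 e1_inL).2.symm,
    img_eq (g := ⟨g, hg⟩) (x := base2) (v := applyWord w e2) (h e2 e2_inL).2.symm]

end J2Schur
end H26
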