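import Mathlib

/-! Tables for the automorphisms of the Hall-Janko group (found by search, checked by the kernel). -/

set_option autoImplicit false

namespace H26
namespace J2Out

def quad : List (ℕ × ℕ × ℕ) := [(0, 0, 0), (3, 2147, 872), (10, 13336, 33091), (183, 1106, 596)]
def altLine : ℕ × ℕ × ℕ := (201, 16994, 9764)
def sq4 : ℕ := 398901
def genWords : List (List ℕ) :=
 [[0],
  [3, 1, 0, 2, 0, 3, 0, 2, 0, 1, 3],
  [0, 3, 2, 0, 1, 2, 1, 0, 2, 3, 0],
  [0, 1, 3, 2, 0, 2, 3, 1, 0],
  [3, 2, 0, 1, 2, 1, 0, 2, 3],
  [2, 0, 3, 1, 2, 0, 2, 1, 3, 0, 2],
  [2, 3, 0, 2, 0, 3, 0, 2, 0, 3, 2],
  [2, 3, 0, 1, 0, 3, 2]]
def normA : List ℕ :=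
 [0, 7561814, 119935540, 38282087, 8602484, 6435960, 56042630, 1475623, 354375, 22290822, 70731336, 57821285, 54690373, 108229688, 295240, 10021, 7489558, 6390823, 6628643, 226438, 4666424, 6390919, 75555, 1475701, 2384215, 3416454, 37979491, 7562531, 22407, 5513606, 53, 2647128, 91623988, 121864754, 68318226, 6820419, 4269074, 75557, 102070372, 1343816, 79751, 1558, 6628919, 37176194, 7693125, 5387828, 7562533, 2179604, 5650469, 72767527, 6759446, 121987955, 477283, 1275014, 7559222, 41124679, 140777541, 357510, 2365016, 69436946, 1525861, 5653796, 6390899, 410230, 19161431, 1406086, 96295, 6435971, 2323330, 39204630, 88557172, 3553315, 480852, 1475699, 59008018, 10019, 5654, 55996998, 38241106, 73667205, 121771046, 29319, 2589541, 94855, 427123, 8614790, 309, 1271879, 468102, 109515557, 25563672, 19100546, 7546980, 3297878, 6386246, 23405938, 1525859, 3691574, 22173239, 223303, 57108500, 2634327, 3556644, 41435427, 5407589, 24470341, 218646, 4740884, 87943, 104292690, 2577975, 3622934, 3687206, 5657191, 30759, 2511896, 7742819, 21395078, 5396023, 69428610, 2450294, 34890534, 73495650, 23168117, 1529428, 59064662, 398901, 6755414, 120092182, 1589636, 69698115, 8741186, 7562610, 121067572, 2635570, 123946310, 427047, 119899684, 1516678, 6764114, 8726578,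 477285, 427125, 6435973, 7423331, 2367799, 20075094, 7742487, 284247, 7419458, 4659284, 14215, 6635894, 22427762, 137835655, 34957123, 1402951, 35029796, 1, 3560039]
def stabA : List ℕ :=
 [0, 54878770, 36857155, 121799764, 1209153079, 1445168248, 69552199, 1652045398, 605385590, 1382254422, 6242387240, 2269655653]
def piTab : ℕ := 8706307142806420498482447069285076134615605307189813575994242951048868186520373951968823959623452576811557965566052897744045555093848875703118382696728634368796704296324145317934498909998352304006953218877806175026869099526409379695827440474085938546133283720424209573357634863516528234691092448503574905078533622390981894278207004095595396557862312690761720363625193631236391330012248998230357923257373893109406934503722920841978376013988342791335118966662882717816418248601730364397175965618381246530550637789229343107887053134070131154753255112989614204169070397501650163773399055336247052653162826754459180928839823624380458829887449648822828912528559812419845548477667126042350436194006850920741448496493536072644625993736469424945140781599094391304533627971806396666464870974821328553940045222509112339183983462067510147842704766984835617662173696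
def piInvTab : ℕ := 8706307142806420498482447069285076134615605307189813575994242951048868186520373951968823959623452576811557965566052897744045555093848875703118382696728634368796704296324145317934498909998352304006953218877806175026869099526409379695827440474085938546133283720424209573357634863516528234691092448503574905078533622390981894278207004095595396557862312690761720363625193631236391330012248998230357923257373893109406934503722920841978376013988342791335118966662882717816418248601730364397175965618381246530550637789229343107887053134070131154753255112989614204169070397501650163773399055336247052653162826754459180928839823624380458829887449648822828912528559812419845548477667126042350436194006850920741448496493536072644625993736469424945140781599094391304533627971806396666464870974821328553940045222509112339183983462067510147842704766984835617662173696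

end J2Out
end H26
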