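import Cfsg.Agent.H26.J2Spectrum
import Cfsg.Agent.H26.J2OutData
import Cfsg.Prelude.Def_KGroupFacts

/-!
The outer automorphism group of the Hall-Janko group has order 2.
An automorphism keeps the class of reflections (squares of elements of order 4); four reflections
generate, and the stabiliser of line 0 leaves two choices for their images.
-/

set_option autoImplicit false

namespace H26
namespace J2Out

open Cfsg.Spor H96.J2 H26.J2S

/-- the reflection of line `x` -/
noncomputable def rE (x : ℕ) : J2 :=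
  if h : x < 315 then QuotientGroup.mk (⟨lineRefl ⟨x, h⟩, lineRefl_mem _⟩ : twoJ2) else 1

theorem rE_conj (g : J2) {x : ℕ} (hx : x < 315) : g * rE x * g⁻¹ = rE (act g x) := by
  obtain ⟨t, rfl⟩ := QuotientGroup.mk_surjective g
  have hy : act (QuotientGroup.mk t : J2) x < 315 := act_lt _ hx
  rw [rE, rE, dif_pos hx, dif_pos hy, ← QuotientGroup.mk_inv, ← QuotientGroup.mk_mul,
    ← QuotientGroup.mk_mul]
  congr 1
  apply Subtype.ext
  show (t : Equiv.Perm icoLeech) * lineRefl ⟨x, hx⟩ * (t : Equiv.Perm icoLeech)⁻¹ = _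
  rw [idx_spec]
  congr 1
  apply Fin.ext
  simp only [act, hx, dif_pos]
  rfl

theorem gen_zero : gen 0 = rE 0 := by
  have h : (genAt 0).1 = 0 := by decide +kernel
  unfold gen rE
  rw [dif_pos (by norm_num : (0 : ℕ) < 315)]
  congr <;> exact h

/-- the reflection of a transversal entry, as a map -/
def reflFn (e : ℕ × ℕ × ℕ) (x : ℕ) : ℕ := ev e.2.1 (app 0 (ev e.2.2 x))

theorem rE_eq {e : ℕ × ℕ × ℕ} (he : e ∈ transW) :
    rE e.1 = el e.2.1 * gen 0 * el e.2.2 := by
  have hr := el_rev he
  have h := List.all_eq_true.mp transW_ok e he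
  simp only [Bool.and_eq_true, decide_eq_true_eq] at h
  rw [eq_inv_of_mul_eq_one_left hr, gen_zero, rE_conj _ (by norm_num), act_el _ (by norm_num), h.1]

theorem act_rE {e : ℕ × ℕ × ℕ} (he : e ∈ transW) {x : ℕ} (hx : x < 315) :
    act (rE e.1) x = reflFn e x := by
  rw [rE_eq he, act_mul, act_mul, act_el e.2.2 hx, act_gen 0 (ev_lt _ hx),
    act_el e.2.1 ?_]
  · rfl
  · rw [← act_gen 0 (ev_lt _ hx)]; exact act_lt _ (ev_lt _ hx)

theorem rE_injective {x y : ℕ} (hx : x < 315) (hy : y < 315) (h : rE x = rE y) : x = y := by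
  obtain ⟨d, hd, rfl⟩ := exists_trans hx
  obtain ⟨e, he, rfl⟩ := exists_trans hy
  rw [rE, rE, dif_pos hx, dif_pos hy] at h
  rw [QuotientGroup.eq] at h
  rw [← sigma2_ker, MonoidHom.mem_ker, map_mul, map_inv, inv_mul_eq_one] at h
  by_contra hne
  have key : ∀ z : ℕ, z < 315 → act (rE d.1) z = act (rE e.1) z := by
    intro z hz
    simp only [act, hz, dif_pos]
    rw [rE, rE, dif_pos hx, dif_pos hy]
    show (sigma2 _ ⟨z, hz⟩ : ℕ) = sigma2 _ ⟨z, hz⟩
    rw [h]
  have hs := sameB_of_eq (g := rE d.1) (h := rE d.1) (f := reflFn d) (k := reflFn e)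
    (fun z hz => act_rE hd hz) (fun z hz => by rw [key z hz, act_rE he hz]) rfl
  have := List.all_eq_true.mp refl_distinct_ok d hd
  have := List.all_eq_true.mp this e he
  simp [hs, hne] at this
where
  refl_distinct_ok : (transW.all fun d => transW.all fun e =>
      decide (d.1 = e.1) || !(sameB (reflFn d) (reflFn e))) = true := by decide +kernel

/-- the four reflections -/
def quadFn (i : ℕ) : ℕ → ℕ := reflFn (quad.getD i (0, 0, 0))

/-- product of the listed maps -/
def prodFn : List (ℕ → ℕ) → ℕ → ℕ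
  | [], x => x
  | f :: l, x => f (prodFn l x)

theorem act_prod : ∀ (L : List J2) (F : List (ℕ → ℕ)),
    List.Forall₂ (fun g f => ∀ x, x < 315 → act g x = f x) L F →
      ∀ x, x < 315 → act L.prod x = prodFn F x
  | [], _, h, x, _ => by cases h; simp [prodFn, act_one]
  | g :: L, _, h, x, hx => by
    cases h with
    | cons hg hF =>
      rw [List.prod_cons, act_mul, hg _ (act_lt _ hx), act_prod L _ hF x hx]
      rfl

/-- the pair of exponent and expected truth -/
def relOK (F : List (ℕ → ℕ)) (c : ℕ × Bool) : Bool := sameB (it (prodFn F) c.1) id == c.2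

theorem rel_transfer (φ : J2 ≃* J2) {L : List J2} {F F' : List (ℕ → ℕ)}
    (hF : List.Forall₂ (fun g f => ∀ x, x < 315 → act g x = f x) L F)
    (hF' : List.Forall₂ (fun g f => ∀ x, x < 315 → act g x = f x) (L.map φ) F') (c : ℕ × Bool) :
    relOK F' c = relOK F c := by
  have key : sameB (it (prodFn F') c.1) id = true ↔ sameB (it (prodFn F) c.1) id = true := by
    constructor <;> intro h
    · have e : (L.map φ).prod ^ c.1 = 1 :=
        ext_sameB (fun x hx => act_pow_of (act_prod _ _ hF') _ hx) (fun x _ => act_one x) h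
      have e' : L.prod ^ c.1 = 1 := φ.injective (by rw [map_pow, map_list_prod, e, map_one])
      exact sameB_of_eq (fun x hx => act_pow_of (act_prod _ _ hF) _ hx) (fun x _ => act_one x) e'
    · have e : L.prod ^ c.1 = 1 :=
        ext_sameB (fun x hx => act_pow_of (act_prod _ _ hF) _ hx) (fun x _ => act_one x) h
      have e' : (L.map φ).prod ^ c.1 = 1 := by rw [← map_list_prod, ← map_pow, e, map_one]
      exact sameB_of_eq (fun x hx => act_pow_of (act_prod _ _ hF') _ hx) (fun x _ => act_one x) e'
  unfold relOK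
  rw [Bool.eq_iff_iff.mpr key]

/-- conditions on the second reflection -/
def condA (f : ℕ → ℕ) : Bool := relOK [quadFn 0, f] (3, true)

/-- conditions on the third reflection -/
def condB (f : ℕ → ℕ) : Bool :=
  relOK [quadFn 0, f] (4, true) && relOK [quadFn 0, f] (2, false) &&
    relOK [quadFn 1, f] (3, true) && relOK [quadFn 0, quadFn 1, f] (7, true)

/-- conditions on the fourth reflection -/
def condC (f : ℕ → ℕ) : Bool :=
  relOK [quadFn 0, quadFn 1, f] (6, true) && relOK [quadFn 0, quadFn 1, f] (3, false) &&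
    relOK [quadFn 0, quadFn 1, f] (2, false) &&
    relOK [quadFn 0, quadFn 2, f] (12, true) && relOK [quadFn 0, quadFn 2, f] (6, false) &&
    relOK [quadFn 0, quadFn 2, f] (4, false)

theorem quad_mem : (quad.all fun e => decide (e ∈ transW)) = true ∧ quad.length = 4 ∧
    decide (altLine ∈ transW) = true ∧ (quad.getD 0 (0, 0, 0)).1 = 0 := by decide +kernel

/-- the line of the `i`-th reflection -/
def qLine (i : ℕ) : ℕ := (quad.getD i (0, 0, 0)).1

theorem quad_entry {i : ℕ} (hi : i < 4) : quad.getD i (0, 0, 0) ∈ transW := by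
  obtain ⟨h, hl, -, -⟩ := quad_mem
  rw [List.getD_eq_getElem _ _ (by omega)]
  exact decide_eq_true_eq.mp (List.all_eq_true.mp h _ (List.getElem_mem _))

theorem act_quad {i : ℕ} (hi : i < 4) : ∀ x, x < 315 → act (rE (qLine i)) x = quadFn i x :=
  fun _ hx => act_rE (quad_entry hi) hx

theorem mem_lt {e : ℕ × ℕ × ℕ} (he : e ∈ transW) : e.1 < 315 := by
  have h : e.1 ∈ transW.map (fun e => e.1) := List.mem_map.mpr ⟨e, he, rfl⟩
  rw [transW_fst] at h
  exact List.mem_range.mp h

theorem qLine_lt {i : ℕ} (hi : i < 4) : qLine i < 315 := mem_lt (quad_entry hi)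

theorem conds_self : condA (quadFn 1) = true ∧ condB (quadFn 2) = true ∧ condC (quadFn 3) = true := by
  decide +kernel

theorem candA : (transW.all fun e => !(condA (reflFn e)) || decide (e.1 = qLine 0) ||
    normA.any fun w => decide (ev w (qLine 1) = e.1)) = true := by decide +kernel

theorem candB : (transW.all fun e => !(condB (reflFn e)) ||
    stabA.any fun w => decide (ev w (qLine 2) = e.1)) = true := by decide +kernel

theorem candC : (transW.all fun e => !(condC (reflFn e)) || decide (e.1 = qLine 3) ||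
    decide (e.1 = altLine.1)) = true := by decide +kernel

theorem normA_ok : (normA.all fun w => decide (ev w 0 = 0)) = true := by decide +kernel
theorem stabA_ok : (stabA.all fun w => decide (ev w 0 = 0) && decide (ev w (qLine 1) = qLine 1)) =
    true := by decide +kernel

/-- squares of elements of order four in the stabiliser are reflections -/
theorem stab_four : (stabW.all fun w => !(sameB (it (ev w) 4) id) || sameB (it (ev w) 2) id ||
    transW.any fun e => sameB (it (ev w) 2) (reflFn e)) = true := by decide +kernel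

theorem sq4_ok : sameB (it (ev sq4) 2) (quadFn 0) = true := by decide +kernel

theorem exists_conj_stab {g : J2} (hg : ∃ j, orderOf g = 2 ^ j) :
    ∃ c : J2, act (c * g * c⁻¹) 0 = 0 := by
  haveI : Fact (Nat.Prime 2) := ⟨Nat.prime_two⟩
  haveI : Finite J2 := Nat.finite_of_card_ne_zero (by rw [card_J2]; norm_num)
  let H : Subgroup J2 :=
    { carrier := {g | act g 0 = 0}
      one_mem' := act_one 0
      mul_mem' := fun {a b} ha hb => by
        show act (a * b) 0 = 0
        rw [act_mul, hb, ha]
      inv_mem' := fun {a} ha => by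
        show act a⁻¹ 0 = 0
        conv_lhs => arg 2; rw [← (ha : act a 0 = 0)]
        exact act_inv_self a 0 }
  have hH : 1920 ∣ Nat.card H := by
    obtain ⟨S, hS, hSc⟩ : ∃ S : Set J2, S ⊆ H ∧ S.ncard = 1920 := by
      refine ⟨el '' {w | w ∈ stabW}, ?_, ?_⟩
      · rintro _ ⟨w, hw, rfl⟩
        show act (el w) 0 = 0
        rw [act_el w (by norm_num)]
        exact decide_eq_true_eq.mp (List.all_eq_true.mp J2S.stabW_ok w hw)
      · have hnd : (stabW.map fun w => ev w 3 * 512 + ev w 4).Nodup :=
          (incKeys_spec _ stabW_inc).imp (fun h => ne_of_lt h)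
        have hinj : Set.InjOn el {w | w ∈ stabW} := fun a ha b hb e => by
          refine List.inj_on_of_nodup_map hnd ha hb ?_
          rw [← act_el a (by norm_num), ← act_el a (by norm_num), ← act_el b (by norm_num),
            ← act_el b (by norm_num), e]
        rw [hinj.ncard_image, ← List.coe_toFinset, Set.ncard_coe_finset,
          List.toFinset_card_of_nodup hnd.of_map, stabW_length]
    have hle : (H : Set J2) ⊆ el '' {w | w ∈ stabW} := fun h hh => by
      obtain ⟨w, hw, e⟩ := exists_stabW (h := h) hh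
      exact ⟨w, hw, e.symm⟩
    have h1 : 1920 ≤ Nat.card H := by
      rw [← hSc, ← SetLike.coe_sort_coe, Nat.card_coe_set_eq]
      exact Set.ncard_le_ncard hS (Set.toFinite _)
    have h2 : Nat.card H ≤ 1920 := by
      rw [← SetLike.coe_sort_coe, Nat.card_coe_set_eq]
      refine (Set.ncard_le_ncard hle (Set.toFinite _)).trans ((Set.ncard_image_le stabW.finite_toSet).trans ?_)
      rw [← List.coe_toFinset, Set.ncard_coe_finset]
      exact (List.toFinset_card_le _).trans (le_of_eq stabW_length)
    rw [le_antisymm h2 h1]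
  obtain ⟨K, hK⟩ := Sylow.exists_subgroup_card_pow_prime (G := H) 2 (n := 7)
    (dvd_trans (by norm_num) hH)
  obtain ⟨c, hc⟩ := exists_conj_mem (p := 2) (k := 7) (m := 4725) (by norm_num) (by norm_num)
    (K := K.map H.subtype) (by rw [Subgroup.card_map_of_injective H.subtype_injective, hK]) hg
  obtain ⟨y, -, hy⟩ := hc
  exact ⟨c, hy ▸ y.2⟩

/-- an automorphism carries the reflection of line 0 to a reflection -/
theorem exists_image (φ : J2 ≃* J2) : ∃ c : J2, c * φ (rE 0) * c⁻¹ = rE 0 := by
  haveI : Finite J2 := Nat.finite_of_card_ne_zero (by rw [card_J2]; norm_num)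
  have h0 : rE 0 ≠ 1 := by
    intro h
    have := congrArg (fun g => act g (qLine 1)) h
    rw [act_one] at this
    have e := act_quad (i := 0) (by norm_num) (qLine 1) (qLine_lt (by norm_num))
    rw [show qLine 0 = 0 from quad_mem.2.2.2, this] at e
    exact absurd e (by decide +kernel)
  have hq : el sq4 ^ 2 = rE 0 :=
    ext_sameB (fun x hx => act_el_pow _ _ hx)
      (fun x hx => by rw [← quad_mem.2.2.2]; exact act_quad (i := 0) (by norm_num) x hx) sq4_ok
  have h02 : rE 0 ^ 2 = 1 := by
    rw [pow_two, rE, dif_pos (by norm_num : (0 : ℕ) < 315), ← QuotientGroup.mk_mul,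
      QuotientGroup.eq_one_iff]
    convert one_mem (Subgroup.center twoJ2)
    apply Subtype.ext
    exact Equiv.ext fun x => Subtype.ext (qrefl_qrefl (V3.isRoot_iff.mp (line_root (by norm_num))).2 _)
  set y := φ (el sq4) with hy
  have hy2 : y ^ 2 = φ (rE 0) := by rw [hy, ← map_pow, hq]
  have hy4 : y ^ 4 = 1 := by rw [show (4 : ℕ) = 2 * 2 from rfl, pow_mul, hy2, ← map_pow, h02, map_one]
  have hne : y ^ 2 ≠ 1 := by rw [hy2]; simpa using h0
  obtain ⟨j, -, hj⟩ := (Nat.dvd_prime_pow Nat.prime_two).mp
    (orderOf_dvd_of_pow_eq_one (show y ^ (2 ^ 2) = 1 from hy4))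
  obtain ⟨c, hc⟩ := exists_conj_stab (g := y) ⟨j, hj⟩
  obtain ⟨w, hw, hwe⟩ := exists_stabW hc
  have hpow : ∀ n, (c * y * c⁻¹) ^ n = el w ^ n := fun n => by rw [hwe]
  have h := List.all_eq_true.mp stab_four w hw
  simp only [Bool.or_eq_true, Bool.not_eq_true', List.any_eq_true] at h
  rcases h with (h | h) | ⟨e, he, h⟩
  · exfalso
    have := sameB_of_eq (fun x hx => act_el_pow w 4 hx) (fun x _ => act_one x)
      (show el w ^ 4 = 1 by rw [← hpow, conj_pow, hy4]; simp)
    rw [show (fun x : ℕ => x) = id from rfl] at this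
    rw [this] at h
    exact Bool.noConfusion h
  · exfalso
    have h2 : el w ^ 2 = 1 := ext_sameB (fun x hx => act_el_pow w 2 hx) (fun x _ => act_one x) h
    rw [← hpow, conj_pow, conj_eq_one_iff] at h2
    exact hne h2
  · have h2 : el w ^ 2 = rE e.1 :=
      ext_sameB (fun x hx => act_el_pow w 2 hx) (fun x hx => act_rE he hx) h
    rw [← hpow, conj_pow, hy2] at h2
    refine ⟨(el e.2.1)⁻¹ * c, ?_⟩
    rw [rE_eq he, gen_zero, eq_inv_of_mul_eq_one_left (el_rev he)] at h2
    calc _ = (el e.2.1)⁻¹ * (c * φ (rE 0) * c⁻¹) * el e.2.1 := by group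
      _ = rE 0 := by rw [h2]; group

/-- every element is a product of the four reflections -/
theorem closure_quad : Subgroup.closure {g : J2 | ∃ i < 4, g = rE (qLine i)} = ⊤ := by
  set S := Subgroup.closure {g : J2 | ∃ i < 4, g = rE (qLine i)}
  have hgen : ∀ d, gen d ∈ S := by
    intro d
    have key : ∀ d < 8, ∃ L : List ℕ, (∀ i ∈ L, i < 4) ∧
        sameB (app d) (prodFn (L.map quadFn)) = true := by
      intro d hd
      refine ⟨genWords.getD d [], ?_, ?_⟩
      · have := List.all_eq_true.mp genWords_lt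
        intro i hi
        rw [List.getD_eq_getElem?_getD] at hi
        rcases h : genWords[d]? with _ | l
        · simp [h] at hi
        · simp [h] at hi
          exact decide_eq_true_eq.mp (List.all_eq_true.mp (this l (List.mem_of_getElem? h)) i hi)
      · exact (List.all_eq_true.mp genWords_ok d (List.mem_range.mpr hd))
    obtain ⟨d', hd', e⟩ : ∃ d' < 8, gen d = gen d' := by
      by_cases hd : d < 8
      · exact ⟨d, hd, rfl⟩
      · refine ⟨0, by norm_num, ?_⟩
        have : genAt d = genAt 0 := by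
          unfold genAt
          rw [List.getD_eq_default _ _ (by simp [genData]; omega)]
          rfl
        unfold gen
        congr 2
        exact congrArg lineRefl (Fin.ext (congrArg Prod.fst this))
    obtain ⟨L, hL, hsame⟩ := key d' hd'
    rw [e, show gen d' = (L.map fun i => rE (qLine i)).prod from
      ext_sameB (fun x hx => act_gen d' hx) (act_prod _ _ (by
        rw [List.forall₂_map_left_iff, List.forall₂_map_right_iff, List.forall₂_same]
        exact fun i hi => act_quad (hL i hi))) hsame]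
    refine Subgroup.list_prod_mem _ fun g hg => ?_
    obtain ⟨i, hi, rfl⟩ := List.mem_map.mp hg
    exact Subgroup.subset_closure ⟨i, hL i hi, rfl⟩
  have hel : ∀ f w, elF f w ∈ S := by
    intro f
    induction f with
    | zero => intro w; exact S.one_mem
    | succ f ih =>
      intro w
      rw [elF]
      split_ifs
      · exact S.one_mem
      · exact S.mul_mem (hgen _) (ih _)
  refine eq_top_iff.mpr fun g _ => ?_
  obtain ⟨e, -, w, -, -, rfl⟩ := exists_factor g
  exact S.mul_mem (hel _ _) (hel _ _)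
where
  genWords_lt : (genWords.all fun l => l.all fun i => decide (i < 4)) = true := by decide +kernel
  genWords_ok : ((List.range 8).all fun d =>
      sameB (app d) (prodFn ((genWords.getD d []).map quadFn))) = true := by decide +kernel

theorem ext_quad {φ ψ : J2 ≃* J2} (h : ∀ i < 4, φ (rE (qLine i)) = ψ (rE (qLine i))) : φ = ψ := by
  have : (φ : J2 →* J2) = (ψ : J2 →* J2) :=
    MonoidHom.eq_of_eqOn_dense closure_quad (by rintro _ ⟨i, hi, rfl⟩; exact h i hi)
  exact MulEquiv.ext fun x => DFunLike.congr_fun this x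

/-! ### The exceptional automorphism -/

/-- the permutation of lines -/
def piF (x : ℕ) : ℕ := look 9 piTab x
/-- its inverse -/
def piG (x : ℕ) : ℕ := look 9 piInvTab x

/-- the four target reflections -/
def tgtFn (i : ℕ) : ℕ → ℕ := if i = 3 then reflFn altLine else quadFn i

theorem pi_ok : ((List.range 315).all fun x => decide (piF x < 315) && decide (piG x < 315) &&
    decide (piG (piF x) = x) && decide (piF (piG x) = x) &&
    (List.range 4).all fun i => decide (piF (quadFn i x) = tgtFn i (piF x))) = true := by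
  decide +kernel

noncomputable def piPerm : Equiv.Perm (Fin 315) where
  toFun x := ⟨piF x, by
    have := List.all_eq_true.mp pi_ok x.1 (List.mem_range.mpr x.2)
    simp only [Bool.and_eq_true, decide_eq_true_eq] at this; exact this.1.1.1.1⟩
  invFun x := ⟨piG x, by
    have := List.all_eq_true.mp pi_ok x.1 (List.mem_range.mpr x.2)
    simp only [Bool.and_eq_true, decide_eq_true_eq] at this; exact this.1.1.1.2⟩
  left_inv x := Fin.ext (by
    have := List.all_eq_true.mp pi_ok x.1 (List.mem_range.mpr x.2)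
    simp only [Bool.and_eq_true, decide_eq_true_eq] at this; exact this.1.1.2)
  right_inv x := Fin.ext (by
    have := List.all_eq_true.mp pi_ok x.1 (List.mem_range.mpr x.2)
    simp only [Bool.and_eq_true, decide_eq_true_eq] at this; exact this.1.2)

/-- the image line of the `i`-th reflection -/
def tLine (i : ℕ) : ℕ := if i = 3 then altLine.1 else qLine i

theorem act_tgt {i : ℕ} (hi : i < 4) : ∀ x, x < 315 → act (rE (tLine i)) x = tgtFn i x := by
  intro x hx
  unfold tLine tgtFn
  split_ifs with h
  · exact act_rE (decide_eq_true_eq.mp quad_mem.2.2.1) hx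
  · exact act_quad hi x hx

theorem pi_conj {i : ℕ} (hi : i < 4) :
    MulAut.conj piPerm (sigma (rE (qLine i))) = sigma (rE (tLine i)) := by
  rw [MulAut.conj_apply, mul_inv_eq_iff_eq_mul]
  refine Equiv.ext fun x => Fin.ext ?_
  have h := List.all_eq_true.mp pi_ok x.1 (List.mem_range.mpr x.2)
  simp only [Bool.and_eq_true, decide_eq_true_eq, List.all_eq_true, List.mem_range] at h
  have e1 := act_quad hi x.1 x.2
  rw [act, dif_pos x.2] at e1
  have e2 := act_tgt hi (piF x.1) h.1.1.1.1
  rw [act, dif_pos h.1.1.1.1] at e2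
  show piF (sigma (rE (qLine i)) x).1 = (sigma (rE (tLine i)) (piPerm x)).1
  rw [e1, h.2 i hi, ← e2]
  rfl

theorem exists_psi : ∃ ψ : J2 ≃* J2, ∀ i < 4, ψ (rE (qLine i)) = rE (tLine i) := by
  haveI : Finite J2 := Nat.finite_of_card_ne_zero (by rw [card_J2]; norm_num)
  let f : J2 →* Equiv.Perm (Fin 315) := (MulAut.conj piPerm).toMonoidHom.comp sigma
  have hmem : ∀ g, f g ∈ sigma.range := by
    intro g
    have hle : Subgroup.closure {g : J2 | ∃ i < 4, g = rE (qLine i)} ≤ sigma.range.comap f := by
      rw [Subgroup.closure_le]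
      rintro _ ⟨i, hi, rfl⟩
      exact ⟨rE (tLine i), (pi_conj hi).symm⟩
    rw [closure_quad] at hle
    exact hle (Subgroup.mem_top g)
  let e := MonoidHom.ofInjective sigma_injective
  let F : J2 →* J2 := e.symm.toMonoidHom.comp (f.codRestrict sigma.range hmem)
  have hF : ∀ g, sigma (F g) = f g := fun g => by
    have := congrArg Subtype.val (e.apply_symm_apply (⟨f g, hmem g⟩ : sigma.range))
    simpa [F, e, MonoidHom.ofInjective_apply] using this
  have hinj : Function.Injective F := fun a b h => by
    have := congrArg sigma h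
    rw [hF, hF] at this
    exact sigma_injective ((MulAut.conj piPerm).injective this)
  refine ⟨MulEquiv.ofBijective F (Finite.injective_iff_bijective.mp hinj), fun i hi => ?_⟩
  exact sigma_injective ((hF _).trans (pi_conj hi))

/-! ### Every automorphism is inner or inner times the exceptional one -/

theorem classify (φ : J2 ≃* J2) :
    ∃ a : J2, (∀ i < 4, a * φ (rE (qLine i)) * a⁻¹ = rE (qLine i)) ∨
      (∀ i < 4, a * φ (rE (qLine i)) * a⁻¹ = rE (tLine i)) := by
  obtain ⟨c, hc⟩ := exists_image φ
  have hq0 : qLine 0 = 0 := quad_mem.2.2.2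
  have fix0 : ∀ {b : J2}, act b 0 = 0 → b * rE 0 * b⁻¹ = rE 0 := fun {b} hb => by
    rw [rE_conj b (by norm_num), hb]
  -- images of reflections are reflections
  have himg : ∀ (ψ : J2 ≃* J2), ψ (rE 0) = rE 0 → ∀ x, x < 315 →
      ∃ e ∈ transW, ψ (rE x) = rE e.1 := by
    intro ψ hψ x hx
    obtain ⟨d, hd, rfl⟩ := exists_trans hx
    obtain ⟨e, he, hee⟩ := exists_trans (act_lt (ψ (el d.2.1)) (x := 0) (by norm_num))
    refine ⟨e, he, ?_⟩
    rw [hee, rE_eq hd, gen_zero, eq_inv_of_mul_eq_one_left (el_rev hd), map_mul, map_mul, map_inv,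
      hψ, rE_conj _ (by norm_num)]
  have flist : ∀ (ψ : J2 ≃* J2) {i : ℕ}, i < 4 → ψ (rE (qLine i)) = rE (qLine i) →
      ∀ x, x < 315 → act (ψ (rE (qLine i))) x = quadFn i x := fun ψ i hi h x hx => by
    rw [h]; exact act_quad hi x hx
  -- first correction
  let φ1 : J2 ≃* J2 := φ.trans (MulAut.conj c)
  have h10 : φ1 (rE (qLine 0)) = rE (qLine 0) := by
    rw [hq0]; show c * φ (rE 0) * c⁻¹ = rE 0; exact hc
  obtain ⟨eA, heA, hA⟩ := himg φ1 (hq0 ▸ h10) (qLine 1) (qLine_lt (by norm_num))
  have hcA : condA (reflFn eA) = true := by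
    unfold condA
    rw [rel_transfer φ1 (L := [rE (qLine 0), rE (qLine 1)]) (F := [quadFn 0, quadFn 1])
      (.cons (act_quad (by norm_num)) (.cons (act_quad (by norm_num)) .nil))
      (.cons (flist φ1 (by norm_num) h10) (.cons (fun x hx => by rw [hA]; exact act_rE heA hx) .nil))]
    exact conds_self.1
  have hA0 : eA.1 ≠ qLine 0 := by
    intro h
    rw [h, ← h10] at hA
    have := rE_injective (qLine_lt (by norm_num)) (qLine_lt (by norm_num)) (φ1.injective hA)
    revert this
    decide +kernel
  have hwA := List.all_eq_true.mp candA eA heA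
  simp only [hcA, Bool.not_true, Bool.false_or, Bool.or_eq_true, decide_eq_true_eq, hA0, false_or,
    List.any_eq_true] at hwA
  obtain ⟨w, hw, hwx⟩ := hwA
  have hw0 : act (el w) 0 = 0 := by
    rw [act_el w (by norm_num)]
    exact decide_eq_true_eq.mp (List.all_eq_true.mp normA_ok w hw)
  -- second correction
  let φ2 : J2 ≃* J2 := φ1.trans (MulAut.conj (el w)⁻¹)
  have h20 : φ2 (rE (qLine 0)) = rE (qLine 0) := by
    show (el w)⁻¹ * φ1 (rE (qLine 0)) * (el w)⁻¹⁻¹ = _
    rw [h10, hq0, rE_conj _ (by norm_num)]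
    conv_lhs => arg 1; arg 2; rw [← hw0]
    rw [act_inv_self]
  have h21 : φ2 (rE (qLine 1)) = rE (qLine 1) := by
    show (el w)⁻¹ * φ1 (rE (qLine 1)) * (el w)⁻¹⁻¹ = _
    rw [hA, rE_conj _ (mem_lt heA), ← hwx, ← act_el w (qLine_lt (by norm_num)), act_inv_self]
  obtain ⟨eB, heB, hB⟩ := himg φ2 (hq0 ▸ h20) (qLine 2) (qLine_lt (by norm_num))
  have hcB : condB (reflFn eB) = true := by
    have hb : ∀ x, x < 315 → act (φ2 (rE (qLine 2))) x = reflFn eB x := fun x hx => by
      rw [hB]; exact act_rE heB hx
    unfold condB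
    rw [rel_transfer φ2 (L := [rE (qLine 0), rE (qLine 2)]) (F := [quadFn 0, quadFn 2])
      (.cons (act_quad (by norm_num)) (.cons (act_quad (by norm_num)) .nil))
      (.cons (flist φ2 (by norm_num) h20) (.cons hb .nil)),
      rel_transfer φ2 (L := [rE (qLine 0), rE (qLine 2)]) (F := [quadFn 0, quadFn 2])
      (.cons (act_quad (by norm_num)) (.cons (act_quad (by norm_num)) .nil))
      (.cons (flist φ2 (by norm_num) h20) (.cons hb .nil)),
      rel_transfer φ2 (L := [rE (qLine 1), rE (qLine 2)]) (F := [quadFn 1, quadFn 2])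
      (.cons (act_quad (by norm_num)) (.cons (act_quad (by norm_num)) .nil))
      (.cons (flist φ2 (by norm_num) h21) (.cons hb .nil)),
      rel_transfer φ2 (L := [rE (qLine 0), rE (qLine 1), rE (qLine 2)])
      (F := [quadFn 0, quadFn 1, quadFn 2])
      (.cons (act_quad (by norm_num)) (.cons (act_quad (by norm_num))
        (.cons (act_quad (by norm_num)) .nil)))
      (.cons (flist φ2 (by norm_num) h20) (.cons (flist φ2 (by norm_num) h21) (.cons hb .nil)))]
    exact conds_self.2.1
  have hwB := List.all_eq_true.mp candB eB heB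
  simp only [hcB, Bool.not_true, Bool.false_or, decide_eq_true_eq, List.any_eq_true] at hwB
  obtain ⟨v, hv, hvx⟩ := hwB
  have hv' := List.all_eq_true.mp stabA_ok v hv
  simp only [Bool.and_eq_true, decide_eq_true_eq] at hv'
  have hv0 : act (el v) 0 = 0 := by rw [act_el v (by norm_num)]; exact hv'.1
  have hv1 : act (el v) (qLine 1) = qLine 1 := by rw [act_el v (qLine_lt (by norm_num))]; exact hv'.2
  -- third correction
  let φ3 : J2 ≃* J2 := φ2.trans (MulAut.conj (el v)⁻¹)
  have conjv : ∀ {x y : ℕ}, y < 315 → act (el v) y = x → x < 315 →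
      (el v)⁻¹ * rE x * (el v)⁻¹⁻¹ = rE y := fun {x y} hy h hx => by
    rw [rE_conj _ hx, ← h, act_inv_self]
  have h30 : φ3 (rE (qLine 0)) = rE (qLine 0) := by
    show (el v)⁻¹ * φ2 (rE (qLine 0)) * (el v)⁻¹⁻¹ = _
    rw [h20, hq0]; exact conjv (by norm_num) hv0 (by norm_num)
  have h31 : φ3 (rE (qLine 1)) = rE (qLine 1) := by
    show (el v)⁻¹ * φ2 (rE (qLine 1)) * (el v)⁻¹⁻¹ = _
    rw [h21]; exact conjv (qLine_lt (by norm_num)) hv1 (qLine_lt (by norm_num))
  have h32 : φ3 (rE (qLine 2)) = rE (qLine 2) := by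
    show (el v)⁻¹ * φ2 (rE (qLine 2)) * (el v)⁻¹⁻¹ = _
    rw [hB]
    exact conjv (qLine_lt (by norm_num)) (by rw [act_el v (qLine_lt (by norm_num)), hvx]) (mem_lt heB)
  obtain ⟨eC, heC, hC⟩ := himg φ3 (hq0 ▸ h30) (qLine 3) (qLine_lt (by norm_num))
  have hcC : condC (reflFn eC) = true := by
    have hb : ∀ x, x < 315 → act (φ3 (rE (qLine 3))) x = reflFn eC x := fun x hx => by
      rw [hC]; exact act_rE heC hx
    have t1 := rel_transfer φ3 (L := [rE (qLine 0), rE (qLine 1), rE (qLine 3)])
      (F := [quadFn 0, quadFn 1, quadFn 3])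
      (.cons (act_quad (by norm_num)) (.cons (act_quad (by norm_num))
        (.cons (act_quad (by norm_num)) .nil)))
      (.cons (flist φ3 (by norm_num) h30) (.cons (flist φ3 (by norm_num) h31) (.cons hb .nil)))
    have t2 := rel_transfer φ3 (L := [rE (qLine 0), rE (qLine 2), rE (qLine 3)])
      (F := [quadFn 0, quadFn 2, quadFn 3])
      (.cons (act_quad (by norm_num)) (.cons (act_quad (by norm_num))
        (.cons (act_quad (by norm_num)) .nil)))
      (.cons (flist φ3 (by norm_num) h30) (.cons (flist φ3 (by norm_num) h32) (.cons hb .nil)))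
    unfold condC
    rw [t1, t1, t1, t2, t2, t2]
    exact conds_self.2.2
  have hwC := List.all_eq_true.mp candC eC heC
  simp only [hcC, Bool.not_true, Bool.false_or, Bool.or_eq_true, decide_eq_true_eq] at hwC
  refine ⟨(el v)⁻¹ * ((el w)⁻¹ * c), ?_⟩
  have hcomp : ∀ z, (el v)⁻¹ * ((el w)⁻¹ * c) * φ z * ((el v)⁻¹ * ((el w)⁻¹ * c))⁻¹ = φ3 z :=
    fun z => by simp [φ3, φ2, φ1, mul_assoc]
  rcases hwC with h | h
  · left
    intro i hi
    rw [hcomp]
    interval_cases i
    · exact h30
    · exact h31
    · exact h32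
    · rw [hC, h]
  · right
    intro i hi
    rw [hcomp]
    interval_cases i
    · exact h30
    · exact h31
    · exact h32
    · rw [hC, h]; rfl

theorem stab_three : (stabW.all fun w => !(decide (ev w (qLine 1) = qLine 1) &&
    decide (ev w (qLine 2) = qLine 2)) || decide (w = 0)) = true := by decide +kernel

theorem card_out_J2 : Nat.card (Cfsg.Out J2) = 2 := by
  obtain ⟨ψ, hψ⟩ := exists_psi
  rw [Nat.card_eq_two_iff]
  refine ⟨QuotientGroup.mk (1 : MulAut J2), QuotientGroup.mk (ψ : MulAut J2), ?_, ?_⟩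
  · intro h
    obtain ⟨g, hg⟩ : (ψ : MulAut J2) ∈ Cfsg.Inn J2 := by
      rw [QuotientGroup.eq] at h; simpa using h
    have hg' : ∀ i < 4, act g (qLine i) = tLine i := by
      intro i hi
      have h1 := hψ i hi
      rw [← hg, MulAut.conj_apply, rE_conj g (qLine_lt hi)] at h1
      refine rE_injective (act_lt g (qLine_lt hi)) ?_ h1
      unfold tLine
      split_ifs
      · exact mem_lt (decide_eq_true_eq.mp quad_mem.2.2.1)
      · exact qLine_lt hi
    have e0 : act g 0 = 0 := by
      have := hg' 0 (by norm_num)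
      rwa [show tLine 0 = qLine 0 from rfl, show qLine 0 = 0 from quad_mem.2.2.2] at this
    obtain ⟨w, hw, rfl⟩ := exists_stabW e0
    have h1 := hg' 1 (by norm_num)
    have h2 := hg' 2 (by norm_num)
    rw [act_el w (qLine_lt (by norm_num))] at h1 h2
    have := List.all_eq_true.mp stab_three w hw
    rw [show tLine 1 = qLine 1 from rfl] at h1
    rw [show tLine 2 = qLine 2 from rfl] at h2
    simp [h1, h2] at this
    have h3 := hg' 3 (by norm_num)
    rw [this, el_zero, act_one] at h3
    revert h3
    decide +kernel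
  · refine Set.eq_univ_of_forall fun z => ?_
    obtain ⟨φ, rfl⟩ := QuotientGroup.mk_surjective z
    obtain ⟨a, ha | ha⟩ := classify φ
    · left
      rw [QuotientGroup.eq]
      refine ⟨a, ?_⟩
      have e : φ = (MulAut.conj a⁻¹ : MulAut J2) := ext_quad fun i hi => by
        rw [MulAut.conj_apply, inv_inv]
        conv_rhs => rw [← ha i hi]
        group
      rw [e]; simp
    · right
      rw [Set.mem_singleton_iff, QuotientGroup.eq]
      have e : φ = (MulAut.conj a⁻¹ * ψ : MulAut J2) := ext_quad fun i hi => by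
        show φ _ = a⁻¹ * ψ (rE (qLine i)) * a⁻¹⁻¹
        rw [inv_inv, hψ i hi, ← ha i hi]
        group
      refine (Cfsg.innNormal J2).mem_comm ?_
      exact ⟨a, by rw [e]; simp [mul_assoc]⟩

end J2Out
end H26
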