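import Cfsg.Agent.H97.SchurCertDefs

/-! Certificates: the multiplier of the double cover of the Hall-Janko group is trivial. -/

set_option maxRecDepth 20000

namespace H26
namespace J2Schur

open H97.SchurCert

def data2 : Data where
  p := 2
  n := 8
  syms := [
    265208705217111848799470749086010330570637490188641964263464295531938369438379344954504,
    265239059881721232765468647372588388088328334374646182086635609977055158365116342503560,
    265239059418552875924043652346907007226398667557340360323314626035648889585808511109252,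
    265239058955384518866939083984020508018824982344144381171334777664667897278638208878724,
    265238940847453496804419751941615799157158972358570295412684197858281305647103697520780,
    265208705217111848799470749086010330570660415354706053744053794250322651954007492823180,
    265239059881721232765468647372588388088328245170304258496459289980328569341943245998220,
    265239058955384518866939083984020508018824982344144381171334777664667897278638208878732,
    261368958251955799163255947876290763447323118055195345627720725929652096959071864391302,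
    265223882331855820532276227596066933740153745482146133341065753622865659980712898038153]
  rules := [
    ([0, 0], [3]),
    ([1, 1], [3, 6, 7]),
    ([2, 2], [7]),
    ([3, 3], []),
    ([4, 4], [7]),
    ([5, 5], [7]),
    ([6, 6], []),
    ([7, 7], []),
    ([1, 0], [0, 1, 3, 6, 7]),
    ([2, 0], [0, 2, 4]),
    ([2, 1], [1, 2, 5]),
    ([3, 0], [0, 3]),
    ([3, 1], [1, 3]),
    ([3, 2], [2, 3]),
    ([4, 0], [0, 4, 7]),
    ([4, 1], [1, 4, 6]),
    ([4, 2], [2, 4, 7]),
    ([4, 3], [3, 4]),
    ([5, 0], [0, 5, 6]),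
    ([5, 1], [1, 5]),
    ([5, 2], [2, 5, 7]),
    ([5, 3], [3, 5]),
    ([5, 4], [4, 5, 7]),
    ([6, 0], [0, 6]),
    ([6, 1], [1, 6]),
    ([6, 2], [2, 6, 7]),
    ([6, 3], [3, 6]),
    ([6, 4], [4, 6]),
    ([6, 5], [5, 6]),
    ([7, 0], [0, 7]),
    ([7, 1], [1, 7]),
    ([7, 2], [2, 7]),
    ([7, 3], [3, 7]),
    ([7, 4], [4, 7]),
    ([7, 5], [5, 7]),
    ([7, 6], [6, 7]),
    ([8, 0], [1, 3, 4, 5, 6, 8]),
    ([8, 1], [0, 1, 3, 5, 6, 8]),
    ([8, 2], [2, 4, 7, 8]),
    ([8, 3], [3, 8]),
    ([8, 4, 7], [5, 6, 7, 8]),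
    ([8, 5, 7], [4, 5, 8]),
    ([8, 6, 7], [6, 7, 8]),
    ([8, 7], [7, 8]),
    ([9, 2, 3, 5, 6], [6, 9]),
    ([9, 3], [3, 9])]
  defs := [(0, 3), (9, 4), (10, 5), (15, 6), (25, 7)]
  targets := [1, 2, 3, 4, 5, 6, 7, 8, 11, 12, 13, 14, 16, 17, 18, 19, 20, 21, 22, 23, 24, 26, 27, 28, 29, 30, 31, 32, 33, 34, 35]
  paths := [
    ([2, 1, 0], [(0, 10, true), (2, 18, true), (1, 9, true), (0, 8, true), (4, 31, true), (3, 25, true), (2, 13, true), (5, 7, true), (4, 27, true), (5, 28, true), (6, 6, true), (6, 7, false), (6, 6, false), (7, 35, false), (3, 17, false), (4, 21, false), (5, 26, false), (6, 32, false), (5, 35, false), (3, 22, false), (1, 10, false), (2, 15, false), (0, 9, false), (1, 8, false)]),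
    ([3, 1, 0], [(0, 12, true), (1, 11, true), (0, 8, true), (4, 32, true), (3, 26, true), (2, 3, true), (2, 3, false), (1, 12, false), (0, 11, false), (1, 8, false)]),
    ([3, 2, 0], [(0, 13, true), (1, 11, true), (0, 9, true), (2, 17, true), (1, 13, false), (0, 11, false), (1, 9, false)]),
    ([3, 2, 1], [(0, 13, true), (1, 12, true), (0, 10, true), (2, 21, true), (1, 13, false), (0, 12, false), (1, 10, false)]),
    ([4, 1, 0], [(0, 15, true), (2, 23, true), (1, 14, true), (0, 8, true), (4, 33, true), (3, 27, true), (5, 7, true), (4, 6, true), (4, 7, false), (4, 6, false), (5, 35, false), (2, 17, false), (3, 26, false), (4, 32, false), (1, 15, false), (2, 30, false), (0, 14, false), (1, 8, false)]),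
    ([4, 2, 0], [(0, 16, true), (2, 29, true), (1, 14, true), (0, 9, true), (2, 4, true), (2, 7, true), (2, 4, false), (3, 7, false), (1, 16, false), (2, 31, false), (0, 14, false), (1, 9, false)]),
    ([4, 2, 1], [(0, 16, true), (2, 30, true), (1, 15, true), (0, 10, true), (2, 22, true), (4, 35, true), (5, 7, true), (3, 28, false), (4, 7, false), (3, 35, false), (1, 16, false), (2, 25, false), (0, 15, false), (1, 10, false)]),
    ([4, 3, 0], [(0, 17, true), (1, 14, true), (0, 11, true), (1, 17, false), (2, 32, false), (0, 14, false), (1, 11, false)]),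
    ([5, 1, 0], [(0, 19, true), (1, 18, true), (0, 8, true), (4, 34, true), (3, 28, true), (5, 35, true), (4, 6, true), (4, 6, false), (2, 21, false), (3, 26, false), (1, 19, false), (2, 24, false), (0, 18, false), (1, 8, false)]),
    ([5, 2, 0], [(0, 20, true), (2, 29, true), (1, 18, true), (0, 9, true), (4, 35, false), (2, 22, false), (3, 27, false), (4, 7, false), (3, 35, false), (1, 20, false), (2, 25, false), (0, 18, false), (1, 9, false)]),
    ([5, 2, 1], [(0, 20, true), (2, 30, true), (1, 19, true), (0, 10, true), (2, 5, true), (2, 7, true), (2, 7, false), (2, 5, false), (3, 34, false), (1, 20, false), (0, 19, false), (1, 10, false)]),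
    ([5, 4, 0], [(0, 22, true), (2, 29, true), (1, 18, true), (0, 14, true), (2, 34, true), (3, 35, true), (4, 7, true), (4, 7, false), (3, 35, false), (1, 22, false), (2, 27, false), (0, 18, false), (1, 14, false)]),
    ([5, 4, 1], [(0, 22, true), (2, 30, true), (1, 19, true), (0, 15, true), (2, 28, true), (3, 35, false), (1, 22, false), (0, 19, false), (1, 15, false)]),
    ([5, 4, 2], [(0, 22, true), (2, 31, true), (1, 20, true), (0, 16, true), (2, 34, true), (3, 7, true), (3, 7, false), (1, 22, false), (2, 33, false), (0, 20, false), (1, 16, false)]),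
    ([6, 1, 0], [(0, 24, true), (1, 23, true), (0, 8, true), (4, 35, true), (3, 6, true), (3, 6, false), (2, 26, false), (1, 24, false), (0, 23, false), (1, 8, false)]),
    ([6, 2, 0], [(0, 25, true), (2, 29, true), (1, 23, true), (0, 9, true), (2, 27, false), (3, 33, false), (1, 25, false), (0, 23, false), (1, 9, false)]),
    ([6, 2, 1], [(0, 25, true), (2, 30, true), (1, 24, true), (0, 10, true), (2, 28, false), (3, 34, false), (1, 25, false), (0, 24, false), (1, 10, false)]),
    ([0, 0, 0], [(0, 0, true), (0, 11, true), (1, 0, false)]),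
    ([1, 1, 0], [(0, 1, true), (2, 29, true), (1, 23, true), (0, 11, true), (1, 7, false), (1, 6, false), (2, 35, false), (1, 3, false), (2, 26, false), (3, 32, false), (1, 1, false), (2, 12, false), (3, 24, false), (4, 30, false), (0, 8, false), (1, 8, false)]),
    ([1, 1, 1], [(0, 1, true), (2, 30, true), (1, 24, true), (0, 12, true), (1, 1, false)]),
    ([2, 2, 0], [(0, 2, true), (0, 29, true), (1, 4, false), (2, 7, false), (1, 33, false), (1, 2, false), (2, 16, false), (0, 9, false), (1, 9, false)]),
    ([2, 0, 0], [(0, 9, true), (2, 14, true), (1, 9, true), (0, 0, true), (0, 13, true), (2, 4, true), (2, 7, true), (1, 0, false)]),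
    ([2, 2, 1], [(0, 2, true), (0, 30, true), (1, 5, false), (2, 7, false), (1, 34, false), (1, 2, false), (2, 20, false), (0, 10, false), (1, 10, false)]),
    ([2, 1, 1], [(0, 10, true), (2, 19, true), (1, 10, true), (0, 1, true), (2, 31, true), (1, 25, true), (0, 13, true), (3, 7, true), (2, 28, true), (3, 28, true), (2, 5, true), (2, 35, true), (1, 1, false)]),
    ([4, 4, 1], [(0, 4, true), (0, 30, true), (1, 6, false), (2, 35, false), (1, 35, false), (1, 4, false), (2, 27, false), (0, 15, false), (1, 15, false)]),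
    ([8, 0, 0], [(0, 36, true), (5, 36, true), (4, 24, true), (3, 19, true), (2, 15, true), (1, 12, true), (0, 1, true), (2, 32, true), (1, 26, true), (0, 3, true), (1, 33, true), (0, 27, true), (2, 35, true), (1, 6, true), (1, 34, true), (2, 35, true), (3, 32, true), (2, 26, true), (1, 21, true), (0, 17, true), (4, 33, true), (3, 27, true), (2, 22, true), (1, 4, true), (1, 34, true), (2, 7, true), (3, 34, true), (2, 28, true), (1, 5, true), (1, 35, true), (2, 7, true), (1, 6, true), (0, 39, false), (1, 0, false)]),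
    ([8, 1, 0], [(0, 37, true), (5, 36, true), (4, 24, true), (3, 19, true), (2, 12, true), (1, 1, true), (3, 32, true), (2, 26, true), (1, 3, true), (2, 34, true), (1, 28, true), (3, 35, true), (2, 6, true), (2, 32, true), (1, 21, true), (3, 33, true), (2, 22, true), (4, 7, true), (3, 5, true), (3, 35, true), (1, 17, false), (2, 6, false), (3, 7, false), (2, 35, false), (2, 5, false), (3, 28, false), (4, 34, false), (1, 3, false), (2, 17, false), (3, 21, false), (4, 26, false), (5, 32, false), (4, 35, false), (3, 34, false), (3, 6, false), (4, 35, false), (2, 27, false), (3, 33, false), (1, 1, false), (2, 15, false), (3, 19, false), (4, 24, false), (4, 6, false), (3, 28, false), (4, 7, false), (2, 27, false), (3, 33, false), (2, 3, false), (3, 26, false), (4, 32, false), (0, 8, false), (1, 11, false), (2, 14, false), (3, 18, false), (4, 23, false), (11, 42, false), (10, 39, false), (5, 37, false), (0, 36, false), (1, 8, false)]),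
    ([8, 1, 1], [(0, 37, true), (5, 37, true), (4, 23, true), (3, 18, true), (2, 11, true), (1, 8, true), (0, 0, true), (0, 12, true), (1, 3, true), (2, 32, true), (1, 26, true), (3, 34, true), (2, 28, true), (4, 35, true), (3, 6, true), (3, 35, true), (4, 30, true), (3, 24, true), (2, 19, true), (1, 12, true), (0, 1, true), (2, 32, true), (1, 26, true), (0, 3, true), (1, 34, true), (0, 28, true), (2, 35, true), (1, 6, true), (1, 7, true), (0, 21, true), (1, 5, true), (1, 35, true), (1, 42, false), (0, 39, false), (1, 1, false)]),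
    ([8, 2, 2], [(0, 38, true), (3, 38, true), (2, 31, true), (1, 16, true), (0, 2, true), (0, 33, true), (1, 7, true), (1, 33, true), (0, 4, true), (0, 7, true), (0, 43, false), (1, 2, false)]),
    ([8, 4, 7, 0], [(0, 40, true), (3, 36, true), (2, 30, true), (1, 24, true), (0, 19, true), (3, 32, true), (2, 26, true), (1, 21, true), (4, 33, true), (3, 27, true), (2, 22, true), (4, 35, true), (5, 7, true), (4, 28, true), (3, 5, true), (3, 35, true), (4, 35, true), (3, 6, true), (3, 7, false), (3, 6, false), (4, 35, false), (3, 35, false), (3, 5, false), (4, 28, false), (8, 43, false), (5, 40, false), (0, 36, false), (3, 7, true), (3, 7, false), (1, 14, false), (2, 29, false)]),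
    ([8, 4, 7, 1], [(0, 40, true), (3, 37, true), (2, 29, true), (1, 23, true), (0, 18, true), (2, 6, true), (2, 30, true), (1, 19, true), (3, 32, true), (2, 21, true), (4, 34, true), (3, 5, true), (3, 7, true), (4, 7, false), (3, 7, false), (3, 6, false), (4, 35, false), (3, 35, false), (3, 5, false), (4, 28, false), (10, 43, false), (8, 42, false), (5, 40, false), (0, 37, false), (3, 35, true), (4, 7, true), (1, 15, false), (2, 30, false)]),
    ([8, 5, 7, 1], [(0, 41, true), (2, 37, true), (1, 18, true), (0, 14, true), (2, 34, true), (3, 35, true), (4, 30, true), (3, 24, true), (2, 19, true), (1, 15, true), (3, 28, true), (4, 6, true), (4, 32, true), (3, 21, true), (2, 17, true), (5, 34, true), (4, 5, true), (4, 7, true), (5, 7, false), (4, 35, false), (4, 5, false), (5, 28, false), (6, 34, false), (5, 35, false), (3, 22, false), (4, 27, false), (5, 41, false), (0, 37, false), (1, 19, false), (2, 30, false)]),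
    ([9, 2, 3, 5, 6, 2, 3, 5, 6], [(0, 44, true), (1, 44, true), (0, 6, true), (1, 6, false), (2, 7, false), (1, 35, false), (1, 5, false), (2, 28, false), (3, 34, false), (1, 3, false), (2, 21, false), (3, 26, false), (4, 32, false), (3, 7, false), (2, 34, false), (1, 32, false), (1, 2, false), (2, 13, false), (3, 20, false), (4, 25, false)]),
    ([9, 3, 2, 3, 5, 6], [(0, 45, true), (1, 44, true), (0, 26, false), (1, 45, false), (0, 44, false), (4, 26, true), (3, 21, true), (2, 3, true), (2, 3, false), (1, 13, false)])]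
  combos := [
    [(0, 1), (1, 1), (2, 1), (3, 1), (7, 1), (8, 1), (9, 1), (10, 1), (11, 1), (14, 1), (16, 1), (17, 1), (21, 1), (23, 1), (24, 1), (25, 1), (26, 1), (29, 1), (30, 1), (31, 1), (33, 1)],
    [(1, 1), (2, 1), (4, 1), (5, 1), (7, 1), (12, 1), (13, 1), (17, 1), (18, 1), (19, 1), (22, 1), (24, 1), (32, 1), (33, 1)],
    [(1, 1), (2, 1), (4, 1), (5, 1), (6, 1), (7, 1), (9, 1), (11, 1), (12, 1), (13, 1), (14, 1), (17, 1), (18, 1), (19, 1), (24, 1)],
    [(0, 1), (3, 1), (5, 1), (6, 1), (8, 1), (9, 1), (10, 1), (16, 1), (21, 1), (24, 1), (31, 1)],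
    [(0, 1), (1, 1), (3, 1), (6, 1), (10, 1), (11, 1), (13, 1), (14, 1), (15, 1), (20, 1), (23, 1), (24, 1), (28, 1), (29, 1), (31, 1)],
    [(5, 1), (10, 1), (13, 1), (15, 1), (24, 1)],
    [(6, 1), (9, 1), (11, 1), (16, 1)],
    [(0, 1), (1, 1), (2, 1), (4, 1), (6, 1), (7, 1), (8, 1), (11, 1), (17, 1), (18, 1), (23, 1), (26, 1), (27, 1), (31, 1)],
    [(17, 1)],
    [(3, 1), (8, 1), (14, 1), (16, 1), (19, 1)],
    [(3, 1), (33, 1)],
    [(0, 1), (5, 1), (8, 1), (10, 1), (11, 1), (24, 1), (31, 1), (33, 1)],
    [(0, 1), (1, 1), (3, 1), (7, 1), (8, 1), (10, 1), (11, 1), (12, 1), (13, 1), (14, 1), (16, 1), (20, 1), (21, 1), (24, 1), (31, 1)],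
    [(2, 1)],
    [(0, 1), (1, 1), (2, 1), (5, 1), (6, 1), (10, 1), (11, 1), (33, 1)],
    [(0, 1), (7, 1), (9, 1), (10, 1), (11, 1), (16, 1), (20, 1), (24, 1), (28, 1), (29, 1), (31, 1), (33, 1)],
    [(0, 1), (1, 1), (3, 1), (9, 1), (13, 1), (14, 1), (15, 1), (16, 1), (20, 1), (22, 1), (23, 1), (24, 1), (28, 1), (29, 1), (31, 1)],
    [(3, 1)],
    [(1, 1), (6, 1), (7, 1), (12, 1), (14, 1)],
    [(1, 1), (2, 1), (4, 1), (5, 1), (10, 1), (11, 1), (12, 1), (13, 1), (16, 1)],
    [(1, 1), (3, 1), (7, 1), (8, 1), (10, 1), (12, 1)],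
    [(1, 1), (7, 1)],
    [(1, 1), (5, 1), (7, 1), (12, 1), (13, 1), (14, 1), (15, 1), (16, 1)],
    [(10, 1), (16, 1)],
    [(5, 1), (11, 1), (13, 1), (15, 1)],
    [(1, 1), (7, 1), (10, 1), (12, 1), (14, 1), (16, 1)],
    [(11, 1), (13, 1), (15, 1)],
    [(7, 1)],
    [(1, 1), (7, 1), (11, 1), (12, 1), (14, 1), (15, 1), (16, 1)],
    [(1, 1), (7, 1), (12, 1), (14, 1), (16, 1)],
    [(1, 1), (7, 1), (14, 1)]]
  sorted := [
    184, 48, 145, 25, 114, 250, 147, 27, 211, 91, 50, 186, 209, 89, 248, 112, 1, 137, 232, 96, 3, 139, 34, 170, 98, 234, 67, 203, 168, 32, 65, 201, 82, 218, 115, 251, 216, 80, 49, 185, 113, 249, 152, 16, 51, 187, 18, 154, 99, 235, 130, 10, 33, 169, 8, 128, 72, 192, 97, 233, 194, 74, 35, 171, 116, 252, 205, 69, 158, 22, 175, 39, 239, 103, 222, 86, 141, 5, 52, 188, 221, 85, 36, 172, 63, 183, 78, 198, 14, 134, 127, 247, 100, 236, 157, 21, 62, 182, 207, 71, 20, 156, 109, 229, 45, 165, 84, 220, 143, 7, 126, 246, 223, 87, 110, 230, 253, 117, 196, 76, 132, 12, 189, 53, 46, 166, 159, 23, 31, 151, 174, 38, 61, 181,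 4, 140, 68, 204, 125, 245, 238, 102, 95, 215, 254, 118, 15, 135, 212, 92, 173, 37, 237, 101, 148, 28, 79, 199, 190, 54, 29, 149, 228, 108, 255, 119, 142, 6, 206, 70, 191, 55, 164, 44, 93, 213, 180, 60, 13, 133, 94, 214, 111, 231, 47, 167, 30, 150, 77, 197, 244, 124, 163, 43, 66, 202, 225, 105, 200, 64, 136, 0, 161, 41, 2, 138, 227, 107, 146, 26, 179, 59, 24, 144, 241, 121, 177, 57, 88, 208, 243, 123, 210, 90, 193, 73, 40, 160, 195, 75, 226, 106, 162, 42, 131, 11, 104, 224, 129, 9, 120, 240, 81, 217, 178, 58, 83, 219, 19, 155, 242, 122, 17, 153, 56, 176]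

def words2 : List (List ℕ) := [
    [231, 108, 195, 0, 61, 254, 61],
    [108, 61, 49, 108, 0],
    [254, 231, 0, 61, 231, 108, 0, 231, 254],
    [0, 26, 137],
    [254, 195, 108, 0, 231, 0, 195, 49, 61],
    [231, 108, 61, 195, 242, 0, 61],
    [242, 254, 0],
    [0, 0, 26, 137],
    [254, 195, 242, 108, 49, 254, 195, 61],
    [49, 254, 61, 49, 108, 231, 61]]

def data3 : Data where
  p := 3
  n := 3
  syms := [
    263174529085725052779706307068057061269405563387028778071491271807144089990420076460424,
    269124397203000800264005793955302771197288779611910958452050215769478057651752797767816,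
    267059866625022961655836459909201962712854380646023517323300017087089179097852903192966,
    265125705570573868976500054149598193989165994691190150317096062410500342491398715046025,
    263295917985623945316208689895530905805116419781548358480378222600767957110093280409976,
    234278190792961408006862045339540384600080158233189280493986640430703811510841974036345,
    267182200857839045853667552245402088017152105306874119227724822479578054575892895205770]
  rules := [
    ([0, 0, 0], []),
    ([1, 1, 1], []),
    ([2, 2, 2], []),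
    ([1, 0], [0, 1, 2]),
    ([2, 0], [0, 2]),
    ([2, 1], [1, 2]),
    ([3, 1, 2], [0, 2, 2, 3]),
    ([4, 0, 1, 1], [0, 2, 4]),
    ([5, 0, 1], [0, 1, 1, 2, 5]),
    ([6, 0, 1, 1], [0, 0, 1, 2, 6])]
  defs := [(3, 2)]
  targets := [0, 1, 2, 4, 5]
  paths := [
    ([1, 1, 1, 0], [(0, 1, true), (1, 2, false), (1, 1, false), (3, 5, false), (4, 5, false), (2, 5, false), (0, 3, false), (1, 3, false), (2, 3, false)]),
    ([3, 1, 2, 1, 2, 1, 2], [(0, 6, true), (3, 6, true), (6, 6, true), (2, 4, true), (1, 4, true), (2, 2, true), (2, 4, true), (0, 0, true), (0, 2, true), (1, 2, false), (1, 1, false), (3, 5, false), (4, 5, false), (2, 5, false)]),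
    ([4, 0, 1, 1, 0, 1, 1, 0, 1, 1], [(0, 7, true), (2, 7, true), (4, 7, true), (1, 4, true), (3, 4, true), (2, 4, true), (0, 0, true), (0, 2, true), (1, 1, false), (2, 2, false), (1, 0, false), (3, 3, false), (4, 4, false), (5, 4, false), (3, 5, false), (4, 5, false), (3, 1, false), (5, 5, false), (6, 5, false), (4, 5, false), (2, 3, false), (3, 3, false)]),
    ([5, 0, 1, 0, 1, 0, 1], [(0, 8, true), (4, 8, true), (8, 8, true), (3, 4, true), (2, 3, true), (1, 3, true), (3, 5, true), (4, 2, true), (2, 1, true), (3, 4, true), (2, 3, true), (0, 0, true), (2, 5, true), (1, 5, true), (3, 5, true), (2, 5, true), (0, 1, true), (0, 2, true), (1, 1, false), (3, 2, false), (2, 5, false), (1, 0, false), (3, 3, false), (4, 3, false), (5, 4, false), (4, 5, false), (2, 3, false)]),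
    ([6, 0, 1, 1, 0, 1, 1, 0, 1, 1], [(0, 9, true), (4, 9, true), (8, 9, true), (3, 4, true), (2, 3, true), (0, 0, true), (2, 4, true), (1, 4, true), (0, 3, true), (2, 2, true), (3, 4, true), (2, 3, true), (1, 3, true), (3, 5, true), (4, 2, true), (3, 3, true), (2, 3, true), (0, 0, true), (1, 5, true), (3, 5, true), (2, 5, true), (0, 1, true), (0, 2, true), (1, 1, false), (2, 2, false), (1, 0, false), (3, 3, false), (4, 4, false), (5, 4, false), (3, 5, false), (4, 5, false), (3, 1, false), (5, 5, false), (6, 5, false), (4, 5, false), (2, 3, false), (3, 3, false)])]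
  combos := [
    [(0, 2), (2, 1), (4, 1)],
    [(0, 1), (1, 2), (2, 1), (4, 1)],
    [(0, 2)],
    [(1, 1), (2, 2), (3, 1), (4, 2)],
    [(0, 2), (2, 1), (3, 2)]]
  sorted := [
    21, 6, 11, 1, 4, 26, 18, 5, 7, 20, 10, 24, 12, 16, 13, 14, 8, 0, 25, 23, 9, 17, 22, 19, 2, 15, 3]

def words3 : List (List ℕ) := [
    [254, 61, 195, 61, 0, 231, 242, 0],
    [231, 108, 254, 195, 61, 49, 254, 61, 0, 26, 137],
    [242, 195, 254, 61, 231],
    [195, 242, 108, 195, 49, 195],
    [195, 61, 49, 231, 254, 49, 108],
    [61, 0, 49, 108, 0, 231, 0],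
    [108, 242, 195, 0, 195, 49, 108]]

def data5 : Data where
  p := 5
  n := 2
  syms := [
    265117670280765819142516497199879194000879472681255014358288001228941597893377163626616,
    265239063124353804175690381013222465208081635525979564290006981273870347894135218280600,
    265360507835131535096492706351933097928475947174544773387013010379608679002489044437144,
    235977609344288632336119139082805144038439298053464027235466799516466125727571874711687,
    267075992539692057385422015733946241255392120320865812952708262258762719793932390598775]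
  rules := [
    ([0, 0, 0, 0, 0], []),
    ([1, 1, 1, 1, 1], []),
    ([1, 0], [0, 1]),
    ([2, 0, 1], [0, 1, 1, 1, 2]),
    ([3, 0, 1], [0, 0, 0, 0, 1, 1, 3]),
    ([4, 0], [0, 0, 0, 0, 1, 4]),
    ([4, 1], [1, 4])]
  defs := []
  targets := [0, 1, 2]
  paths := [
    ([2, 0, 1, 0, 1, 0, 1, 0, 1, 0, 1], [(0, 3, true), (4, 3, true), (8, 3, true), (12, 3, true), (16, 3, true), (3, 2, true), (2, 2, true), (1, 2, true), (2, 1, true), (2, 2, true), (6, 2, true), (5, 2, true), (4, 2, true), (3, 2, true), (4, 1, true), (5, 2, true), (4, 2, true), (0, 0, true), (0, 1, true), (1, 1, false), (1, 0, false), (5, 2, false), (6, 2, false), (7, 2, false), (8, 2, false), (4, 2, false), (5, 2, false), (6, 2, false), (3, 2, false), (4, 2, false), (2, 2, false)]),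
    ([3, 0, 1, 0, 1, 0, 1, 0, 1, 0, 1], [(0, 4, true), (6, 4, true), (12, 4, true), (18, 4, true), (24, 4, true), (5, 2, true), (4, 2, true), (0, 0, true), (1, 2, true), (0, 2, true), (2, 2, true), (1, 2, true), (3, 2, true), (2, 2, true), (6, 2, true), (5, 2, true), (4, 2, true), (3, 2, true), (7, 2, true), (6, 2, true), (5, 2, true), (4, 2, true), (0, 0, true), (3, 2, true), (2, 2, true), (1, 2, true), (0, 2, true), (4, 2, true), (3, 2, true), (2, 2, true), (1, 2, true), (2, 1, true), (2, 2, true), (3, 2, true), (4, 2, true), (0, 0, true), (0, 2, true), (3, 2, true), (2, 2, true), (1, 2, true), (4, 2, true), (3, 2, true), (2, 2, true), (5, 2, true), (4, 2, true), (3, 2, true), (6, 2, true), (5, 2, true), (4, 2, true), (0, 0, true), (0, 1, true), (1, 1, false), (1, 0, false), (5, 2, false), (6, 2, false), (7, 2, false), (8, 2, false), (4, 2, false), (5, 2, false), (6, 2, false), (3, 2, false), (4, 2, false), (2, 2, false)]),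
    ([4, 1, 0], [(0, 6, true), (1, 5, true), (0, 2, true), (1, 2, true), (2, 2, true), (3, 2, true), (5, 6, false), (0, 5, false), (1, 2, false)])]
  combos := [
    [(0, 4), (1, 2)],
    [(0, 3)],
    [(2, 2)]]
  sorted := [
    13, 3, 16, 6, 22, 23, 18, 11, 1, 21, 15, 10, 0, 20, 5, 9, 4, 19, 7, 12, 8, 14, 24, 2, 17]

def words5 : List (List ℕ) := [
    [231, 195, 61, 108, 195, 49, 242],
    [0, 108, 61, 49, 231, 49, 108, 0],
    [231, 0, 108, 49, 61, 195, 254, 231],
    [61, 242, 195, 0, 195, 49, 0, 231],
    [49, 108, 61, 0, 49, 61, 231]]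

def perfectWit : List (ℕ × ℕ) := [(66, 266), (105, 117), (197, 314)]

end J2Schur
end H26
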