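import Cfsg.Agent.H26.J2Coding
import Cfsg.Agent.H26.J2SchurData
import Cfsg.Agent.H26.SchurPerfect
import Cfsg.Agent.H97.Schur

/-!
The Schur multiplier of the Hall-Janko group has order 2: its double cover is perfect and its
own multiplier is trivial.
-/

set_option autoImplicit false

namespace H26
namespace J2Schur

open Cfsg.Spor H96.J2 H97.SchurCert
open scoped commutatorElement

/-- all parts of one certificate -/
def certOK (D : Data) (W : List (List ℕ)) : Bool :=
  (W.all fun w => w.all (· < 315)) && decide (W.map wordCode = D.syms) &&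
    rulesOK mulC oneC D && defsOK D && pcOK D && sizeOK mulC oneC D && combosOK D

theorem cert2 : certOK data2 words2 = true := by decide +kernel
theorem cert3 : certOK data3 words3 = true := by decide +kernel
theorem cert5 : certOK data5 words5 = true := by decide +kernel

theorem not_dvd {Γ : Type} [Group Γ] [Finite Γ] (D : Data) [Fact D.p.Prime] (W : List (List ℕ))
    (h : certOK D W = true) {M : ℕ} (hcard : 1209600 = D.p ^ D.n * M) (hM : ¬ D.p ∣ M)
    (σ : Γ →* twoJ2) (hσ : Cfsg.IsStemExtension σ) : ¬ D.p ∣ Nat.card σ.ker := by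
  simp only [certOK, Bool.and_eq_true, List.all_eq_true, decide_eq_true_eq] at h
  obtain ⟨⟨⟨⟨⟨⟨h0, h1⟩, h2⟩, h3⟩, h4⟩, h5⟩, h6⟩ := h
  refine not_dvd_card_ker coding D (fun v hv => ?_) h2 h3 h4 h5 h6
    (by rw [card_twoJ2]; exact hcard) hM σ hσ
  rw [← h1, List.mem_map] at hv
  obtain ⟨w, hw, rfl⟩ := hv
  exact exists_code (List.all_eq_true.mpr fun i hi => decide_eq_true (h0 w hw i hi))

theorem twoJ2_trivial_multiplier : Cfsg.HasCyclicSchurMultiplier twoJ2 1 := by
  haveI : Finite twoJ2 := Nat.finite_of_card_ne_zero (by rw [card_twoJ2]; norm_num)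
  refine H97.hasTrivialMultiplier fun Γ _ _ σ hσ => ?_
  rw [← Subgroup.card_eq_one]
  by_contra hne
  obtain ⟨p, hp, hdvd⟩ := Nat.exists_prime_and_dvd hne
  haveI := Fact.mk hp
  have hsq : p ^ 2 ∣ 1209600 := by
    rw [← card_twoJ2]
    by_contra hcon
    obtain ⟨⟨z, hz⟩, hzo⟩ := exists_prime_orderOf_dvd_card' p hdvd
    rw [Subgroup.orderOf_mk] at hzo
    have hpg : IsPGroup p (Subgroup.zpowers z) :=
      IsPGroup.of_card (n := 1) (by rw [Nat.card_zpowers, hzo, pow_one])
    obtain ⟨P, hP⟩ := hpg.exists_le_sylow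
    have hzP : z ∈ P := hP (Subgroup.mem_zpowers z)
    have h1 := H97.commutator_trivial_of_comm (H97.commute_of_not_sq_dvd hσ.1 hσ.2.1 hcon P)
      (H97.mem_commutator_sylow P (hσ.2.1 hz) (hσ.2.2 hz) hzP)
    rw [show z = 1 from congrArg Subtype.val h1, orderOf_one] at hzo
    exact hp.one_lt.ne hzo
  have hmem : p ∈ Nat.primeFactorsList 1209600 :=
    (Nat.mem_primeFactorsList (by norm_num)).2 ⟨hp, (dvd_pow_self p two_ne_zero).trans hsq⟩
  simp only [Nat.primeFactorsList_ofNat, List.mem_cons, List.not_mem_nil, or_false] at hmem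
  have hp235 : p = 2 ∨ p = 3 ∨ p = 5 ∨ p = 7 := by omega
  rcases hp235 with rfl | rfl | rfl | rfl
  · haveI : Fact data2.p.Prime := ⟨Nat.prime_two⟩
    exact not_dvd data2 words2 cert2 (M := 4725) (by decide) (by decide) σ hσ hdvd
  · haveI : Fact data3.p.Prime := ⟨Nat.prime_three⟩
    exact not_dvd data3 words3 cert3 (M := 44800) (by decide) (by decide) σ hσ hdvd
  · haveI : Fact data5.p.Prime := ⟨Nat.prime_five⟩
    exact not_dvd data5 words5 cert5 (M := 48384) (by decide) (by decide) σ hσ hdvd
  · norm_num at hsq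

/-- the product of squares of products of two reflections, as a word -/
def witWord : List ℕ := perfectWit.flatMap fun q => [q.1, q.2, q.1, q.2]

theorem wit_ok : (perfectWit.all fun q => decide (q.1 < 315) && decide (q.2 < 315)) = true ∧
    wordCode witWord = wordCode [0] := by decide +kernel

theorem twoJ2_perfect : commutator twoJ2 = ⊤ := by
  set D := commutator twoJ2 with hD
  let r : ℕ → twoJ2 := fun i =>
    if h : i < 315 then ⟨lineRefl ⟨i, h⟩, refl_mem _ _⟩ else 1
  have hrcode : ∀ i, i < 315 → codeT (r i) = wordCode [i] := by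
    intro i hi
    have hr := (V3.isRoot_iff.mp (line_root hi))
    simp only [codeT, imgs, wordCode, r, hi, dif_pos]
    have key : ∀ {v : V3} (hv : v.inL = true),
        img (⟨lineRefl ⟨i, hi⟩, refl_mem _ _⟩ : twoJ2) (toLat v hv) = applyWord [i] v := by
      intro v hv
      refine img_eq ?_
      show (V3.rf (line i) v).val = qrefl (line i).val v.val
      exact (V3.rf_spec (line_root hi) hv).2
    rw [show base = toLat e0 e0_inL from rfl, show base1 = toLat e1 e1_inL from rfl,
      show base2 = toLat e2 e2_inL from rfl, key, key, key]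
  have happ : ∀ (w : List ℕ), (∀ i ∈ w, i < 315) → codeT (w.map r).prod = wordCode w := by
    intro w
    induction w with
    | nil => intro _; rw [List.map_nil, List.prod_nil, codeT_one]; rfl
    | cons i w ih =>
      intro h
      obtain ⟨g, hg⟩ := exists_code (w := w)
        (List.all_eq_true.mpr fun j hj => decide_eq_true (h j (List.mem_cons_of_mem _ hj)))
      rw [List.map_cons, List.prod_cons]
      have e : (w.map r).prod = g :=
        codeT_inj ((ih fun j hj => h j (List.mem_cons_of_mem _ hj)).trans hg.symm)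
      have hi := h i List.mem_cons_self
      obtain ⟨g', hg', hh⟩ := exists_word (i :: w)
        (List.all_eq_true.mpr fun j hj => decide_eq_true (h j hj))
      simp only [codeT, imgs, wordCode]
      have key : ∀ {v : V3} (hv : v.inL = true), img (r i * g) (toLat v hv) = applyWord (i :: w) v →
          img (r i * (w.map r).prod) (toLat v hv) = applyWord (i :: w) v := fun _ h => by rw [e]; exact h
      have key2 : ∀ {v : V3} (hv : v.inL = true) (hvw : (applyWord w v).inL = true),
          img g (toLat v hv) = applyWord w v →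
          img (r i * g) (toLat v hv) = applyWord (i :: w) v := by
        intro v hv hvw hgv
        refine img_eq ?_
        obtain ⟨hL, hval⟩ := img_spec g (toLat v hv)
        rw [hgv] at hval
        show (V3.rf (line i) (applyWord w v)).val =
          (((r i : Equiv.Perm icoLeech) ((g : Equiv.Perm icoLeech) (toLat v hv)) : icoLeech) : H3)
        rw [show (g : Equiv.Perm icoLeech) (toLat v hv) = toLat (applyWord w v) hvw from
          Subtype.ext hval.symm]
        simp only [r, hi, dif_pos]
        exact (V3.rf_spec (line_root hi) hvw).2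
      obtain ⟨g0, hg0, hw0⟩ := exists_word w
        (List.all_eq_true.mpr fun j hj => decide_eq_true (h j (List.mem_cons_of_mem _ hj)))
      have eg : g = ⟨g0, hg0⟩ := by
        refine codeT_inj (hg.trans ?_)
        simp only [codeT, imgs, wordCode]
        rw [img_eq (g := ⟨g0, hg0⟩) (x := base) (v := applyWord w e0) (hw0 e0 e0_inL).2.symm,
          img_eq (g := ⟨g0, hg0⟩) (x := base1) (v := applyWord w e1) (hw0 e1 e1_inL).2.symm,
          img_eq (g := ⟨g0, hg0⟩) (x := base2) (v := applyWord w e2) (hw0 e2 e2_inL).2.symm]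
      have fin : ∀ {v : V3} (hv : v.inL = true),
          img (r i * (w.map r).prod) (toLat v hv) = applyWord (i :: w) v := fun {v} hv =>
        key hv (key2 hv (hw0 v hv).1 (img_eq (by rw [eg]; exact (hw0 v hv).2.symm)))
      rw [show base = toLat e0 e0_inL from rfl, show base1 = toLat e1 e1_inL from rfl,
        show base2 = toLat e2 e2_inL from rfl, fin, fin, fin]
  obtain ⟨hlt, hwit⟩ := wit_ok
  have hlt' : ∀ q ∈ perfectWit, q.1 < 315 ∧ q.2 < 315 := fun q hq => by
    have := List.all_eq_true.mp hlt q hq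
    simpa using this
  have h0 : r 0 ∈ D := by
    have hsq : ∀ i, i < 315 → (r i)⁻¹ = r i := fun i hi => by
      refine inv_eq_of_mul_eq_one_right (Subtype.ext (Equiv.ext fun x => Subtype.ext ?_))
      simp only [r, hi, dif_pos]
      exact qrefl_qrefl (V3.isRoot_iff.mp (line_root hi)).2 _
    have e : r 0 = (witWord.map r).prod := by
      refine codeT_inj ?_
      rw [hrcode 0 (by norm_num), happ _ ?_, hwit]
      intro i hi
      obtain ⟨q, hq, hiq⟩ := List.mem_flatMap.mp hi
      simp only [List.mem_cons, List.not_mem_nil, or_false] at hiq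
      rcases hiq with rfl | rfl | rfl | rfl <;> first | exact (hlt' q hq).1 | exact (hlt' q hq).2
    rw [e]
    have hp : ∀ L : List (ℕ × ℕ), (∀ q ∈ L, q.1 < 315 ∧ q.2 < 315) →
        ((L.flatMap fun q => [q.1, q.2, q.1, q.2]).map r).prod ∈ D := by
      intro L
      induction L with
      | nil => intro _; simp
      | cons q L ih =>
        intro h
        rw [List.flatMap_cons, List.map_append, List.prod_append]
        refine D.mul_mem ?_ (ih fun p hp => h p (List.mem_cons_of_mem _ hp))
        obtain ⟨ha, hb⟩ := h q List.mem_cons_self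
        have : ([q.1, q.2, q.1, q.2].map r).prod = ⁅r q.1, r q.2⁆ := by
          rw [commutatorElement_def, hsq _ ha, hsq _ hb]; simp [mul_assoc]
        rw [this, hD, commutator_def]
        exact Subgroup.commutator_mem_commutator (Subgroup.mem_top _) (Subgroup.mem_top _)
    exact hp perfectWit hlt'
  have hbase : (⟨refl base base_qip, refl_mem base base_qip⟩ : twoJ2) ∈ D := by
    have : (⟨refl base base_qip, refl_mem base base_qip⟩ : twoJ2) = r 0 := by
      apply Subtype.ext
      simp only [r, show (0 : ℕ) < 315 by norm_num, dif_pos, lineRefl]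
      refine Equiv.ext fun x => Subtype.ext ?_
      have hl : line 0 = e0 := by decide +kernel
      show qrefl e0.val (x : H3) = qrefl (line 0).val (x : H3)
      rw [hl]
    rw [this]; exact h0
  rw [eq_top_iff]
  rintro ⟨x, hx⟩ -
  refine Subgroup.closure_induction
    (p := fun x hx => (⟨x, hx⟩ : twoJ2) ∈ D) ?_ ?_ ?_ ?_ hx
  · intro f hf
    obtain ⟨c, hc, hcf⟩ := twoJ2_conj_transitive (refl_isRefl base base_qip) hf
    have : (⟨f, Subgroup.subset_closure hf⟩ : twoJ2) =
        ⟨c, hc⟩ * ⟨refl base base_qip, refl_mem base base_qip⟩ * ⟨c, hc⟩⁻¹ :=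
      Subtype.ext hcf.symm
    rw [this, hD]
    exact (inferInstance : (commutator twoJ2).Normal).conj_mem _ hbase _
  · exact D.one_mem
  · intro a b _ _ ha hb; exact D.mul_mem ha hb
  · intro a _ ha; exact D.inv_mem ha

theorem hasCyclicSchurMultiplier_J2 : Cfsg.HasCyclicSchurMultiplier J2 2 := by
  haveI : Finite twoJ2 := Nat.finite_of_card_ne_zero (by rw [card_twoJ2]; norm_num)
  let π : twoJ2 →* J2 := QuotientGroup.mk' (Subgroup.center twoJ2)
  have hπ : Function.Surjective π := QuotientGroup.mk'_surjective _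
  have hker : π.ker = Subgroup.center twoJ2 := QuotientGroup.ker_mk' _
  have hcard : Nat.card π.ker = 2 := by rw [hker]; exact card_center_twoJ2
  haveI : IsCyclic π.ker := isCyclic_of_prime_card (p := 2) hcard
  let e : Multiplicative (ZMod 2) ≃* π.ker :=
    (zmodCyclicMulEquiv (inferInstance : IsCyclic π.ker)).trans (MulEquiv.refl _) |> fun f => by
      rw [hcard] at f; exact f
  refine ⟨⟨twoJ2, inferInstance, inferInstance, π,
    ⟨hπ, hker.le, by rw [twoJ2_perfect]; exact le_top⟩, ⟨e.symm⟩⟩, fun Γ _ _ σ hσ => ?_⟩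
  let Y : Subgroup (Γ × twoJ2) :=
    MonoidHom.eqLocus (σ.comp (MonoidHom.fst Γ twoJ2)) (π.comp (MonoidHom.snd Γ twoJ2))
  let τ : Y →* twoJ2 := (MonoidHom.snd Γ twoJ2).comp Y.subtype
  have hτs : Function.Surjective τ := fun g => by
    obtain ⟨x, hx⟩ := hσ.1 (π g)
    exact ⟨⟨(x, g), hx⟩, rfl⟩
  have hτc : τ.ker ≤ Subgroup.center Y := by
    intro p hp
    have h2 : (p : Γ × twoJ2).2 = 1 := hp
    have h1 : (p : Γ × twoJ2).1 ∈ Subgroup.center Γ :=
      hσ.2.1 (p.2.trans ((congrArg π h2).trans (map_one π)))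
    rw [Subgroup.mem_center_iff]
    intro q
    apply Subtype.ext
    apply Prod.ext
    · exact Subgroup.mem_center_iff.1 h1 _
    · change (q : Γ × twoJ2).2 * (p : Γ × twoJ2).2 = (p : Γ × twoJ2).2 * (q : Γ × twoJ2).2
      rw [h2, mul_one, one_mul]
  obtain ⟨η, hη⟩ := H26.exists_section_of_trivial twoJ2_perfect twoJ2_trivial_multiplier τ hτc hτs
  let f : twoJ2 →* Γ := (MonoidHom.fst Γ twoJ2).comp (Y.subtype.comp η)
  have hf : σ.comp f = π := MonoidHom.ext fun g =>
    (η g).2.trans (congrArg π (DFunLike.congr_fun hη g))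
  have hfs := H26.surjective_of_stem hσ hπ hf
  let F : π.ker →* σ.ker := (f.comp π.ker.subtype).codRestrict σ.ker fun x => by
    show σ (f x) = 1
    rw [← MonoidHom.comp_apply, hf]; exact x.2
  refine ⟨F.comp e.toMonoidHom, fun y => ?_⟩
  obtain ⟨b, hb⟩ := hfs y
  have hbk : b ∈ π.ker := by
    show π b = 1
    rw [← hf, MonoidHom.comp_apply, hb]; exact y.2
  obtain ⟨a, ha⟩ := e.surjective ⟨b, hbk⟩
  refine ⟨a, Subtype.ext ?_⟩
  show f (e a : twoJ2) = y
  rw [ha, hb]

end J2Schur
end H26
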