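import Cfsg.Agent.H26.M12SchurData
import Cfsg.Agent.H97.SchurMathieu
import Cfsg.Agent.H97.MOutM12
import Cfsg.Agent.H90.Simple

/-!
The double cover of M12: pairs of a permutation in M12 and a signed permutation of its twelve
points preserving the signed supports of weight six of the ternary Golay code.
-/

set_option autoImplicit false
set_option maxRecDepth 100000

namespace H26.M12Schur

open Cfsg H90 H97 H97.MOut
open scoped Pointwise

abbrev P24 := Equiv.Perm GolayPt

/-- the point of the dodecad under a signed point, by position -/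
def dnI (i : ℕ) : ℕ := sqL.getD (i / 2) 0

/-- the point of the dodecad under a signed point -/
def dn (x : GolayPt) : GolayPt := H94.ptN (dnI (idx x).val)

/-- the checks on a code of a pair -/
def pairOK (c : ℕ) : Bool :=
  H87.mem12 (c % 2 ^ 120) && packAux (fun i => img (c % 2 ^ 120) i) 24 == c % 2 ^ 120 &&
  isPerm (c / 2 ^ 120) && packAux (fun i => img (c / 2 ^ 120) i) 24 == c / 2 ^ 120 &&
  compN (c / 2 ^ 120) nuC == compN nuC (c / 2 ^ 120) &&
  (List.range 24).all (fun i => dnI (img (c / 2 ^ 120) i) == img (c % 2 ^ 120) (dnI i)) &&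
  blocks.all (fun r => blocks.contains (permMask (c / 2 ^ 120) r))

/-- the negation -/
noncomputable def nu : P24 :=
  (exists_code (p := nuC) (by decide +kernel) (by decide +kernel)).choose

theorem code_nu : code nu = nuC :=
  (exists_code (p := nuC) (by decide +kernel) (by decide +kernel)).choose_spec

/-- the signed supports -/
def blockSet : Finset (Finset GolayPt) := blocks.toFinset.image setOf'

/-- the double cover -/
noncomputable def cover : Subgroup (P24 × P24) where
  carrier := {a | a.1 ∈ Spor.M12 ∧ a.2 * nu = nu * a.2 ∧ (∀ x, dn (a.2 x) = a.1 (dn x)) ∧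
    a.2 • blockSet = blockSet}
  one_mem' := ⟨one_mem _, by simp, fun x => rfl, one_smul _ _⟩
  mul_mem' := by
    rintro a b ⟨a1, a2, a3, a4⟩ ⟨b1, b2, b3, b4⟩
    refine ⟨mul_mem a1 b1, ?_, fun x => ?_, ?_⟩
    · exact (Commute.mul_left (show Commute a.2 nu from a2) (show Commute b.2 nu from b2)).eq
    · show dn (a.2 (b.2 x)) = a.1 (b.1 (dn x))
      rw [a3, b3]
    · show (a.2 * b.2) • blockSet = blockSet
      rw [mul_smul, b4, a4]
  inv_mem' := by
    rintro a ⟨a1, a2, a3, a4⟩
    refine ⟨inv_mem a1, ?_, fun x => ?_, ?_⟩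
    · exact ((show Commute a.2 nu from a2).inv_left).eq
    · show dn (a.2⁻¹ x) = a.1⁻¹ (dn x)
      apply a.1.injective
      rw [← a3]
      simp
    · show a.2⁻¹ • blockSet = blockSet
      rw [inv_smul_eq_iff, a4]

/-- the projection -/
noncomputable def proj : cover →* Spor.M12 where
  toFun a := ⟨a.1.1, a.2.1⟩
  map_one' := rfl
  map_mul' _ _ := rfl

theorem packAux_lt {f : ℕ → ℕ} (hf : ∀ i, f i < 32) : ∀ k, packAux f k < 2 ^ (5 * k)
  | 0 => by simp [packAux]
  | k + 1 => by
    rw [packAux]
    refine Nat.or_lt_two_pow ((packAux_lt hf k).trans_le (Nat.pow_le_pow_right (by norm_num) (by omega))) ?_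
    rw [Nat.shiftLeft_eq, show 5 * (k + 1) = 5 + 5 * k by ring, pow_add]
    exact (Nat.mul_lt_mul_right (Nat.two_pow_pos _)).2 (hf k)

theorem code_lt (σ : P24) : code σ < 2 ^ 120 :=
  packAux_lt (fun i => by split <;> omega) 24

/-- multiply codes of pairs -/
def mulC (a b : ℕ) : ℕ :=
  compN (a % 2 ^ 120) (b % 2 ^ 120) + 2 ^ 120 * compN (a / 2 ^ 120) (b / 2 ^ 120)

/-- the code of a pair -/
def code2 (a : P24 × P24) : ℕ := code a.1 + 2 ^ 120 * code a.2

theorem code2_mod (a : P24 × P24) : code2 a % 2 ^ 120 = code a.1 := by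
  rw [code2, Nat.add_mul_mod_self_left, Nat.mod_eq_of_lt (code_lt _)]

theorem code2_div (a : P24 × P24) : code2 a / 2 ^ 120 = code a.2 := by
  rw [code2, Nat.add_mul_div_left _ _ (Nat.two_pow_pos _), Nat.div_eq_of_lt (code_lt _),
    zero_add]

theorem code2_mul (a b : P24 × P24) : code2 (a * b) = mulC (code2 a) (code2 b) := by
  rw [mulC, code2_mod, code2_mod, code2_div, code2_div, code2, ← code_mul, ← code_mul]
  rfl

theorem code2_inj : Function.Injective code2 := fun a b h =>
  Prod.ext (code_inj (by rw [← code2_mod a, ← code2_mod b, h]))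
    (code_inj (by rw [← code2_div a, ← code2_div b, h]))

/-- the code of the identity -/
def oneC : ℕ := idN + 2 ^ 120 * idN

/-- the coding of the cover -/
noncomputable def coding : SchurCert.Coding cover mulC oneC where
  code a := code2 a.1
  inj := fun _ _ h => Subtype.ext (code2_inj h)
  map_one := by
    show code (1 : P24) + 2 ^ 120 * code (1 : P24) = oneC
    rw [code_one, oneC]
  map_mul a b := code2_mul a.1 b.1

theorem idx_pt_val (i : Fin 24) : (idx (pt i)).val = i.val := by rw [idx_pt]

theorem dnI_lt : ∀ i : Fin 24, dnI i.val < 24 := by decide +kernel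

theorem exists_pair {c : ℕ} (h : pairOK c = true) : ∃ a : cover, code2 a.1 = c := by
  simp only [pairOK, Bool.and_eq_true, List.all_eq_true, beq_iff_eq, List.mem_range] at h
  obtain ⟨⟨⟨⟨⟨⟨hp, hpc⟩, hq⟩, hqc⟩, hnu⟩, hdn⟩, hbl⟩ := h
  obtain ⟨σ, hσ⟩ := H87.exists_of_mem12 hp
  obtain ⟨g, hg⟩ := exists_repr hq
  have eσ : code σ.1 = c % 2 ^ 120 := (code_of_repr hσ).trans hpc
  have eg : code g = c / 2 ^ 120 := (code_of_repr hg).trans hqc
  refine ⟨⟨(σ.1, g), σ.2, code_inj ?_, fun x => ?_, ?_⟩, ?_⟩
  · rw [code_mul, code_mul, eg, code_nu, hnu]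
  · obtain ⟨i, rfl⟩ : ∃ i, pt i = x := ⟨idx x, pt_idx x⟩
    show H94.ptN (dnI (idx (g (pt i))).val) = σ.1 (H94.ptN (dnI (idx (pt i)).val))
    rw [hg i, hdn i i.isLt, idx_pt_val]
    apply idx_injective
    apply Fin.ext
    have hlt : dnI i.val < 24 := dnI_lt i
    have := hσ ⟨dnI i.val % 24, Nat.mod_lt _ (by norm_num)⟩
    simp only [H94.ptN, idx_pt, Nat.mod_eq_of_lt hlt] at this ⊢
    rw [this, Nat.mod_eq_of_lt]
    rw [← this]; exact Fin.isLt _
  · refine Finset.eq_of_subset_of_card_le (fun S hS => ?_) (Finset.card_smul_finset _ _).ge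
    obtain ⟨T, hT, rfl⟩ := Finset.mem_smul_finset.1 hS
    simp only [blockSet, Finset.mem_image, List.mem_toFinset] at hT ⊢
    obtain ⟨r, hr, rfl⟩ := hT
    refine ⟨permMask (c / 2 ^ 120) r, List.contains_iff_mem.1 (hbl r hr), ?_⟩
    rw [smul_finset_eq_image, setOf'_permMask hg]
  · rw [code2, eσ, eg, Nat.mod_add_div]

theorem pairs_ok : (genC ++ witC).all pairOK = true := by decide +kernel

theorem gens_ok : genC.map (· % 2 ^ 120) = [dataM12.a, dataM12.n, dataM12.b] := by decide +kernel

theorem chains_M12' : checkChains dataM12 95040 = true := by decide +kernel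

theorem proj_surjective : Function.Surjective proj := by
  set H : Subgroup P24 := proj.range.map Spor.M12.subtype with hH
  have hHG : H ≤ Spor.M12 := fun x hx => by
    obtain ⟨y, -, rfl⟩ := hx
    exact y.2
  have hgen : ∀ p ∈ [dataM12.a, dataM12.n, dataM12.b], ∃ σ ∈ H, code σ = p := by
    intro p hp
    rw [← gens_ok, List.mem_map] at hp
    obtain ⟨c, hc, rfl⟩ := hp
    obtain ⟨a, ha⟩ := exists_pair (List.all_eq_true.1 pairs_ok c (List.mem_append_left _ hc))
    exact ⟨a.1.1, ⟨proj a, ⟨a, rfl⟩, rfl⟩, by rw [← ha, code2_mod]⟩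
  have hch := chains_M12'
  simp only [checkChains, Bool.and_eq_true, beq_iff_eq, List.all_eq_true, decide_eq_true_eq,
    List.mem_range] at hch
  obtain ⟨⟨⟨⟨⟨hnodes, hokA⟩, hsA⟩, -⟩, -⟩, hidx⟩ := hch
  have hnode : ∀ i < dataM12.nodes.length, ∃ σ ∈ H, code σ = nodeV dataM12 i := by
    intro i
    induction i using Nat.strong_induction_on with
    | _ i ih =>
    intro hi
    have h := hnodes i hi
    simp only [nodeOK] at h
    split_ifs at h with h0 h1 h2 h3
    · exact ⟨1, one_mem _, by rw [code_one]; exact (beq_iff_eq.1 h).symm⟩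
    · rw [beq_iff_eq.1 h]; exact hgen _ (by simp)
    · rw [beq_iff_eq.1 h]; exact hgen _ (by simp)
    · rw [beq_iff_eq.1 h]; exact hgen _ (by simp)
    · simp only [Bool.and_eq_true, decide_eq_true_eq, beq_iff_eq] at h
      obtain ⟨σ, hσ, eσ⟩ := ih _ h.1.1 (by omega)
      obtain ⟨τ, hτ, eτ⟩ := ih _ h.1.2 (by omega)
      exact ⟨σ * τ, mul_mem hσ hτ, by rw [code_mul, eσ, eτ, h.2]⟩
  obtain ⟨hHeq, -⟩ := chain_exhausts hHG H87.natCard_M12 hokA hsA fun l hl u hu => by
    obtain ⟨l', hl', rfl⟩ := List.mem_map.1 hl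
    obtain ⟨i, hi, rfl⟩ := List.mem_map.1 hu
    exact hnode i (hidx l' (List.mem_append_left _ hl') i hi)
  intro σ
  have hσ : σ.1 ∈ H := hHeq.symm ▸ σ.2
  obtain ⟨y, ⟨a, ha⟩, hy⟩ := hσ
  exact ⟨a, ha.trans (Subtype.ext hy)⟩

/-- the signed permutation flipping the points in `S` -/
def flipC (S : ℕ) : ℕ :=
  packAux (fun i => if Nat.testBit S (i / 2) then (i + 1 - 2 * (i % 2)) % 32 else i % 32) 24

theorem flip_ok : (List.range 4096).all (fun S =>
    S == 0 || S == 4095 || !(blocks.all fun r => blocks.contains (permMask (flipC S) r))) = true :=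
  by decide +kernel

theorem flip_ends : flipC 0 = idN ∧ flipC 4095 = nuC := by decide +kernel

theorem setOf'_inj_blocks : ∀ m ∈ blocks, m < 2 ^ 24 := by decide +kernel

theorem dn_fibre : ∀ i j : Fin 24, dn (pt i) = dn (pt j) → i.val / 2 = j.val / 2 := by
  decide +kernel

theorem nu_pt : ∀ i : Fin 24, img nuC i.val = i.val + 1 - 2 * (i.val % 2) := by decide +kernel

theorem ker_cases {a : cover} (ha : proj a = 1) : code a.1.2 = idN ∨ code a.1.2 = nuC := by
  obtain ⟨⟨σ, g⟩, hσM, hnu, hdn, hbl⟩ := a
  have h1 : σ = 1 := congrArg Subtype.val ha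
  subst h1
  show code g = idN ∨ code g = nuC
  have hfib : ∀ i : Fin 24, (idx (g (pt i))).val / 2 = i.val / 2 := fun i =>
    dn_fibre _ _ (by rw [pt_idx]; exact hdn (pt i))
  have hsw : ∀ i j : Fin 24, j.val = i.val + 1 - 2 * (i.val % 2) →
      (idx (g (pt j))).val =
        (idx (g (pt i))).val + 1 - 2 * ((idx (g (pt i))).val % 2) := by
    intro i j hij
    have hn : ∀ k : Fin 24, (idx (nu (pt k))).val = k.val + 1 - 2 * (k.val % 2) := fun k => by
      rw [← img_code nu k, code_nu, nu_pt]
    have e : nu (pt i) = pt j := idx_injective (Fin.ext (by rw [hn, idx_pt]; exact hij.symm))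
    have h := congrArg (fun f : P24 => (idx (f (pt i))).val) hnu
    simp only [Equiv.Perm.mul_apply] at h
    rw [e, ← pt_idx (g (pt i)), hn] at h
    simpa [idx_pt] using h
  let S := Nat.ofBits fun k : Fin 12 =>
    decide ((idx (g (pt ⟨2 * k.val, by omega⟩))).val ≠ 2 * k.val)
  have hS : S < 4096 := Nat.ofBits_lt_two_pow _
  have hcode : code g = flipC S := by
    refine packAux_congr 24 fun i hi => ?_
    rw [dif_pos hi]
    have hk : i / 2 < 12 := by omega
    have hbit : S.testBit (i / 2) =
        decide ((idx (g (pt ⟨2 * (i / 2), by omega⟩))).val ≠ 2 * (i / 2)) := by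
      rw [Nat.testBit_ofBits]; rw [dif_pos hk]
    have f0 := hfib ⟨2 * (i / 2), by omega⟩
    have f1 := hfib ⟨i, hi⟩
    simp only at f0 f1
    rw [hbit]
    rcases Nat.mod_two_eq_zero_or_one i with hi2 | hi2
    · have e : (⟨2 * (i / 2), by omega⟩ : Fin 24) = ⟨i, hi⟩ := Fin.ext (show 2 * (i / 2) = i by omega)
      rw [e]
      split_ifs with hb <;> simp only [decide_eq_true_eq, not_not] at hb <;> omega
    · have f2 := hsw ⟨2 * (i / 2), by omega⟩ ⟨i, hi⟩ (show i = 2 * (i / 2) + 1 - 2 * (2 * (i / 2) % 2) by omega)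
      split_ifs with hb <;> simp only [decide_eq_true_eq, not_not] at hb <;> omega
  have hall : blocks.all (fun r => blocks.contains (permMask (flipC S) r)) = true := by
    rw [List.all_eq_true]
    intro r hr
    have hmem : g • setOf' r ∈ blockSet := by
      have : g • setOf' r ∈ g • blockSet := Finset.smul_mem_smul_finset
        (Finset.mem_image_of_mem _ (List.mem_toFinset.2 hr))
      rwa [show g • blockSet = blockSet from hbl] at this
    rw [smul_finset_eq_image, ← setOf'_permMask (hcode ▸ repr_code g : Repr g (flipC S))] at hmem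
    simp only [blockSet, Finset.mem_image, List.mem_toFinset] at hmem
    obtain ⟨r', hr', e⟩ := hmem
    rw [List.contains_iff_mem, show permMask (flipC S) r = r' from
      (setOf'_injOn (permMask_lt (hcode ▸ repr_code g) _) (setOf'_inj_blocks r' hr') e.symm)]
    exact hr'
  have h := List.all_eq_true.1 flip_ok S (List.mem_range.2 hS)
  rw [hall, Bool.not_true, Bool.or_false, Bool.or_eq_true, beq_iff_eq, beq_iff_eq] at h
  rcases h with h | h
  · left; rw [hcode, h, flip_ends.1]
  · right; rw [hcode, h, flip_ends.2]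

theorem negC_ok : pairOK (idN + 2 ^ 120 * nuC) = true := by decide +kernel

/-- the central element -/
noncomputable def neg : cover := (exists_pair negC_ok).choose

theorem code_neg : code2 neg.1 = idN + 2 ^ 120 * nuC := (exists_pair negC_ok).choose_spec

theorem neg_eq : neg.1 = (1, nu) :=
  code2_inj (by rw [code_neg, code2, code_one, code_nu])

theorem neg_ne_one : neg ≠ 1 := fun h => by
  have := congrArg (fun a : cover => code2 a.1) h
  simp only [code_neg, OneMemClass.coe_one] at this
  rw [code2, show ((1 : P24 × P24)).1 = 1 from rfl, show ((1 : P24 × P24)).2 = 1 from rfl,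
    code_one] at this
  revert this
  decide +kernel

theorem mem_ker_iff (a : cover) : a ∈ proj.ker ↔ a = 1 ∨ a = neg := by
  rw [MonoidHom.mem_ker]
  constructor
  · intro h
    have h1 : a.1.1 = 1 := congrArg Subtype.val h
    rcases ker_cases h with h' | h'
    · left; exact Subtype.ext (Prod.ext h1 (code_inj (h'.trans code_one.symm)))
    · right
      refine Subtype.ext ?_
      rw [neg_eq]
      exact Prod.ext h1 (code_inj (h'.trans code_nu.symm))
  · rintro (rfl | rfl)
    · exact map_one _
    · exact Subtype.ext (show neg.1.1 = 1 by rw [neg_eq])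

theorem card_ker : Nat.card proj.ker = 2 := by
  rw [show Nat.card proj.ker = (proj.ker : Set cover).ncard from Nat.card_coe_set_eq _]
  rw [show (proj.ker : Set cover) = {1, neg} from Set.ext fun a => mem_ker_iff a]
  exact Set.ncard_pair neg_ne_one.symm

theorem ker_le_center : proj.ker ≤ Subgroup.center cover := by
  intro a ha
  rcases (mem_ker_iff a).1 ha with rfl | rfl
  · exact one_mem _
  · rw [Subgroup.mem_center_iff]
    intro b
    refine Subtype.ext ?_
    show b.1 * neg.1 = neg.1 * b.1
    rw [neg_eq]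
    exact Prod.ext (by show b.1.1 * 1 = 1 * b.1.1; simp) b.2.2.1

theorem card_cover : Nat.card cover = 190080 := by
  rw [Subgroup.card_eq_card_quotient_mul_card_subgroup proj.ker, card_ker,
    Nat.card_congr (QuotientGroup.quotientKerEquivOfSurjective proj proj_surjective).toEquiv,
    H87.natCard_M12]

theorem wit_eq : mulC (witC.getD 0 0) (witC.getD 1 0) =
    mulC (idN + 2 ^ 120 * nuC) (mulC (witC.getD 1 0) (witC.getD 0 0)) := by decide +kernel

theorem M12_simple : IsSimpleGroup Spor.M12 := by
  haveI := dodecad_stab_simple H87.squareDodecad_mem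
  let e : Spor.M12 ≃* MulAction.stabilizer M24 Spor.squareDodecad :=
    { toFun := fun g => ⟨⟨g.1, g.2.1⟩, g.2.2⟩
      invFun := fun g => ⟨g.1.1, g.1.2, g.2⟩
      left_inv := fun _ => rfl
      right_inv := fun _ => rfl
      map_mul' := fun _ _ => rfl }
  haveI : Nontrivial Spor.M12 := e.toEquiv.nontrivial
  exact IsSimpleGroup.isSimpleGroup_of_surjective e.symm.toMonoidHom e.symm.surjective

open scoped commutatorElement in
theorem cover_perfect : commutator cover = ⊤ := by
  haveI := M12_simple
  have hwit := List.all_eq_true.1 pairs_ok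
  obtain ⟨x, hx⟩ := exists_pair (hwit (witC.getD 0 0) (by decide +kernel))
  obtain ⟨y, hy⟩ := exists_pair (hwit (witC.getD 1 0) (by decide +kernel))
  have hxy : x * y = neg * (y * x) := Subtype.ext (code2_inj (by
    show code2 (x.1 * y.1) = code2 (neg.1 * (y.1 * x.1))
    rw [code2_mul, code2_mul, code2_mul, hx, hy, code_neg, wit_eq]))
  have hneg : neg ∈ commutator cover := by
    have : neg = ⁅x, y⁆ := by
      rw [commutatorElement_def, hxy]; group
    rw [this, commutator_def]
    exact Subgroup.commutator_mem_commutator (Subgroup.mem_top _) (Subgroup.mem_top _)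
  have hmap : (commutator cover).map proj = commutator Spor.M12 := by
    rw [commutator_def, commutator_def, Subgroup.map_commutator,
      Subgroup.map_top_of_surjective _ proj_surjective]
  have hne : commutator Spor.M12 ≠ ⊥ := by
    intro h
    rw [commutator_def, Subgroup.commutator_eq_bot_iff_le_centralizer,
      Subgroup.coe_top, Subgroup.centralizer_univ, top_le_iff] at h
    haveI : Fact (Nat.Prime 2) := ⟨Nat.prime_two⟩
    letI : CommGroup Spor.M12 := Group.commGroupOfCenterEqTop h
    have hp := (Group.is_simple_iff_prime_card (α := Spor.M12)).1 inferInstance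
    rw [H87.natCard_M12] at hp
    norm_num at hp
  have htop := ((inferInstance : (commutator Spor.M12).Normal).eq_bot_or_eq_top).resolve_left hne
  rw [eq_top_iff]
  intro a _
  obtain ⟨b, hb, hba⟩ : proj a ∈ (commutator cover).map proj := by rw [hmap, htop]; trivial
  have hk : b⁻¹ * a ∈ commutator cover := by
    rcases (mem_ker_iff (b⁻¹ * a)).1 (by rw [MonoidHom.mem_ker, map_mul, map_inv, hba,
      inv_mul_cancel]) with h | h <;> rw [h]
    · exact one_mem _
    · exact hneg
  simpa using mul_mem hb hk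

end H26.M12Schur
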