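import Cfsg.Agent.H26.SchurPerfect
import Cfsg.Agent.H97.Schur

/-!
A group whose perfect central extension of prime kernel order has trivial multiplier has cyclic
multiplier of that order.
-/

set_option autoImplicit false

namespace H26

theorem hasCyclicSchurMultiplier_of_perfect_cover {E G : Type} [Group E] [Group G] [Finite E]
    {p : ℕ} [Fact p.Prime] (π : E →* G) (hπ : Function.Surjective π)
    (hc : π.ker ≤ Subgroup.center E) (hcard : Nat.card π.ker = p)
    (hperf : commutator E = ⊤) (htriv : Cfsg.HasCyclicSchurMultiplier E 1) :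
    Cfsg.HasCyclicSchurMultiplier G p := by
  haveI : IsCyclic π.ker := isCyclic_of_prime_card (p := p) hcard
  let e : Multiplicative (ZMod p) ≃* π.ker :=
    (zmodCyclicMulEquiv (inferInstance : IsCyclic π.ker)) |> fun f => by
      rw [hcard] at f; exact f
  refine ⟨⟨E, inferInstance, inferInstance, π,
    ⟨hπ, hc, by rw [hperf]; exact le_top⟩, ⟨e.symm⟩⟩, fun Γ _ _ σ hσ => ?_⟩
  let Y : Subgroup (Γ × E) :=
    MonoidHom.eqLocus (σ.comp (MonoidHom.fst Γ E)) (π.comp (MonoidHom.snd Γ E))
  let τ : Y →* E := (MonoidHom.snd Γ E).comp Y.subtype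
  have hτs : Function.Surjective τ := fun g => by
    obtain ⟨x, hx⟩ := hσ.1 (π g)
    exact ⟨⟨(x, g), hx⟩, rfl⟩
  have hτc : τ.ker ≤ Subgroup.center Y := by
    intro q hq
    have h2 : (q : Γ × E).2 = 1 := hq
    have h1 : (q : Γ × E).1 ∈ Subgroup.center Γ :=
      hσ.2.1 (q.2.trans ((congrArg π h2).trans (map_one π)))
    rw [Subgroup.mem_center_iff]
    intro r
    apply Subtype.ext
    apply Prod.ext
    · exact Subgroup.mem_center_iff.1 h1 _
    · change (r : Γ × E).2 * (q : Γ × E).2 = (q : Γ × E).2 * (r : Γ × E).2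
      rw [h2, mul_one, one_mul]
  obtain ⟨η, hη⟩ := H26.exists_section_of_trivial hperf htriv τ hτc hτs
  let f : E →* Γ := (MonoidHom.fst Γ E).comp (Y.subtype.comp η)
  have hf : σ.comp f = π := MonoidHom.ext fun g =>
    (η g).2.trans (congrArg π (DFunLike.congr_fun hη g))
  have hfs := H26.surjective_of_stem hσ hπ hf
  let F : π.ker →* σ.ker := (f.comp π.ker.subtype).codRestrict σ.ker fun x => by
    show σ (f x) = 1
    rw [← MonoidHom.comp_apply, hf]; exact x.2
  refine ⟨F.comp e.toMonoidHom, fun y => ?_⟩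
  obtain ⟨b, hb⟩ := hfs y
  have hbk : b ∈ π.ker := by
    show π b = 1
    rw [← hf, MonoidHom.comp_apply, hb]; exact y.2
  obtain ⟨a, ha⟩ := e.surjective ⟨b, hbk⟩
  refine ⟨a, Subtype.ext ?_⟩
  show f (e a : E) = y
  rw [ha, hb]

end H26
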