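import Cfsg.Agent.H26.M12Cover
import Cfsg.Agent.H26.PerfectCoverSchur

/-! The Schur multiplier of M12 has order 2: its double cover has trivial multiplier. -/

set_option autoImplicit false
set_option maxRecDepth 100000

namespace H26.M12Schur

open H97.SchurCert

/-- all parts of one certificate -/
def certOK (D : Data) : Bool :=
  (D.syms.all pairOK) && rulesOK mulC oneC D && defsOK D && pcOK D && sizeOK mulC oneC D &&
    combosOK D

theorem cert2 : certOK data2 = true := by decide +kernel
theorem cert3 : certOK data3 = true := by decide +kernel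

theorem not_dvd {Γ : Type} [Group Γ] [Finite Γ] (D : Data) [Fact D.p.Prime]
    (h : certOK D = true) {M : ℕ} (hcard : 190080 = D.p ^ D.n * M) (hM : ¬ D.p ∣ M)
    (σ : Γ →* cover) (hσ : Cfsg.IsStemExtension σ) : ¬ D.p ∣ Nat.card σ.ker := by
  simp only [certOK, Bool.and_eq_true, List.all_eq_true] at h
  obtain ⟨⟨⟨⟨⟨h0, h2⟩, h3⟩, h4⟩, h5⟩, h6⟩ := h
  refine not_dvd_card_ker coding D (fun v hv => ?_) h2 h3 h4 h5 h6
    (by rw [card_cover]; exact hcard) hM σ hσ
  obtain ⟨a, ha⟩ := exists_pair (h0 v hv)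
  exact ⟨a, ha⟩

theorem cover_trivial_multiplier : Cfsg.HasCyclicSchurMultiplier cover 1 := by
  haveI : Finite cover := Nat.finite_of_card_ne_zero (by rw [card_cover]; norm_num)
  refine H97.hasTrivialMultiplier fun Γ _ _ σ hσ => ?_
  rw [← Subgroup.card_eq_one]
  by_contra hne
  obtain ⟨p, hp, hdvd⟩ := Nat.exists_prime_and_dvd hne
  haveI := Fact.mk hp
  have hsq := sq_dvd_of_dvd_card_ker σ hσ hdvd
  rw [card_cover] at hsq
  have hmem : p ∈ Nat.primeFactorsList 190080 :=
    (Nat.mem_primeFactorsList (by norm_num)).2 ⟨hp, (dvd_pow_self p two_ne_zero).trans hsq⟩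
  simp only [Nat.primeFactorsList_ofNat, List.mem_cons, List.not_mem_nil, or_false] at hmem
  have hp4 : p = 2 ∨ p = 3 ∨ p = 5 ∨ p = 11 := by omega
  rcases hp4 with rfl | rfl | rfl | rfl
  · haveI : Fact data2.p.Prime := ⟨Nat.prime_two⟩
    exact not_dvd data2 cert2 (M := 1485) (by decide) (by decide) σ hσ hdvd
  · haveI : Fact data3.p.Prime := ⟨Nat.prime_three⟩
    exact not_dvd data3 cert3 (M := 7040) (by decide) (by decide) σ hσ hdvd
  · norm_num at hsq
  · norm_num at hsq

theorem hasCyclicSchurMultiplier_M12 : Cfsg.HasCyclicSchurMultiplier Cfsg.Spor.M12 2 := by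
  haveI : Finite cover := Nat.finite_of_card_ne_zero (by rw [card_cover]; norm_num)
  haveI : Fact (Nat.Prime 2) := ⟨Nat.prime_two⟩
  exact hasCyclicSchurMultiplier_of_perfect_cover proj proj_surjective ker_le_center card_ker
    cover_perfect cover_trivial_multiplier

end H26.M12Schur
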