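import Cfsg.Agent.H97.SchurCertDefs

/-! Certificates: the double cover of M12 and the triviality of its multiplier. -/

set_option maxRecDepth 20000

namespace H26.M12Schur

open H97.SchurCert

def sqL : List ℕ := [0, 1, 2, 3, 4, 6, 8, 9, 12, 13, 16, 18]

def nuC : ℕ := 944538608299847986500403370965142529

def blocks : List ℕ := [
  5670,
  10521,
  17493,
  23112,
  24930,
  34986,
  37521,
  42372,
  66138,
  70977,
  75876,
  83616,
  90249,
  100869,
  102696,
  107538,
  131493,
  136344,
  141954,
  148746,
  153633,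
  156180,
  166224,
  168006,
  263570,
  268421,
  271016,
  280868,
  282650,
  288257,
  295241,
  300128,
  328745,
  334352,
  336134,
  346178,
  360596,
  394820,
  401489,
  414080,
  426530,
  436232,
  526945,
  528724,
  533578,
  541318,
  551056,
  558616,
  563458,
  565285,
  592264,
  594082,
  606481,
  611332,
  631360,
  657430,
  659977,
  664864,
  671848,
  689281,
  1050249,
  1055136,
  1056918,
  1067538,
  1069317,
  1074216,
  1081956,
  1091649,
  1115412,
  1120266,
  1122849,
  1134672,
  1147266,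
  1180770,
  1188168,
  1198212,
  1212441,
  1218048,
  1312856,
  1315394,
  1327265,
  1344518,
  1351952,
  1385600,
  1393160,
  1444097,
  1445924,
  1573162,
  1578001,
  1583620,
  1590592,
  1609864,
  1638469,
  1673248,
  1704592,
  1728514,
  2099526,
  2101353,
  2106960,
  2113944,
  2118786,
  2131233,
  2136084,
  2138634,
  2164881,
  2167428,
  2179110,
  2189568,
  2196552,
  2230824,
  2232594,
  2237445,
  2245185,
  2269344,
  2359829,
  2364680,
  2369570,
  2383940,
  2394752,
  2425184,
  2461697,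
  2490506,
  2507792,
  2622628,
  2630017,
  2639881,
  2642464,
  2654290,
  2688514,
  2695192,
  2758720,
  2785540,
  4197012,
  4198794,
  4203681,
  4211241,
  4216080,
  4220934,
  4228674,
  4235352,
  4262178,
  4263957,
  4269576,
  4276548,
  4298880,
  4327497,
  4330080,
  4341906,
  4359204,
  4366593,
  4456550,
  4467008,
  4473992,
  4491281,
  4493828,
  4522625,
  4546592,
  4587800,
  4592642,
  4719877,
  4724776,
  4727314,
  4739137,
  4751776,
  4785232,
  4816906,
  4857988,
  4868608,
  5243217,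
  5248068,
  5268096,
  5277960,
  5279778,
  5308584,
  5325825,
  5374470,
  5384208,
  5506592,
  5513225,
  5668928,
  5769346,
  5783572,
  5837056,
  6292506,
  6298113,
  6299940,
  6309984,
  6324357,
  6365250,
  6390288,
  6423936,
  6443016,
  6557840,
  6570242,
  6621188,
  6816328,
  6857728,
  6946849,
  8389992,
  8394834,
  8397381,
  8407425,
  8409252,
  8421654,
  8426505,
  8432160,
  8455302,
  8462736,
  8472600,
  8475138,
  8487009,
  8521233,
  8526084,
  8527914,
  8545344,
  8553096,
  8653322,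
  8655137,
  8659988,
  8667728,
  8691842,
  8720456,
  8750336,
  8784032,
  8798213,
  8913049,
  8918656,
  8930338,
  8937736,
  8947780,
  8978980,
  8988673,
  9044290,
  9080848,
  9439269,
  9441816,
  9446658,
  9453642,
  9471120,
  9505344,
  9543684,
  9572481,
  9584928,
  9699716,
  9721856,
  9764882,
  9969760,
  9994753,
  10093576,
  10486434,
  10496136,
  10503684,
  10510353,
  10522944,
  10551561,
  10556448,
  10616916,
  10651650,
  10748993,
  10780712,
  10887680,
  11012368,
  11014150,
  11092096]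

def genC : List ℕ := [
  55994234906583682357111181480394331755605217405068561026758522842488912,
  511784583406778928830535258737784485434988701831888902173030577182180864,
  169873592482879454725144476457361061287915531886235478914775893403519107]

def witC : List ℕ := [
  457242925503818131700395453942323425265512467169417625898563076656333904,
  571788941100429354972124580358609697596638228654100013152586645025918345]

def data2 : Data where
  p := 2
  n := 7
  syms := [
    169702807159894383095062805069772549046375503479262971863774902266147405,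
    799487162309180322797190726996993025913796086470215704555915400379936848,
    343919667732218827209469798467851182229603000395216983571859856295528493,
    739490520546264503978615354753686669035413375905416860428527830899444102,
    397906362443624083507237989394432524214121297269853578281014323187359782,
    344528928957981671725484985000004437234156112129911616023096568446525728,
    397965177288163339112882490038879577425244539072715512518543724878831904,
    457851694462049403372413760459698169391169196783611173756446348754166352,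
    1080236960182729318118218757934209337062634172913366951957534467680639076]
  rules := [
    ([0, 0], [5, 6]),
    ([1, 1], [3]),
    ([2, 2], []),
    ([3, 3], [5]),
    ([4, 4], []),
    ([5, 5], []),
    ([6, 6], []),
    ([1, 0], [0, 1, 3, 6]),
    ([2, 0], [0, 2, 6]),
    ([2, 1], [1, 2, 4]),
    ([3, 0], [0, 3, 5]),
    ([3, 1], [1, 3]),
    ([3, 2], [2, 3, 6]),
    ([4, 0], [0, 4, 6]),
    ([4, 1], [1, 4, 6]),
    ([4, 2], [2, 4]),
    ([4, 3], [3, 4]),
    ([5, 0], [0, 5]),
    ([5, 1], [1, 5]),
    ([5, 2], [2, 5]),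
    ([5, 3], [3, 5]),
    ([5, 4], [4, 5]),
    ([6, 0], [0, 6]),
    ([6, 1], [1, 6]),
    ([6, 2], [2, 6]),
    ([6, 3], [3, 6]),
    ([6, 4], [4, 6]),
    ([6, 5], [5, 6]),
    ([7, 0], [0, 2, 3, 5, 6, 7]),
    ([7, 2], [4, 5, 7]),
    ([7, 3], [0, 4, 6, 7]),
    ([7, 5, 6], [5, 6, 7]),
    ([7, 6], [6, 7]),
    ([8, 0, 1, 3, 6], [2, 4, 6, 8]),
    ([8, 3], [0, 1, 2, 3, 8]),
    ([8, 4, 6], [5, 8]),
    ([8, 5, 6], [5, 6, 8]),
    ([8, 6], [4, 5, 6, 8])]
  defs := [(1, 3), (9, 4), (3, 5), (12, 6)]
  targets := [0, 2, 4, 5, 6, 7, 8, 10, 11, 13, 14, 15, 16, 17, 18, 19, 20, 21, 22, 23, 24, 25, 26, 27]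
  paths := [
    ([2, 1, 0], [(0, 9, true), (2, 13, true), (1, 8, true), (0, 7, true), (3, 24, true), (2, 12, true), (4, 6, true), (4, 26, true), (5, 6, true), (5, 6, false), (3, 16, false), (4, 25, false), (1, 9, false), (2, 23, false), (0, 8, false), (1, 7, false)]),
    ([3, 1, 0], [(0, 11, true), (1, 10, true), (0, 7, true), (3, 25, true), (2, 3, true), (3, 27, true), (2, 5, true), (2, 5, false), (2, 3, false), (3, 20, false), (1, 11, false), (2, 18, false), (0, 10, false), (1, 7, false)]),
    ([3, 2, 0], [(0, 12, true), (2, 22, true), (1, 10, true), (0, 8, true), (2, 25, true), (3, 27, true), (4, 6, true), (4, 6, false), (3, 27, false), (1, 12, false), (2, 19, false), (0, 10, false), (1, 8, false)]),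
    ([3, 2, 1], [(0, 12, true), (2, 23, true), (1, 11, true), (0, 9, true), (2, 16, true), (3, 26, false), (1, 12, false), (0, 11, false), (1, 9, false)]),
    ([4, 1, 0], [(0, 14, true), (2, 22, true), (1, 13, true), (0, 7, true), (3, 26, true), (4, 6, true), (2, 16, false), (3, 6, false), (1, 14, false), (2, 23, false), (0, 13, false), (1, 7, false)]),
    ([4, 2, 0], [(0, 15, true), (1, 13, true), (0, 8, true), (2, 26, true), (3, 6, true), (3, 6, false), (1, 15, false), (2, 24, false), (0, 13, false), (1, 8, false)]),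
    ([4, 3, 0], [(0, 16, true), (1, 13, true), (0, 10, true), (2, 21, true), (3, 27, false), (1, 16, false), (2, 25, false), (0, 13, false), (1, 10, false)]),
    ([4, 3, 1], [(0, 16, true), (1, 14, true), (0, 11, true), (1, 16, false), (2, 25, false), (0, 14, false), (1, 11, false)]),
    ([4, 3, 2], [(0, 16, true), (1, 15, true), (0, 12, true), (2, 26, true), (1, 16, false), (0, 15, false), (1, 12, false)]),
    ([5, 1, 0], [(0, 18, true), (1, 17, true), (0, 7, true), (3, 27, true), (2, 20, false), (1, 18, false), (0, 17, false), (1, 7, false)]),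
    ([5, 2, 0], [(0, 19, true), (1, 17, true), (0, 8, true), (2, 27, true), (1, 19, false), (0, 17, false), (1, 8, false)]),
    ([0, 0, 0], [(0, 0, true), (1, 22, true), (0, 17, true), (1, 0, false)]),
    ([1, 1, 0], [(0, 1, true), (0, 10, true), (3, 6, false), (1, 20, false), (2, 25, false), (1, 3, false), (1, 1, false), (2, 11, false), (3, 23, false), (0, 7, false), (1, 7, false)]),
    ([1, 0, 0], [(0, 7, true), (3, 22, true), (2, 10, true), (1, 7, true), (0, 0, true), (1, 23, true), (0, 18, true), (2, 25, true), (1, 20, true), (3, 6, true), (2, 20, true), (1, 3, true), (1, 5, true), (1, 0, false)]),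
    ([1, 1, 1], [(0, 1, true), (0, 11, true), (1, 1, false)]),
    ([2, 2, 0], [(0, 2, true), (1, 6, false), (1, 2, false), (2, 24, false), (0, 8, false), (1, 8, false)]),
    ([2, 2, 1], [(0, 2, true), (1, 4, false), (1, 2, false), (2, 15, false), (0, 9, false), (1, 9, false)]),
    ([2, 1, 1], [(0, 9, true), (2, 14, true), (1, 9, true), (0, 1, true), (0, 12, true), (2, 26, true), (3, 26, true), (2, 4, true), (2, 6, true), (1, 1, false)]),
    ([7, 0, 0], [(0, 28, true), (5, 28, true), (4, 22, true), (3, 17, true), (2, 10, true), (1, 8, true), (0, 0, true), (1, 24, true), (0, 19, true), (2, 6, true), (1, 20, true), (2, 5, true), (3, 24, true), (2, 19, true), (1, 12, true), (0, 2, true), (1, 27, true), (2, 6, true), (1, 20, true), (0, 3, true), (0, 5, true), (0, 31, false), (1, 0, false)]),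
    ([7, 2, 0], [(0, 29, true), (2, 28, true), (1, 17, true), (0, 13, true), (2, 27, true), (3, 24, true), (2, 19, true), (1, 15, true), (4, 25, true), (3, 20, true), (2, 16, true), (5, 27, true), (4, 5, true), (4, 6, true), (4, 6, false), (4, 5, false), (5, 27, false), (3, 21, false), (4, 26, false), (7, 32, false), (5, 29, false), (0, 28, false), (1, 8, false)]),
    ([7, 2, 2], [(0, 29, true), (2, 29, true), (1, 21, true), (0, 4, true), (0, 5, true), (1, 2, false)]),
    ([7, 3, 0], [(0, 30, true), (3, 28, true), (2, 22, true), (1, 13, true), (0, 0, true), (1, 26, true), (0, 21, true), (2, 6, true), (2, 24, true), (1, 19, true), (0, 15, true), (3, 25, true), (2, 20, true), (1, 16, true), (4, 27, true), (3, 5, true), (3, 6, true), (3, 6, false), (3, 5, false), (4, 6, false), (2, 21, false), (3, 26, false), (2, 5, false), (1, 20, false), (2, 6, false), (0, 19, false), (1, 24, false), (0, 0, false), (1, 8, false), (2, 10, false), (3, 17, false), (4, 22, false), (10, 32, false), (8, 31, false), (5, 30, false), (0, 28, false), (4, 6, true),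 (1, 10, false)]),
    ([7, 3, 3], [(0, 30, true), (3, 30, true), (2, 22, true), (1, 13, true), (0, 0, true), (1, 26, true), (0, 21, true), (2, 6, true), (2, 26, true), (1, 21, true), (0, 4, true), (1, 6, true), (1, 6, false), (2, 32, false), (0, 31, false), (2, 6, true), (1, 3, false)]),
    ([8, 0, 1, 3, 6, 0, 1, 3, 6], [(0, 33, true), (3, 33, true), (2, 24, true), (1, 15, true), (0, 2, true), (1, 26, true), (0, 4, true), (0, 6, true), (1, 6, false), (1, 5, false), (1, 3, false), (2, 20, false), (3, 25, false), (1, 1, false), (2, 18, false), (3, 23, false), (2, 5, false), (2, 3, false), (3, 20, false), (4, 6, false), (2, 20, false), (3, 25, false), (1, 18, false), (2, 23, false), (1, 0, false), (2, 7, false), (3, 10, false), (4, 22, false)]),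
    ([8, 3, 0, 1, 3, 6], [(0, 34, true), (4, 33, true), (3, 12, true), (2, 2, true), (3, 26, true), (4, 6, true), (4, 6, false), (4, 5, false), (5, 27, false), (3, 21, false), (4, 26, false), (2, 2, false), (3, 6, false), (3, 4, false), (1, 9, false), (2, 14, false), (3, 23, false), (3, 6, false), (2, 26, false), (0, 8, false), (1, 13, false), (2, 22, false), (9, 37, false), (7, 36, false), (3, 34, false), (0, 33, false), (4, 25, true), (3, 3, true), (4, 27, true), (3, 5, true), (3, 6, true), (3, 5, false), (3, 3, false), (4, 20, false), (2, 11, false), (3, 18, false), (1, 10, false)]),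
    ([8, 3, 3], [(0, 34, true), (4, 34, true), (3, 10, true), (2, 8, true), (1, 7, true), (0, 0, true), (1, 23, true), (0, 18, true), (2, 25, true), (1, 20, true), (3, 6, true), (2, 19, true), (1, 12, true), (3, 27, true), (4, 6, true), (3, 20, true), (2, 3, true), (2, 5, true), (2, 18, true), (1, 9, true), (0, 1, true), (0, 12, true), (2, 26, true), (3, 27, true), (4, 24, true), (3, 19, true), (2, 15, true), (1, 12, true), (0, 2, true), (1, 26, true), (2, 27, true), (3, 6, true), (2, 20, true), (1, 16, true), (0, 3, true), (0, 21, true), (1, 5, true), (1, 6, false), (1, 5, false), (2, 27, false), (0, 21, false), (1, 26, false), (2, 37, false), (0, 36, false), (2, 6, true), (1, 3, false)]),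
    ([8, 4, 6, 0, 1, 3, 6], [(0, 35, true), (1, 33, true), (0, 19, true), (1, 21, true), (2, 27, false), (3, 35, false), (0, 33, false), (4, 26, true), (5, 6, true), (5, 6, false), (3, 16, false), (4, 25, false), (2, 14, false), (3, 6, false), (1, 13, false), (2, 22, false)])]
  combos := [
    [(0, 1), (2, 1), (3, 1), (5, 1), (6, 1), (8, 1), (9, 1), (12, 1), (13, 1), (15, 1), (16, 1), (17, 1), (18, 1), (19, 1), (20, 1), (22, 1), (23, 1), (24, 1), (25, 1)],
    [(0, 1), (3, 1), (4, 1), (5, 1), (8, 1), (9, 1), (10, 1), (13, 1), (14, 1), (17, 1), (20, 1), (23, 1), (24, 1), (25, 1)],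
    [(0, 1), (1, 1), (5, 1), (6, 1), (8, 1), (9, 1), (10, 1), (12, 1), (17, 1), (23, 1), (24, 1), (25, 1)],
    [(1, 1), (3, 1), (4, 1), (7, 1), (10, 1), (12, 1), (13, 1), (14, 1)],
    [(5, 1), (8, 1), (15, 1)],
    [(1, 1), (3, 1), (6, 1), (7, 1), (8, 1), (9, 1), (12, 1), (18, 1), (19, 1), (22, 1), (24, 1), (25, 1), (26, 1)],
    [(0, 1), (3, 1), (4, 1), (6, 1), (8, 1), (10, 1), (11, 1), (12, 1), (14, 1), (17, 1), (18, 1), (19, 1), (20, 1), (21, 1), (26, 1)],
    [(1, 1), (2, 1), (7, 1), (14, 1), (23, 1), (24, 1), (25, 1), (26, 1)],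
    [(14, 1)],
    [(0, 1), (3, 1), (7, 1), (15, 1)],
    [(0, 1), (1, 1), (6, 1), (9, 1), (10, 1), (12, 1), (15, 1), (23, 1), (24, 1), (25, 1)],
    [(0, 1), (1, 1), (5, 1), (6, 1), (8, 1), (9, 1), (10, 1), (12, 1), (16, 1), (17, 1), (23, 1), (24, 1), (25, 1)],
    [(1, 1), (2, 1), (3, 1), (5, 1), (9, 1), (10, 1), (12, 1), (15, 1), (23, 1), (24, 1), (25, 1), (26, 1)],
    [(3, 1), (4, 1), (11, 1)],
    [(1, 1), (7, 1), (9, 1)],
    [(2, 1), (3, 1), (4, 1), (7, 1)],
    [(9, 1), (10, 1)],
    [(6, 1), (7, 1), (10, 1)],
    [(3, 1), (4, 1)],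
    [(1, 1), (2, 1), (5, 1), (8, 1), (9, 1), (10, 1), (12, 1), (15, 1), (23, 1), (24, 1), (25, 1), (26, 1)],
    [(5, 1), (8, 1)],
    [(7, 1)],
    [(8, 1)],
    [(10, 1)]]
  sorted := [
    49, 18, 97, 66, 102, 21, 69, 54, 81, 114, 1, 34, 6, 117, 37, 86, 44, 31, 124, 79, 72, 43, 123, 24, 76, 127, 28, 47, 40, 75, 27, 120, 71, 84, 4, 23, 51, 112, 99, 32, 39, 52, 100, 119, 83, 16, 3, 64, 9, 10, 90, 89, 62, 109, 110, 61, 105, 106, 58, 57, 94, 13, 14, 93, 12, 63, 92, 111, 11, 104, 56, 91, 108, 95, 60, 15, 107, 8, 88, 59, 113, 82, 33, 2, 85, 38, 118, 5, 17, 50, 65, 98, 53, 70, 22, 101, 74, 73, 25, 26, 126, 45, 46, 125, 42, 41, 121, 122, 30, 77, 78, 29, 20, 7, 87, 68, 115, 48, 35, 96, 116, 103, 55, 36, 19, 80, 67, 0]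

def data3 : Data where
  p := 3
  n := 3
  syms := [
    55772626629313152672313854732195418767026765259548303235932873569912930,
    283529496487160893864807245131493593207146201572677934015252203151065234,
    1308380453756813029406222370795465050541251297046823167747659658698426624,
    283137760347973722433505271539404426218011037310036467492119795615549952]
  rules := [
    ([0, 0, 0], []),
    ([1, 1, 1], []),
    ([2, 2, 2], []),
    ([1, 0], [0, 1, 2]),
    ([2, 0], [0, 2]),
    ([2, 1], [1, 2]),
    ([3, 0], [0, 0, 2, 3]),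
    ([3, 1], [1, 1, 2, 2, 3]),
    ([3, 2], [2, 3])]
  defs := [(3, 2)]
  targets := [0, 1, 2, 4, 5]
  paths := [
    ([1, 1, 1, 0], [(0, 1, true), (1, 2, false), (1, 1, false), (3, 5, false), (4, 5, false), (2, 5, false), (0, 3, false), (1, 3, false), (2, 3, false)]),
    ([3, 0, 0, 0], [(0, 6, true), (3, 6, true), (6, 6, true), (2, 4, true), (0, 0, true), (0, 4, true), (2, 4, true), (1, 4, true), (3, 4, true), (2, 4, true), (0, 0, true), (0, 2, true), (1, 0, false)]),
    ([3, 1, 1, 1], [(0, 7, true), (4, 7, true), (8, 7, true), (3, 5, true), (2, 5, true), (0, 1, true), (1, 5, true), (0, 5, true), (1, 2, true), (1, 5, true), (2, 5, true), (0, 1, true), (0, 2, true), (1, 1, false)]),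
    ([3, 2, 0], [(0, 8, true), (1, 6, true), (0, 4, true), (1, 4, true), (3, 8, false), (0, 6, false), (1, 4, false)]),
    ([3, 2, 1], [(0, 8, true), (1, 7, true), (0, 5, true), (1, 5, true), (2, 2, true), (2, 2, false), (4, 8, false), (0, 7, false), (1, 5, false)])]
  combos := [
    [(0, 1), (1, 1)],
    [(0, 2), (2, 1)],
    [(0, 2)],
    [(3, 1)],
    [(4, 1)]]
  sorted := [
    15, 23, 14, 1, 24, 19, 6, 10, 5, 20, 16, 7, 3, 2, 21, 11, 12, 25, 22, 18, 9, 26, 4, 17, 13, 8, 0]

end H26.M12Schur
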