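import Cfsg.Agent.H26.ModCert
import Cfsg.Agent.H26.M23CohCodeData
import Cfsg.Agent.H26.M23CohCocodeData
import Cfsg.Agent.H97.SchurMathieu

/-!
Extensions of M23 by the eleven-dimensional code module split; by the cocode module there is at
most one non-split extension.
-/

set_option autoImplicit false
set_option maxRecDepth 100000

namespace H26.ModCert

open Cfsg H90
open H97.SchurCert (Coding permCoding evG evG_code)

/-- The coding of `M23`. -/
def C23 : Coding Spor.M23 compN idN := permCoding Spor.M23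

theorem idMat_self : ∀ n, xorSel (idMat 11) (xorSel (idMat 11) n) = xorSel (idMat 11) n := fun n => by
  rw [← xorSel_map, show (idMat 11).map (xorSel (idMat 11)) = idMat 11 by decide +kernel]

theorem xorSel_lt {k : ℕ} : ∀ (l : List ℕ) (n : ℕ), (∀ x ∈ l, x < 2 ^ k) → xorSel l n < 2 ^ k
  | [], n, _ => by simp [xorSel]
  | a :: l, n, h => by
    rw [xorSel]
    refine Nat.xor_lt_two_pow ?_ (xorSel_lt l _ fun x hx => h x (List.mem_cons_of_mem _ hx))
    split_ifs
    · exact h a List.mem_cons_self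
    · exact Nat.two_pow_pos k

/-- Two additive maps agree on selections once they agree on the selected vectors. -/
theorem xorSel_ext {X : Type*} [AddGroup X] (F G : ℕ → X) (hF : ∀ a b, F (a ^^^ b) = F a + F b)
    (hG : ∀ a b, G (a ^^^ b) = G a + G b) :
    ∀ (l l' : List ℕ) (n : ℕ), l.length = l'.length → (∀ q ∈ l.zip l', F q.1 = G q.2) →
      F (xorSel l n) = G (xorSel l' n) := by
  have hF0 : F 0 = 0 := by simpa using hF 0 0
  have hG0 : G 0 = 0 := by simpa using hG 0 0
  intro l
  induction l with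
  | nil =>
    intro l' n h _
    rw [List.length_nil, eq_comm, List.length_eq_zero_iff] at h
    subst h
    rw [xorSel_nil, hF0, hG0]
  | cons a l ih =>
    intro l' n h hq
    cases l' with
    | nil => simp at h
    | cons b l' =>
      simp only [List.length_cons, Nat.add_right_cancel_iff] at h
      simp only [List.zip_cons_cons, List.mem_cons, forall_eq_or_imp] at hq
      rw [xorSel, xorSel, hF, hG, ih l' _ h hq.2]
      split_ifs
      · rw [hq.1]
      · rw [hF0, hG0]

theorem wordOf_permMask {σ : Equiv.Perm GolayPt} {p : ℕ} (h : Repr σ p) (m : ℕ) :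
    wordOf (permMask p m) = wordOf m ∘ ⇑σ⁻¹ := by
  apply support₂_injective
  show support₂ (wordOf (permMask p m)) = support₂ (fun x => wordOf m (σ.symm x))
  rw [support₂_comp_symm, support₂_wordOf, support₂_wordOf, setOf'_permMask h]

theorem comp_xor (σ : Equiv.Perm GolayPt) (a b : ℕ) :
    wordOf (a ^^^ b) ∘ ⇑σ⁻¹ = wordOf a ∘ ⇑σ⁻¹ + wordOf b ∘ ⇑σ⁻¹ := by
  rw [wordOf_xor]; rfl

/-- The checks on the symbols and on the action matrices. -/
def symsOK (D : MData) (B : List ℕ) (eqv : ℕ → ℕ → Bool) : Bool :=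
  decide (D.acts.length = D.syms.length) &&
  (List.range D.syms.length).all fun s =>
    H87.mem23 (D.syms.getD s idN) &&
      packAux (fun i => img (D.syms.getD s idN) i) 24 == D.syms.getD s idN &&
      decide ((actAt D s).length = B.length) &&
      (B.zip (actAt D s)).all fun q => eqv (permMask (D.syms.getD s idN) q.1) (xorSel B q.2)

/-- The checks on a certificate. -/
def certOK (D : MData) : Bool :=
  linearOK D && pcOK D && rulesOK compN idN D && sizeOK compN idN D && decide (D.n = 7)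

theorem exists_lift {E : Type*} [Group E] {π : E →* Spor.M23} (hπ : Function.Surjective π)
    {D : MData} {B : List ℕ} {eqv : ℕ → ℕ → Bool} (h : symsOK D B eqv = true) :
    ∃ L : ℕ → E, ∀ s, C23.code (π (L s)) = D.syms.getD s idN := by
  simp only [symsOK, Bool.and_eq_true, List.all_eq_true, List.mem_range, beq_iff_eq,
    decide_eq_true_eq] at h
  have key : ∀ s, ∃ e : E, C23.code (π e) = D.syms.getD s idN := by
    intro s
    by_cases hs : s < D.syms.length
    · obtain ⟨⟨⟨hm, hc⟩, -⟩, -⟩ := h.2 s hs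
      obtain ⟨σ, hσ⟩ := H87.exists_of_mem23 hm
      obtain ⟨e, he⟩ := hπ σ
      exact ⟨e, by rw [he]; exact (H97.MOut.code_of_repr hσ).trans hc⟩
    · exact ⟨1, by rw [map_one, C23.map_one, List.getD_eq_default _ _ (Nat.le_of_not_lt hs)]⟩
  choose L hL using key
  exact ⟨L, hL⟩

/-- The action of a symbol on a module given by a surjection from words. -/
theorem act_of_check {X : Type*} [AddGroup X] (f : ℕ → X)
    (hf : ∀ a b, f (a ^^^ b) = f a + f b) {D : MData} {B : List ℕ} {eqv : ℕ → ℕ → Bool}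
    (h : symsOK D B eqv = true) (heqv : ∀ a b, eqv a b = true → f a = f b) {s : ℕ}
    (hs : s < D.syms.length) {σ : Spor.M23} (hσ : C23.code σ = D.syms.getD s idN)
    (cj : (GolayPt → ZMod 2) → X) (hcj : ∀ m, f m = cj (wordOf m))
    (hadd : ∀ v w, cj (v + w) = cj v + cj w) (n : ℕ) :
    cj (wordOf (xorSel B n) ∘ ⇑(σ : Equiv.Perm GolayPt)⁻¹) = f (xorSel B (xorSel (actAt D s) n)) := by
  simp only [symsOK, Bool.and_eq_true, List.all_eq_true, List.mem_range, beq_iff_eq,
    decide_eq_true_eq] at h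
  obtain ⟨⟨⟨hm, hc⟩, hlen⟩, hB⟩ := h.2 s hs
  have hr : Repr (σ : Equiv.Perm GolayPt) (D.syms.getD s idN) := by
    rw [← hσ]; exact H97.MOut.repr_code _
  refine xorSel_ext (fun m => cj (wordOf m ∘ ⇑(σ : Equiv.Perm GolayPt)⁻¹))
    (fun a => f (xorSel B a)) (fun a b => by rw [comp_xor, hadd])
    (fun a b => by rw [xorSel_xor, hf]) B (actAt D s) n hlen.symm fun q hq => ?_
  rw [← wordOf_permMask hr, ← hcj]
  exact heqv _ _ (hB q hq)

theorem toMul_xor_hom {X : Type*} [Group X] {N : Subgroup X} (f : ℕ → Additive N)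
    (hf : ∀ a b, f (a ^^^ b) = f a + f b) (a b : ℕ) :
    ((f (a ^^^ b)).toMul : X) = ((f a).toMul : X) * ((f b).toMul : X) := by
  rw [hf]; rfl

section code

theorem cert_code : certOK codeData = true := by decide +kernel

theorem syms_code : symsOK codeData codeDataB (fun a b => a == b) = true := by decide +kernel

theorem code_aux :
    (idMat 11).map (xorSel codeDataB) = codeDataB ∧ codeDataB.map (xorSel codeDataP) = idMat 11 ∧
      (codeDataB.all fun m => isCode m && !m.testBit 23 && decide (m < 2 ^ 24)) = true ∧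
      (List.range 4096).all (fun n => (encode n).testBit 23 ||
        xorSel codeDataB (xorSel codeDataP (encode n)) == encode n) = true := by decide +kernel

theorem natCard_M23_eq : Nat.card Spor.M23 = 2 ^ codeData.n * 79695 ∧
    Nat.card Spor.M23 = 2 ^ cocodeData.n * 79695 := by
  rw [H87.natCard_M23]; exact ⟨rfl, rfl⟩

/-- The code words vanishing at the extra point. -/
def subCode : Submodule (ZMod 2) (GolayPt → ZMod 2) where
  carrier := {w | w ∈ golayCode ∧ w none = 0}
  zero_mem' := ⟨zero_mem _, rfl⟩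
  add_mem' := fun {a b} ha hb => ⟨add_mem ha.1 hb.1, by simp [ha.2, hb.2]⟩
  smul_mem' := fun c a ha => ⟨Submodule.smul_mem _ c ha.1, by simp [ha.2]⟩

theorem split_code {E : Type*} [Group E] [Finite E] (N : Subgroup E) [hN : N.Normal]
    (φ : E ⧸ N ≃* ↥Spor.M23)
    (ψ : Additive ↥N →+ (GolayPt → ZMod 2)) (hinj : Function.Injective ψ)
    (hrange : ∀ w : GolayPt → ZMod 2, w ∈ Set.range ψ ↔ (w ∈ golayCode ∧ w none = 0))
    (hψ : ∀ (g : E) (n : ↥N),
      ψ (Additive.ofMul ⟨g * n * g⁻¹, hN.conj_mem n n.2 g⟩)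
        = ψ (Additive.ofMul n) ∘
          ⇑(((φ (QuotientGroup.mk g) : ↥Spor.M23) : Equiv.Perm GolayPt)⁻¹)) :
    ∃ H : Subgroup E, H ⊓ N = ⊥ ∧ H ⊔ N = ⊤ := by
  obtain ⟨hB, hBP, hmem, hall⟩ := code_aux
  have hsub : ∀ n, wordOf (xorSel codeDataB n) ∈ subCode := fun n =>
    wordOf_xorSel_mem _ _ fun r hr => by
      have := List.all_eq_true.1 hmem r hr
      simp only [Bool.and_eq_true, Bool.not_eq_true', decide_eq_true_eq] at this
      exact ⟨(wordOf_mem_iff this.2).2 this.1.1, by
        show wordOf r none = 0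
        simp [wordOf, idx, this.1.2]⟩
  choose u hu using fun n => (hrange _).2 (hsub n)
  have hu_xor : ∀ a b, u (a ^^^ b) = u a + u b := fun a b => hinj (by
    rw [map_add, hu, hu, hu, xorSel_xor, wordOf_xor])
  let π : E →* Spor.M23 := φ.toMonoidHom.comp (QuotientGroup.mk' N)
  have hπ : Function.Surjective π := φ.surjective.comp (QuotientGroup.mk'_surjective N)
  have hker : π.ker = N := by
    ext e
    show φ (QuotientGroup.mk e) = 1 ↔ e ∈ N
    rw [← map_one φ, φ.injective.eq_iff, QuotientGroup.eq_one_iff]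
  let v : ℕ → E := fun n => ((u n).toMul : E)
  have huI : ∀ n, u (xorSel (idMat 11) n) = u n := fun n => hinj (by
    rw [hu, hu, ← xorSel_map, hB])
  have hExt : Ext C23 codeData π v :=
    { surj := hπ
      v_xor := toMul_xor_hom u hu_xor
      trunc := fun n => by simp only [v, huI]
      mem := fun n => by
        have : v n ∈ π.ker := hker ▸ ((u n).toMul).2
        exact this
      onto := fun e he => by
        have heN : e ∈ N := hker ▸ (show e ∈ π.ker from he)
        obtain ⟨hw, hw0⟩ := (hrange _).1 ⟨Additive.ofMul ⟨e, heN⟩, rfl⟩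
        obtain ⟨n, hn, hne⟩ := mem_golayCode_iff.1 hw
        have hbit : (encode n).testBit 23 = false := by
          rw [hne] at hw0
          by_contra hb
          rw [Bool.not_eq_false] at hb
          simp [wordOf, idx, hb] at hw0
        have := List.all_eq_true.1 hall n (List.mem_range.2 hn)
        rw [hbit, Bool.false_or, beq_iff_eq] at this
        refine ⟨xorSel codeDataP (encode n), ?_⟩
        have e1 : u (xorSel codeDataP (encode n)) = Additive.ofMul ⟨e, heN⟩ := hinj (by
          rw [hu, this, hne])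
        simp only [v, e1]
        rfl
      inj := fun n hn => by
        have e1 : u n = 0 := Subtype.ext hn
        have hb : ∀ m ∈ codeDataB, m < 2 ^ 24 := fun m hm => by
          have := List.all_eq_true.1 hmem m hm
          simp only [Bool.and_eq_true, decide_eq_true_eq] at this
          exact this.2
        have e2 : xorSel codeDataB n = 0 := wordOf_injOn (xorSel_lt _ _ hb) (by norm_num)
          (by rw [← hu, e1, map_zero, wordOf_zero])
        rw [← hBP, xorSel_map, e2, xorSel_zero]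
      act := fun s hs g hg n => by
        have h1 := hψ g (u n).toMul
        rw [show Additive.ofMul (u n).toMul = u n from rfl, hu] at h1
        have h2 := act_of_check wordOf wordOf_xor syms_code
          (fun a b e => by rw [beq_iff_eq.1 e]) hs hg id (fun _ => rfl) (fun _ _ => rfl) n
        simp only [id] at h2
        rw [show (((φ (QuotientGroup.mk g)) : ↥Spor.M23) : Equiv.Perm GolayPt) =
          (π g : Equiv.Perm GolayPt) from rfl, h2, ← hu] at h1
        have h3 := congrArg (fun y : Additive N => (y.toMul : E)) (hinj h1)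
        simp only [toMul_ofMul] at h3
        show g * v n = v _ * g
        rw [show v (xorSel (actAt codeData s) n) = g * v n * g⁻¹ from h3.symm, inv_mul_cancel_right]
      alen := by decide +kernel }
  obtain ⟨L, hL⟩ := exists_lift hπ syms_code
  have hc := cert_code
  simp only [certOK, Bool.and_eq_true, decide_eq_true_eq] at hc
  obtain ⟨⟨⟨⟨hlin, hpc⟩, hrules⟩, hsize⟩, -⟩ := hc
  obtain ⟨x, hx⟩ := hExt.exists_factor hrules hL
  have hcls : codeData.cls = [] := by decide +kernel
  obtain ⟨H, h1, h2⟩ := hExt.exists_complement hlin hpc hsize natCard_M23_eq.1 (by norm_num)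
    hL hx (by rw [Ext.cls, hcls]; rfl)
  exact ⟨H, by rwa [hker] at h1, by rwa [hker] at h2⟩

end code

section cocode

theorem cert_cocode : certOK cocodeData = true := by decide +kernel

/-- Equality of masks modulo the code and the extra point. -/
def eqvC (a b : ℕ) : Bool :=
  decide (a ^^^ b < 2 ^ 24) && (isCode (a ^^^ b) || isCode (a ^^^ b ^^^ 2 ^ 23))

theorem syms_cocode : symsOK cocodeData cocodeDataB eqvC = true := by decide +kernel

theorem cocode_aux :
    (idMat 11).map (xorSel cocodeDataB) = cocodeDataB ∧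
      cocodeDataB.map (xorSel cocodeDataP) = idMat 11 ∧
      (rows.map (xorSel cocodeDataP)).all (fun x => x == 0) = true ∧
      xorSel cocodeDataP (2 ^ 23) = 0 ∧
      (cocodeDataB.all fun m => decide (m < 2 ^ 24)) = true ∧
      (List.range 24).all (fun j =>
        eqvC (2 ^ j) (xorSel cocodeDataB (xorSel cocodeDataP (2 ^ j)))) = true := by decide +kernel

theorem wordOf_two_pow : ∀ j : Fin 24, ∀ q : GolayPt,
    wordOf (2 ^ j.val) q = (Pi.single (pt j) 1 : GolayPt → ZMod 2) q := by decide +kernel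

/-- A surjection from words onto a normal subgroup gives an extension for the certificate. -/
theorem cocode_ext {E : Type*} [Group E] (N : Subgroup E) [N.Normal]
    (φ : E ⧸ N ≃* ↥Spor.M23) (θ : (GolayPt → ZMod 2) →+ Additive ↥N)
    (hsurj : Function.Surjective θ)
    (hker : ∀ w : GolayPt → ZMod 2,
      θ w = 0 ↔ (w ∈ golayCode ∨ w + Pi.single none 1 ∈ golayCode))
    (hθ : ∀ (g : E) (w : GolayPt → ZMod 2),
      ((θ (w ∘ ⇑(((φ (QuotientGroup.mk g) : ↥Spor.M23) : Equiv.Perm GolayPt)⁻¹))).toMul : E)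
        = g * ((θ w).toMul : E) * g⁻¹) :
    Ext C23 cocodeData (φ.toMonoidHom.comp (QuotientGroup.mk' N))
        (fun n => ((θ (wordOf (xorSel cocodeDataB n))).toMul : E)) ∧
      (φ.toMonoidHom.comp (QuotientGroup.mk' N)).ker = N := by
  obtain ⟨hB, hBP, hP, hP23, hlt, hunit⟩ := cocode_aux
  set π : E →* Spor.M23 := φ.toMonoidHom.comp (QuotientGroup.mk' N) with hπdef
  have hk : π.ker = N := by
    ext e
    show φ (QuotientGroup.mk e) = 1 ↔ e ∈ N
    rw [← map_one φ, φ.injective.eq_iff, QuotientGroup.eq_one_iff]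
  let f : ℕ → Additive N := fun m => θ (wordOf m)
  have hf : ∀ a b, f (a ^^^ b) = f a + f b := fun a b => by simp only [f, wordOf_xor, map_add]
  have hsingle : Pi.single none 1 = wordOf (2 ^ 23) :=
    funext fun q => ((wordOf_two_pow 23) q).symm
  have heqv : ∀ a b, eqvC a b = true → f a = f b := by
    intro a b h
    simp only [eqvC, Bool.and_eq_true, Bool.or_eq_true, decide_eq_true_eq] at h
    have h0 : θ (wordOf (a ^^^ b)) = 0 := by
      rw [hker, hsingle, ← wordOf_xor]
      rcases h.2 with h' | h'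
      · exact Or.inl ((wordOf_mem_iff h.1).2 h')
      · exact Or.inr ((wordOf_mem_iff (Nat.xor_lt_two_pow h.1 (by norm_num))).2 h')
    have e2 := hf (a ^^^ b) b
    rw [Nat.xor_assoc, Nat.xor_self, Nat.xor_zero] at e2
    rw [e2, show f (a ^^^ b) = 0 from h0, zero_add]
  have hfP : ∀ m, m < 2 ^ 24 → θ (wordOf m) = 0 → xorSel cocodeDataP m = 0 := by
    intro m hm h
    have hP0 : ∀ n, xorSel cocodeDataP (encode n) = 0 := fun n => by
      rw [encode, ← xorSel_map]
      exact xorSel_all_zero _ _ fun x hx => beq_iff_eq.1 (List.all_eq_true.1 hP x hx)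
    rw [hker, hsingle, ← wordOf_xor] at h
    rcases h with h | h
    · obtain ⟨n, hn, e⟩ := mem_golayCode_iff.1 h
      rw [wordOf_injOn hm (encode_lt hn) e, hP0]
    · obtain ⟨n, hn, e⟩ := mem_golayCode_iff.1 h
      have e' := wordOf_injOn (Nat.xor_lt_two_pow hm (by norm_num)) (encode_lt hn) e
      have e'' := congrArg (xorSel cocodeDataP) e'
      rwa [xorSel_xor, hP23, hP0, Nat.xor_zero] at e''
  refine ⟨{ surj := φ.surjective.comp (QuotientGroup.mk'_surjective N)
            v_xor := toMul_xor_hom (fun n => f (xorSel cocodeDataB n))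
              (fun a b => by rw [xorSel_xor, hf])
            trunc := fun n => by rw [← xorSel_map, hB]
            mem := fun n => ?_
            onto := fun e he => ?_
            inj := fun n hn => ?_
            act := fun s hs g hg n => ?_
            alen := by decide +kernel }, hk⟩
  · show ((θ (wordOf (xorSel cocodeDataB n))).toMul : E) ∈ π.ker
    rw [hk]; exact Subtype.coe_prop _
  · have heN : e ∈ N := hk ▸ (show e ∈ π.ker from he)
    obtain ⟨w, hw⟩ := hsurj (Additive.ofMul ⟨e, heN⟩)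
    let R : AddSubmonoid (GolayPt → ZMod 2) :=
      { carrier := {w | ∃ n, θ (wordOf (xorSel cocodeDataB n)) = θ w}
        zero_mem' := ⟨0, by rw [xorSel_zero, wordOf_zero]⟩
        add_mem' := by
          rintro a b ⟨i, hi⟩ ⟨j, hj⟩
          exact ⟨i ^^^ j, by rw [xorSel_xor, wordOf_xor, map_add, map_add, hi, hj]⟩ }
    have hRw : w ∈ R := by
      rw [← Finset.univ_sum_single w]
      refine R.sum_mem fun q _ => ?_
      rcases zmod2_cases (w q) with h0 | h0 <;> rw [h0]
      · rw [Pi.single_zero]; exact R.zero_mem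
      · obtain ⟨j, rfl⟩ : ∃ j, pt j = q := ⟨idx q, pt_idx q⟩
        refine ⟨xorSel cocodeDataP (2 ^ j.val), ?_⟩
        rw [← show wordOf (2 ^ j.val) = Pi.single (pt j) 1 from funext (wordOf_two_pow j)]
        exact (heqv _ _ (List.all_eq_true.1 hunit j.val (List.mem_range.2 j.isLt))).symm
    obtain ⟨n, hn⟩ := hRw
    exact ⟨n, by simp only [hn, hw]; rfl⟩
  · have e0 : θ (wordOf (xorSel cocodeDataB n)) = 0 := Subtype.ext hn
    have := hfP _ (xorSel_lt _ _ fun m hm => by
      simpa using List.all_eq_true.1 hlt m hm) e0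
    rwa [← xorSel_map, hBP] at this
  · have h1 := hθ g (wordOf (xorSel cocodeDataB n))
    have h2 := act_of_check f hf syms_cocode heqv hs hg θ (fun _ => rfl) (map_add θ) n
    rw [show (((φ (QuotientGroup.mk g)) : ↥Spor.M23) : Equiv.Perm GolayPt) =
          (π g : Equiv.Perm GolayPt) from rfl, h2] at h1
    show g * ((θ (wordOf (xorSel cocodeDataB n))).toMul : E) = _
    simp only [f] at h1
    rw [h1, inv_mul_cancel_right]

variable {E E' : Type*} [Group E] [Group E'] {π : E →* Spor.M23} {π' : E' →* Spor.M23}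
  {v : ℕ → E} {v' : ℕ → E'}

theorem nonempty_iso [Finite E] [Finite E'] (h : Ext C23 cocodeData π v)
    (h' : Ext C23 cocodeData π' v')
    (hns : ∀ H : Subgroup E, H ⊓ π.ker = ⊥ → H ⊔ π.ker ≠ ⊤)
    (hns' : ∀ H : Subgroup E', H ⊓ π'.ker = ⊥ → H ⊔ π'.ker ≠ ⊤)
    (hconj : ∀ g g', π g = π' g' → ∀ n, ∃ m, g * v n * g⁻¹ = v m ∧ g' * v' n * g'⁻¹ = v' m) :
    Nonempty (E ≃* E') := by
  have hc := cert_cocode
  simp only [certOK, Bool.and_eq_true, decide_eq_true_eq] at hc
  obtain ⟨⟨⟨⟨hlin, hpc⟩, hrules⟩, hsize⟩, -⟩ := hc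
  obtain ⟨L, hL⟩ := exists_lift h.surj syms_cocode
  obtain ⟨L', hL'⟩ := exists_lift h'.surj syms_cocode
  obtain ⟨x, hx⟩ := h.exists_factor hrules hL
  obtain ⟨x', hx'⟩ := h'.exists_factor hrules hL'
  have hcard := natCard_M23_eq.2
  have c1 : Ext.cls cocodeData x = 1 := by
    rcases Nat.mod_two_eq_zero_or_one (evF x cocodeData.cls) with e | e
    · obtain ⟨H, h1, h2⟩ := h.exists_complement hlin hpc hsize hcard (by norm_num) hL hx e
      exact absurd h2 (hns H h1)
    · exact e
  have c2 : Ext.cls cocodeData x' = 1 := by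
    rcases Nat.mod_two_eq_zero_or_one (evF x' cocodeData.cls) with e | e
    · obtain ⟨H, h1, h2⟩ := h'.exists_complement hlin hpc hsize hcard (by norm_num) hL' hx' e
      exact absurd h2 (hns' H h1)
    · exact e
  -- the fibre product and its quotient by the anti-diagonal copy of the module
  let F : Subgroup (E × E') :=
    MonoidHom.eqLocus (π.comp (MonoidHom.fst E E')) (π'.comp (MonoidHom.snd E E'))
  let K : Subgroup F :=
    { carrier := {p | ∃ n, (p : E × E') = (v n, v' n)}
      one_mem' := ⟨0, by rw [h.v_zero, h'.v_zero]; rfl⟩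
      mul_mem' := by
        rintro p q ⟨a, ha⟩ ⟨b, hb⟩
        exact ⟨a ^^^ b, by rw [Subgroup.coe_mul, ha, hb, h.v_xor, h'.v_xor]; rfl⟩
      inv_mem' := by
        rintro p ⟨a, ha⟩
        refine ⟨a, ?_⟩
        rw [Subgroup.coe_inv, ha]
        exact Prod.ext (inv_eq_of_mul_eq_one_right (h.v_sq a))
          (inv_eq_of_mul_eq_one_right (h'.v_sq a)) }
  let πF : F →* Spor.M23 := π.comp ((MonoidHom.fst E E').comp F.subtype)
  have hFsnd : ∀ p : F, π' (p : E × E').2 = πF p := fun p => p.2.symm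
  have hFsurj : Function.Surjective πF := fun σ => by
    obtain ⟨a, ha⟩ := h.surj σ
    obtain ⟨b, hb⟩ := h'.surj σ
    exact ⟨⟨(a, b), ha.trans hb.symm⟩, ha⟩
  -- the kernel of the fibre product is the square of the module
  have hFker : ∀ p : F, πF p = 1 → ∃ a b, (p : E × E') = (v a, v' b) := fun p hp => by
    obtain ⟨a, ha⟩ := h.onto _ (show π (p : E × E').1 = 1 from hp)
    obtain ⟨b, hb⟩ := h'.onto _ ((hFsnd p).trans hp)
    exact ⟨a, b, by rw [ha, hb]⟩
  -- conjugation moves both coordinates of the module alike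
  haveI hKn : K.Normal := ⟨fun p hp g => by
    obtain ⟨n, hn⟩ := hp
    obtain ⟨m, h1, h2⟩ := hconj (g : E × E').1 (g : E × E').2 g.2 n
    exact ⟨m, by rw [Subgroup.coe_mul, Subgroup.coe_mul, Subgroup.coe_inv, hn]; exact Prod.ext h1 h2⟩⟩
  have hKker : K ≤ πF.ker := fun p ⟨n, hn⟩ => by
    show π (p : E × E').1 = 1
    rw [hn]; exact h.mem n
  let π'' : F ⧸ K →* Spor.M23 := QuotientGroup.lift K πF hKker
  let vF : ℕ → F := fun n => ⟨(v n, 1), (h.mem n).trans (map_one π').symm⟩
  have hvF : ∀ a b, vF (a ^^^ b) = vF a * vF b := fun a b => Subtype.ext (Prod.ext (h.v_xor a b)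
    (one_mul 1).symm)
  have h'' : Ext C23 cocodeData π'' (fun n => (vF n : F ⧸ K)) :=
    { surj := fun σ => by
        obtain ⟨p, hp⟩ := hFsurj σ
        exact ⟨p, hp⟩
      v_xor := fun a b => by rw [hvF]; rfl
      trunc := fun n => by
        have : vF (xorSel (idMat 11) n) = vF n := Subtype.ext (Prod.ext (h.trunc n) rfl)
        rw [this]
      mem := h.mem
      onto := fun q hq => by
        induction q using QuotientGroup.induction_on with
        | _ p =>
          obtain ⟨a, b, hab⟩ := hFker p hq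
          refine ⟨a ^^^ b, QuotientGroup.eq.2 ⟨b, ?_⟩⟩
          rw [Subgroup.coe_mul, Subgroup.coe_inv, hab]
          refine Prod.ext ?_ (by simp [vF])
          show (v (a ^^^ b))⁻¹ * v a = v b
          rw [inv_mul_eq_iff_eq_mul, ← h.v_xor, Nat.xor_assoc, Nat.xor_self, Nat.xor_zero]
      inj := fun n hn => by
        obtain ⟨m, hm⟩ := (QuotientGroup.eq_one_iff _).1 hn
        have e1 : v n = v m := congrArg Prod.fst hm
        have e2 : xorSel (idMat 11) m = 0 := h'.inj m (congrArg Prod.snd hm).symm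
        refine h.inj n ?_
        rw [e1, ← h.trunc, e2, h.v_zero]
      act := fun s hs q hq n => by
        induction q using QuotientGroup.induction_on with
        | _ p =>
          have e1 := h.act s hs (p : E × E').1 hq n
          rw [← QuotientGroup.mk_mul, ← QuotientGroup.mk_mul]
          congr 1
          exact Subtype.ext (Prod.ext e1 (by simp [vF]))
      alen := h.alen }
  let L'' : ℕ → F := fun s =>
    ⟨(L s, L' s), C23.inj ((hL s).trans (hL' s).symm)⟩
  have hL'' : h''.IsLift (fun s => (L'' s : F ⧸ K)) := hL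
  have hx'' : h''.IsFactor (fun s => (L'' s : F ⧸ K)) (fun r => x r ^^^ x' r) := by
    intro r
    have m1 : ∀ w, evG (fun s => (L'' s : F ⧸ K)) w = ((evG L'' w : F) : F ⧸ K) := fun w =>
      (H97.SchurCert.map_evG (QuotientGroup.mk' K) L'' w).symm
    have p1 : ∀ w, ((evG L'' w : F) : E × E').1 = evG L w := fun w =>
      H97.SchurCert.map_evG ((MonoidHom.fst E E').comp F.subtype) L'' w
    have p2 : ∀ w, ((evG L'' w : F) : E × E').2 = evG L' w := fun w =>
      H97.SchurCert.map_evG ((MonoidHom.snd E E').comp F.subtype) L'' w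
    let κ : F := ⟨(v (x' r), v' (x' r)), (h.mem _).trans (h'.mem _).symm⟩
    have e : evG L'' (ruleAt cocodeData r).1 =
        vF (x r ^^^ x' r) * κ * evG L'' (ruleAt cocodeData r).2 := by
      refine Subtype.ext (Prod.ext ?_ ?_)
      · rw [p1, hx r, Subgroup.coe_mul, Subgroup.coe_mul, Prod.fst_mul, Prod.fst_mul, p1]
        show _ = v (x r ^^^ x' r) * v (x' r) * _
        rw [← h.v_xor, Nat.xor_assoc, Nat.xor_self, Nat.xor_zero]
      · rw [p2, hx' r, Subgroup.coe_mul, Subgroup.coe_mul, Prod.snd_mul, Prod.snd_mul, p2]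
        show _ = 1 * v' (x' r) * _
        rw [one_mul]
    rw [m1, m1, e, QuotientGroup.mk_mul, QuotientGroup.mk_mul,
      (QuotientGroup.eq_one_iff (N := K) κ).2 ⟨x' r, rfl⟩, mul_one]
  haveI : Finite (F ⧸ K) := inferInstance
  obtain ⟨H, hH1, hH2⟩ := h''.exists_complement hlin hpc hsize hcard (by norm_num) hL'' hx''
    (by rw [Ext.cls_xor, c1, c2])
  -- the complement is the graph of an isomorphism
  let J : Subgroup F := H.comap (QuotientGroup.mk' K)
  have hJ1 : ∀ p ∈ J, πF p = 1 → (p : E × E') = 1 ∨ ((p : E × E').1 ≠ 1 ∧ (p : E × E').2 ≠ 1) := by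
    intro p hp hp1
    have h0 : (p : F ⧸ K) = 1 := by
      have : (p : F ⧸ K) ∈ H ⊓ π''.ker := ⟨hp, hp1⟩
      rwa [hH1] at this
    obtain ⟨m, hm⟩ := (QuotientGroup.eq_one_iff p).1 h0
    rw [hm]
    by_cases hm0 : xorSel (idMat 11) m = 0
    · left
      rw [← h.trunc, ← h'.trunc, hm0, h.v_zero, h'.v_zero]
      rfl
    · right
      exact ⟨fun e => hm0 (h.inj m e), fun e => hm0 (h'.inj m e)⟩
  have hdec : ∀ p : F, ∃ n, p * vF n ∈ J := by
    intro p
    have hp : (p : F ⧸ K) ∈ H ⊔ π''.ker := by rw [hH2]; trivial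
    rw [← SetLike.mem_coe, Subgroup.mul_normal] at hp
    obtain ⟨y, hy, z, hz, e⟩ := Set.mem_mul.1 hp
    obtain ⟨n, rfl⟩ := h''.onto z hz
    refine ⟨n, ?_⟩
    show ((p * vF n : F) : F ⧸ K) ∈ H
    rw [QuotientGroup.mk_mul, ← e, mul_assoc, h''.v_sq n, mul_one]
    exact hy
  have hleft : ∀ a : E, ∃ b : E', ∃ p ∈ J, (p : E × E') = (a, b) := by
    intro a
    obtain ⟨b, hb⟩ := h'.surj (π a)
    obtain ⟨n, hn⟩ := hdec ⟨(a, b), hb.symm⟩
    let κ : F := ⟨(v n, v' n), (h.mem _).trans (h'.mem _).symm⟩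
    have hκ : κ ∈ J := by
      show (κ : F ⧸ K) ∈ H
      rw [(QuotientGroup.eq_one_iff (N := K) κ).2 ⟨n, rfl⟩]
      exact one_mem _
    refine ⟨_, _, mul_mem hn hκ, Prod.ext ?_ rfl⟩
    show a * v n * v n = a
    rw [mul_assoc, h.v_sq, mul_one]
  have hright : ∀ b : E', ∃ a : E, ∃ p ∈ J, (p : E × E') = (a, b) := by
    intro b
    obtain ⟨a, ha⟩ := h.surj (π' b)
    obtain ⟨n, hn⟩ := hdec ⟨(a, b), ha⟩
    exact ⟨_, _, hn, Prod.ext rfl (mul_one b)⟩
  choose f P hPJ hP using hleft
  have huniq : ∀ {a : E} {p : F}, p ∈ J → (p : E × E').1 = a → (p : E × E').2 = f a := by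
    intro a p hp hpa
    have hq := mul_mem (inv_mem (hPJ a)) hp
    have h1 : ((((P a)⁻¹ * p : F)) : E × E').1 = 1 := by
      rw [Subgroup.coe_mul, Subgroup.coe_inv, hP, Prod.fst_mul, Prod.fst_inv, hpa, inv_mul_cancel]
    rcases hJ1 _ hq ((congrArg π h1).trans (map_one π)) with e | e
    · have e2 := congrArg Prod.snd e
      rw [Subgroup.coe_mul, Subgroup.coe_inv, hP, Prod.snd_mul, Prod.snd_inv] at e2
      exact (inv_mul_eq_one.1 e2).symm
    · exact absurd h1 e.1
  let Φ : E →* E' := MonoidHom.mk' f fun a b => by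
    have := huniq (a := a * b) (mul_mem (hPJ a) (hPJ b))
      (by rw [Subgroup.coe_mul, hP, hP]; rfl)
    rw [Subgroup.coe_mul, hP, hP] at this
    exact this.symm
  refine ⟨MulEquiv.ofBijective Φ ⟨(injective_iff_map_eq_one Φ).2 fun a ha => ?_, fun b => ?_⟩⟩
  · have h2 : (P a : E × E').2 = 1 := by rw [hP]; exact ha
    rcases hJ1 _ (hPJ a) (((P a).2.trans (congrArg π' h2)).trans (map_one π')) with e | e
    · rw [hP] at e; exact congrArg Prod.fst e
    · exact absurd h2 e.2
  · obtain ⟨a, p, hp, e⟩ := hright b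
    refine ⟨a, ?_⟩
    have := huniq hp (congrArg Prod.fst e)
    rw [e] at this
    exact this.symm

/-- Uniqueness of the non-split extension by the cocode module. -/
theorem cocode_unique {E : Type*} [Group E] [Finite E] (N : Subgroup E) [N.Normal]
    (φ : E ⧸ N ≃* ↥Spor.M23) (θ : (GolayPt → ZMod 2) →+ Additive ↥N)
    (hsurj : Function.Surjective θ)
    (hker : ∀ w : GolayPt → ZMod 2,
      θ w = 0 ↔ (w ∈ golayCode ∨ w + Pi.single none 1 ∈ golayCode))
    (hθ : ∀ (g : E) (w : GolayPt → ZMod 2),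
      ((θ (w ∘ ⇑(((φ (QuotientGroup.mk g) : ↥Spor.M23) : Equiv.Perm GolayPt)⁻¹))).toMul : E)
        = g * ((θ w).toMul : E) * g⁻¹)
    (hns : ∀ H : Subgroup E, H ⊓ N = ⊥ → H ⊔ N ≠ ⊤)
    {E' : Type*} [Group E'] [Finite E'] (N' : Subgroup E') [N'.Normal]
    (φ' : E' ⧸ N' ≃* ↥Spor.M23) (θ' : (GolayPt → ZMod 2) →+ Additive ↥N')
    (hsurj' : Function.Surjective θ')
    (hker' : ∀ w : GolayPt → ZMod 2,
      θ' w = 0 ↔ (w ∈ golayCode ∨ w + Pi.single none 1 ∈ golayCode))
    (hθ' : ∀ (g : E') (w : GolayPt → ZMod 2),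
      ((θ' (w ∘ ⇑(((φ' (QuotientGroup.mk g) : ↥Spor.M23) : Equiv.Perm GolayPt)⁻¹))).toMul : E')
        = g * ((θ' w).toMul : E') * g⁻¹)
    (hns' : ∀ H : Subgroup E', H ⊓ N' = ⊥ → H ⊔ N' ≠ ⊤) : Nonempty (E ≃* E') := by
  obtain ⟨hE, hk⟩ := cocode_ext N φ θ hsurj hker hθ
  obtain ⟨hE', hk'⟩ := cocode_ext N' φ' θ' hsurj' hker' hθ'
  refine nonempty_iso hE hE' (by rw [hk]; exact hns) (by rw [hk']; exact hns') ?_
  intro g g' hg n
  set w := wordOf (xorSel cocodeDataB n) with hw
  obtain ⟨m, hm⟩ := hE.onto (g * ((θ w).toMul : E) * g⁻¹) (by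
    rw [map_mul, map_mul, map_inv, hE.mem n, mul_one, mul_inv_cancel])
  refine ⟨m, hm.symm, ?_⟩
  have e1 : θ (wordOf (xorSel cocodeDataB m)) =
      θ (w ∘ ⇑(((φ (QuotientGroup.mk g) : ↥Spor.M23) : Equiv.Perm GolayPt)⁻¹)) :=
    Additive.toMul.injective (Subtype.ext (hm.trans (hθ g w).symm))
  rw [show φ (QuotientGroup.mk g) = φ' (QuotientGroup.mk g') from hg] at e1
  rw [← sub_eq_zero, ← map_sub, hker, ← hker', map_sub, sub_eq_zero] at e1
  show g' * ((θ' w).toMul : E') * g'⁻¹ = _
  rw [← hθ' g' w, e1]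

end cocode

end H26.ModCert
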