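import Cfsg.Agent.H26.ModCertDefs

/-! Data for the loop cocycle of the code and the lifts of the symbols. -/

set_option maxRecDepth 20000

namespace H26.ModCert

def loopL : List ℕ := [256, 32, 512, 1024, 64, 0, 0, 2048, 0, 0, 0, 0]

def loopT : List (List ℕ) := [
  [0, 1824, 840, 1412, 3392, 450, 308, 2344, 3838, 2310, 282, 912],
  [1824, 0, 2600, 1076, 360, 4061, 688, 3168, 2097, 101, 169, 420],
  [840, 2600, 0, 1539, 1632, 786, 2577, 3840, 673, 3579, 664, 706],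
  [1412, 1076, 1539, 0, 1218, 3330, 1808, 3089, 1121, 3140, 3063, 1696],
  [3392, 360, 1632, 1218, 0, 2118, 4015, 2632, 579, 452, 77, 225],
  [450, 4061, 786, 3330, 2118, 0, 1043, 2563, 15, 1158, 586, 154],
  [308, 688, 2577, 1808, 4015, 1043, 0, 2322, 153, 30, 2104, 1172],
  [2344, 3168, 3840, 3089, 2632, 2563, 2322, 0, 2117, 2100, 2062, 1919],
  [3838, 2097, 673, 1121, 579, 15, 153, 2117, 0, 1045, 2569, 1155],
  [2310, 101, 3579, 3140, 452, 1158, 30, 2100, 1045, 0, 300, 141],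
  [282, 169, 664, 3063, 77, 586, 2104, 2062, 2569, 300, 0, 456],
  [912, 420, 706, 1696, 225, 154, 1172, 1919, 1155, 141, 456, 0]]

def loopU : List (List ℕ) := [
  [0, 1824, 840, 1412, 3392, 450, 308, 2344, 3838, 2310, 282, 912],
  [0, 0, 2600, 1076, 360, 4061, 688, 3168, 2097, 101, 169, 420],
  [0, 0, 0, 1539, 1632, 786, 2577, 3840, 673, 3579, 664, 706],
  [0, 0, 0, 0, 1218, 3330, 1808, 3089, 1121, 3140, 3063, 1696],
  [0, 0, 0, 0, 0, 2118, 4015, 2632, 579, 452, 77, 225],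
  [0, 0, 0, 0, 0, 0, 1043, 2563, 15, 1158, 586, 154],
  [0, 0, 0, 0, 0, 0, 0, 2322, 153, 30, 2104, 1172],
  [0, 0, 0, 0, 0, 0, 0, 0, 2117, 2100, 2062, 1919],
  [0, 0, 0, 0, 0, 0, 0, 0, 0, 1045, 2569, 1155],
  [0, 0, 0, 0, 0, 0, 0, 0, 0, 0, 300, 141],
  [0, 0, 0, 0, 0, 0, 0, 0, 0, 0, 0, 456],
  [0, 0, 0, 0, 0, 0, 0, 0, 0, 0, 0, 0]]

def dualRows : List ℕ := [1, 2, 4, 8, 16, 32, 64, 128, 256, 512, 1024, 2048]

def colVec : List ℕ := [1, 2, 4, 8, 16, 32, 64, 128, 256, 512, 1024, 2048, 1183, 2366, 1763, 3526, 3859, 2745, 493, 986, 1972, 3944, 2639, 3189]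

def symUm : List (List ℕ) := [
  [3624, 296, 2560, 1296, 64, 2048, 3328, 2560, 2048, 3072, 2048, 0],
  [822, 440, 1368, 1808, 1472, 1152, 1152, 768, 1024, 1024, 0, 0],
  [1918, 480, 72, 2416, 224, 640, 3328, 768, 1024, 0, 0, 0],
  [1792, 296, 584, 1696, 1120, 128, 1152, 1792, 1024, 0, 0, 0],
  [2064, 192, 3792, 3792, 576, 0, 1024, 2560, 0, 0, 2048, 0],
  [1280, 544, 608, 672, 1344, 640, 1408, 1792, 1024, 0, 0, 0],
  [2816, 608, 3432, 2912, 320, 640, 1536, 2048, 512, 2048, 2048, 0],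
  [80, 2812, 568, 2000, 2432, 960, 512, 2048, 512, 2048, 2048, 0],
  [3920, 2396, 4032, 96, 1952, 2048, 1664, 3072, 2048, 3072, 0, 0],
  [2936, 1528, 1376, 2640, 608, 3136, 2560, 3584, 2560, 1024, 0, 0]]

def ruleMasks : List ℕ := [0, 804, 160, 1032, 0, 1824, 1032, 1636, 67, 2420, 72, 1304, 1576, 2215, 3163, 2188, 3107, 3840, 1935, 1256, 808, 2188, 72, 2755, 2903, 1352, 12, 3168, 173, 421, 2902, 4003, 2960, 746]

def ruleVals : List ℕ := [0, 804, 160, 1032, 0, 1824, 1032, 1636, 67, 1281, 72, 1304, 1576, 1234, 46, 1273, 86, 885, 1935, 1256, 808, 1273, 72, 1718, 1826, 1352, 12, 21, 173, 421, 1827, 982, 2021, 746]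

end H26.ModCert
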