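import Cfsg.Agent.H26.M23Coh
import Cfsg.Agent.H26.M23LoopData

/-!
A loop cocycle on the binary Golay code: linear in the second argument, with quadratic slices
whose polar form is the triple intersection, and diagonal a quarter of the weight.
-/

set_option autoImplicit false
set_option maxRecDepth 100000

namespace H26.ModCert

open Cfsg H90

theorem fin12_xor (a b : Fin 4096) : a.val ^^^ b.val < 4096 := xor_lt_4096 a.isLt b.isLt

theorem idMat_succ (k : ℕ) : idMat (k + 1) = 1 :: (idMat k).map (2 * ·) := by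
  rw [idMat, idMat, List.range_succ_eq_map, List.map_cons, List.map_map, List.map_map]
  congr 1
  exact List.map_congr_left fun i _ => by simp [pow_succ, mul_comm]

theorem two_mul_xor (a b : ℕ) : 2 * (a ^^^ b) = (2 * a) ^^^ (2 * b) := by
  apply Nat.eq_of_testBit_eq
  intro i
  cases i with
  | zero => simp [Nat.testBit_zero, Nat.xor_mod_two_eq]
  | succ i =>
    simp only [Nat.testBit_succ, Nat.xor_div_two, Nat.testBit_xor]
    simp

theorem xorSel_map_two_mul : ∀ (l : List ℕ) (n : ℕ), xorSel (l.map (2 * ·)) n = 2 * xorSel l n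
  | [], n => by simp [xorSel]
  | a :: l, n => by
    simp only [List.map_cons, xorSel, xorSel_map_two_mul l, two_mul_xor]
    split <;> simp

theorem xorSel_idMat : ∀ (k n : ℕ), n < 2 ^ k → xorSel (idMat k) n = n
  | 0, n, h => by simp only [pow_zero, Nat.lt_one_iff] at h; subst h; rfl
  | k + 1, n, h => by
    rw [idMat_succ, xorSel, xorSel_map_two_mul,
      xorSel_idMat k (n / 2) (by rw [pow_succ] at h; omega)]
    rcases Nat.mod_two_eq_zero_or_one n with e | e
    · rw [if_neg (by omega), Nat.zero_xor]; omega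
    · rw [if_pos e]
      apply Nat.eq_of_testBit_eq
      intro i
      cases i with
      | zero => simp [Nat.testBit_zero, Nat.xor_mod_two_eq, e]
      | succ i => simp [Nat.testBit_succ, Nat.xor_div_two]

/-- Additive maps agreeing on unit vectors agree. -/
theorem ext_units {X : Type*} [AddGroup X] (k : ℕ) (F G : ℕ → X)
    (hF : ∀ a b, F (a ^^^ b) = F a + F b) (hG : ∀ a b, G (a ^^^ b) = G a + G b)
    (h : ∀ i < k, F (2 ^ i) = G (2 ^ i)) {n : ℕ} (hn : n < 2 ^ k) : F n = G n := by
  rw [← xorSel_idMat k n hn]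
  refine xorSel_ext F G hF hG _ _ n rfl fun q hq => ?_
  rw [List.zip_eq_zipWith, List.zipWith_self] at hq
  obtain ⟨a, ha, rfl⟩ := List.mem_map.1 hq
  obtain ⟨i, hi, rfl⟩ := List.mem_map.1 ha
  exact h i (List.mem_range.1 hi)

/-- Parity of the weight of a mask, for computation. -/
def parN (m : ℕ) : ℕ := xorSel (List.replicate 24 1) m

/-- Parity of the weight of a mask. -/
def par (m : ℕ) : ZMod 2 := (parN m : ZMod 2)

theorem cast_xor (a b : ℕ) : ((a ^^^ b : ℕ) : ZMod 2) = (a : ZMod 2) + (b : ZMod 2) := by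
  rw [← Nat.cast_add, ZMod.natCast_eq_natCast_iff']
  rw [Nat.xor_mod_two_eq]

theorem par_xor (a b : ℕ) : par (a ^^^ b) = par a + par b := by
  rw [par, par, par, parN, parN, parN, xorSel_xor, cast_xor]

/-- Pairing of two words. -/
def dot (w u : GolayPt → ZMod 2) : ZMod 2 := ∑ q, w q * u q

theorem sum_wordOf {m : ℕ} (hm : m < 2 ^ 24) : (∑ q, wordOf m q) = par m := by
  refine ext_units 24 (fun m => ∑ q, wordOf m q) par
    (fun a b => by rw [wordOf_xor, ← Finset.sum_add_distrib]; rfl) par_xor ?_ hm
  intro i hi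
  have : ∀ i : Fin 24, (∑ q, wordOf (2 ^ i.val) q) = par (2 ^ i.val) := by decide +kernel
  exact this ⟨i, hi⟩

theorem wordOf_and (a b : ℕ) (q : GolayPt) : wordOf (a &&& b) q = wordOf a q * wordOf b q := by
  simp only [wordOf, Nat.testBit_and]
  cases a.testBit (idx q).val <;> cases b.testBit (idx q).val <;> simp

theorem dot_wordOf {a : ℕ} (b : ℕ) (ha : a < 2 ^ 24) :
    dot (wordOf a) (wordOf b) = par (a &&& b) := by
  rw [← sum_wordOf (lt_of_le_of_lt Nat.and_le_left ha), dot]
  exact Finset.sum_congr rfl fun q _ => (wordOf_and a b q).symm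

/-- The word with coordinates `n`. -/
def cWord (n : ℕ) : GolayPt → ZMod 2 := wordOf (encode n)

theorem cWord_xor (a b : ℕ) : cWord (a ^^^ b) = cWord a + cWord b := by
  rw [cWord, cWord, cWord, encode_xor, wordOf_xor]

/-- Parity of a triple intersection. -/
def tri (a b c : ℕ) : ZMod 2 := ∑ q, cWord a q * cWord b q * cWord c q

theorem tri_left (a b c d : ℕ) : tri (a ^^^ b) c d = tri a c d + tri b c d := by
  rw [tri, tri, tri, cWord_xor, ← Finset.sum_add_distrib]
  exact Finset.sum_congr rfl fun q _ => by rw [Pi.add_apply]; ring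

theorem tri_mid (a b c d : ℕ) : tri a (b ^^^ c) d = tri a b d + tri a c d := by
  rw [tri, tri, tri, cWord_xor, ← Finset.sum_add_distrib]
  exact Finset.sum_congr rfl fun q _ => by rw [Pi.add_apply]; ring

theorem tri_right (a b c d : ℕ) : tri a b (c ^^^ d) = tri a b c + tri a b d := by
  rw [tri, tri, tri, cWord_xor, ← Finset.sum_add_distrib]
  exact Finset.sum_congr rfl fun q _ => by rw [Pi.add_apply]; ring

theorem tri_eq_par (a b c : ℕ) (ha : a < 4096) :
    tri a b c = par (encode a &&& encode b &&& encode c) := by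
  rw [← sum_wordOf (lt_of_le_of_lt (Nat.and_le_left.trans Nat.and_le_left) (encode_lt ha)), tri]
  exact Finset.sum_congr rfl fun q _ => by rw [cWord, cWord, cWord, wordOf_and, wordOf_and]

/-- The upper bilinear part of the slices, packed. -/
def uv (a b : ℕ) : ℕ := xorSel (loopU.map fun l => xorSel l b) a

/-- The slices of the cocycle at `a`, packed. -/
def qv (a : ℕ) : ℕ := xorSel loopL a ^^^ uv a a

/-- The cocycle. -/
def th (a b : ℕ) : ZMod 2 := par (qv a &&& b)

theorem th_right (a b c : ℕ) : th a (b ^^^ c) = th a b + th a c := by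
  rw [th, th, th, Nat.and_xor_distrib_left, par_xor]

theorem uv_left (a b c : ℕ) : uv (a ^^^ b) c = uv a c ^^^ uv b c := xorSel_xor _ a b

theorem map_xor_zipWith (f g : List ℕ → ℕ) : ∀ l : List (List ℕ),
    (l.map fun m => f m ^^^ g m) = List.zipWith (· ^^^ ·) (l.map f) (l.map g) := by
  intro l
  rw [List.zipWith_map, List.zipWith_self]

theorem uv_right (a b c : ℕ) : uv a (b ^^^ c) = uv a b ^^^ uv a c := by
  rw [uv, uv, uv, ← xorSel_zipWith _ _ _ (by simp), ← map_xor_zipWith]
  congr 1
  exact List.map_congr_left fun l _ => xorSel_xor l b c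

theorem qv_zero : qv 0 = 0 := by decide +kernel

theorem uv_sym_check : (List.range 12).all (fun i => (List.range 12).all fun k => (List.range 12).all
    fun j => parN ((uv (2 ^ i) (2 ^ k) ^^^ uv (2 ^ k) (2 ^ i)) &&& 2 ^ j) ==
      parN (encode (2 ^ i) &&& encode (2 ^ k) &&& encode (2 ^ j))) = true := by
  decide +kernel

theorem uv_sym {a b c : ℕ} (ha : a < 4096) (hb : b < 4096) (hc : c < 4096) :
    par ((uv a b ^^^ uv b a) &&& c) = tri a b c := by
  refine ext_units 12 (fun c => par ((uv a b ^^^ uv b a) &&& c)) (fun c => tri a b c)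
    (fun x y => by rw [Nat.and_xor_distrib_left, par_xor]) (fun x y => tri_right a b x y) ?_ hc
  intro j hj
  refine ext_units 12 (fun a => par ((uv a b ^^^ uv b a) &&& 2 ^ j)) (fun a => tri a b (2 ^ j))
    (fun x y => by
      rw [← par_xor, ← Nat.and_xor_distrib_right]
      congr 2
      rw [uv_left, uv_right]
      simp [Nat.xor_assoc, Nat.xor_left_comm])
    (fun x y => tri_left x y _ _) ?_ ha
  intro i hi
  refine ext_units 12 (fun b => par ((uv (2 ^ i) b ^^^ uv b (2 ^ i)) &&& 2 ^ j))
    (fun b => tri (2 ^ i) b (2 ^ j))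
    (fun x y => by
      rw [← par_xor, ← Nat.and_xor_distrib_right]
      congr 2
      rw [uv_left, uv_right]
      simp [Nat.xor_assoc, Nat.xor_left_comm])
    (fun x y => tri_mid _ x y _) ?_ hb
  intro k hk
  rw [tri_eq_par _ _ _ (Nat.pow_lt_pow_right (a := 2) (n := 12) (by norm_num) hi), par, par,
    beq_iff_eq.1 (List.all_eq_true.1 (List.all_eq_true.1 (List.all_eq_true.1 uv_sym_check i
      (List.mem_range.2 hi)) k (List.mem_range.2 hk)) j (List.mem_range.2 hj))]

theorem th_left {a b c : ℕ} (ha : a < 4096) (hb : b < 4096) (hc : c < 4096) :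
    th (a ^^^ b) c = th a c + th b c + tri a b c := by
  rw [← uv_sym ha hb hc, th, th, th, ← par_xor, ← par_xor, ← Nat.and_xor_distrib_right,
    ← Nat.and_xor_distrib_right]
  congr 2
  rw [qv, qv, qv, xorSel_xor, uv_left, uv_right, uv_right]
  ac_rfl

theorem th_zero_right (a : ℕ) : th a 0 = 0 := by simp [th, par, parN, xorSel_zero]

theorem th_zero_left (b : ℕ) : th 0 b = 0 := by simp [th, qv_zero, par, parN, xorSel_zero]

/-- A quarter of the weight, modulo two. -/
def quarter (m : ℕ) : ℕ := popc m / 4 % 2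

theorem th_diag_check :
    (List.range 4096).all (fun a => parN (qv a &&& a) % 2 == quarter (encode a)) = true := by
  decide +kernel

theorem th_diag {a : ℕ} (ha : a < 4096) : th a a = (quarter (encode a) : ZMod 2) := by
  rw [th, par, ← ZMod.natCast_mod,
    beq_iff_eq.1 (List.all_eq_true.1 th_diag_check a (List.mem_range.2 ha))]

end H26.ModCert
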