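import Cfsg.Agent.H26.M23Loop

/-!
The automorphisms of the twisted code over M23: every element of M23 lifts, and the elements over
the identity are the shifts by the functionals of the cocode.
-/

set_option autoImplicit false
set_option maxRecDepth 100000

namespace H26.ModCert

open Cfsg H90

theorem xorSel_pow_getD : ∀ (l : List ℕ) (k : ℕ), xorSel l (2 ^ k) = l.getD k 0
  | [], k => by simp [xorSel]
  | a :: l, 0 => by simp [xorSel, xorSel_zero]
  | a :: l, k + 1 => by
    simp only [xorSel, pow_succ, Nat.mul_div_cancel _ two_pos, xorSel_pow_getD l k,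
      Nat.mul_mod_left]
    simp

/-- The code image of coordinates under a coded permutation. -/
def acN (p n : ℕ) : ℕ := permMask p (encode n) % 4096

theorem wordOf_acN {σ : Equiv.Perm GolayPt} (hσ : σ ∈ M24) {p : ℕ} (hp : Repr σ p) {n : ℕ}
    (hn : n < 4096) : cWord (acN p n) = cWord n ∘ ⇑σ⁻¹ := by
  have hm : wordOf (permMask p (encode n)) ∈ golayCode := by
    rw [wordOf_permMask hp]
    exact mem_M24_iff_words.1 hσ _ (wordOf_encode_mem n)
  have hc := isCode_iff.1 ((wordOf_mem_iff (permMask_lt hp _)).1 hm)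
  rw [cWord, cWord, acN, hc, wordOf_permMask hp]

theorem cWord_inj {a b : ℕ} (ha : a < 4096) (hb : b < 4096) (h : cWord a = cWord b) : a = b :=
  encode_injOn ha hb (wordOf_injOn (encode_lt ha) (encode_lt hb) h)

theorem mem_M24_of_M23 (σ : Spor.M23) : (σ : Equiv.Perm GolayPt) ∈ M24 := σ.2.1

/-- Sum of coordinates. -/
def fx (a b : Fin 4096) : Fin 4096 := ⟨a.val ^^^ b.val, fin12_xor a b⟩

/-- The action on coordinates. -/
def ac (σ : Spor.M23) (n : Fin 4096) : Fin 4096 :=
  ⟨acN (C23.code σ) n.val, Nat.mod_lt _ (by norm_num)⟩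

theorem cWord_ac (σ : Spor.M23) (n : Fin 4096) :
    cWord (ac σ n).val = cWord n.val ∘ ⇑(σ : Equiv.Perm GolayPt)⁻¹ :=
  wordOf_acN (mem_M24_of_M23 σ) (H97.MOut.repr_code _) n.isLt

theorem fin_cWord_inj {a b : Fin 4096} (h : cWord a.val = cWord b.val) : a = b :=
  Fin.ext (cWord_inj a.isLt b.isLt h)

theorem ac_one (n : Fin 4096) : ac 1 n = n := fin_cWord_inj (by rw [cWord_ac]; simp)

theorem ac_mul (σ τ : Spor.M23) (n : Fin 4096) : ac (σ * τ) n = ac σ (ac τ n) :=
  fin_cWord_inj (by rw [cWord_ac, cWord_ac, cWord_ac, Subgroup.coe_mul, mul_inv_rev]; rfl)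

theorem ac_fx (σ : Spor.M23) (a b : Fin 4096) : ac σ (fx a b) = fx (ac σ a) (ac σ b) :=
  fin_cWord_inj (by
    rw [cWord_ac, fx, fx]
    show cWord (a.val ^^^ b.val) ∘ _ = cWord ((ac σ a).val ^^^ (ac σ b).val)
    rw [cWord_xor, cWord_xor, cWord_ac, cWord_ac]
    rfl)

theorem ac_inv (σ : Spor.M23) (n : Fin 4096) : ac σ⁻¹ (ac σ n) = n := by
  rw [← ac_mul, inv_mul_cancel, ac_one]

/-- The twisted code. -/
abbrev Twist := ZMod 2 × Fin 4096

/-- Product in the twisted code. -/
def star (x y : Twist) : Twist := (x.1 + y.1 + th x.2.val y.2.val, fx x.2 y.2)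

/-- Automorphisms of the twisted code over `M23`. -/
noncomputable def loopAut : Subgroup (Spor.M23 × Equiv.Perm Twist) where
  carrier := {g | (∀ x y, g.2 (star x y) = star (g.2 x) (g.2 y)) ∧ g.2 (1, 0) = (1, 0) ∧
    ∀ x, (g.2 x).2 = ac g.1 x.2}
  one_mem' := ⟨fun _ _ => rfl, rfl, fun x => (ac_one x.2).symm⟩
  mul_mem' := by
    rintro g h ⟨g1, g2, g3⟩ ⟨h1, h2, h3⟩
    refine ⟨fun x y => ?_, ?_, fun x => ?_⟩
    · show g.2 (h.2 (star x y)) = star (g.2 (h.2 x)) (g.2 (h.2 y))
      rw [h1, g1]
    · show g.2 (h.2 (1, 0)) = (1, 0)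
      rw [h2, g2]
    · show (g.2 (h.2 x)).2 = ac (g.1 * h.1) x.2
      rw [g3, h3, ac_mul]
  inv_mem' := by
    rintro g ⟨g1, g2, g3⟩
    refine ⟨fun x y => ?_, ?_, fun x => ?_⟩
    · apply g.2.injective
      rw [g1]
      simp
    · apply g.2.injective
      rw [g2]
      simp
    · show (g.2⁻¹ x).2 = ac g.1⁻¹ x.2
      have h := congrArg (ac g.1⁻¹) (g3 (g.2⁻¹ x))
      rw [ac_inv, show g.2 (g.2⁻¹ x) = x by simp] at h
      exact h.symm

theorem star_zero_zero : star (0, 0) ((0 : ZMod 2), (0 : Fin 4096)) = (0, 0) := by decide +kernel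

theorem loopAut_zero (g : loopAut) : g.1.2 (0, 0) = (0, 0) := by
  have h := g.2.1 (0, 0) (0, 0)
  rw [star_zero_zero] at h
  generalize hz : g.1.2 (0, 0) = z at h ⊢
  obtain ⟨s, a⟩ := z
  simp only [star, Prod.mk.injEq, fx, Fin.ext_iff, Nat.xor_self] at h
  have ha : a = 0 := Fin.ext h.2
  subst ha
  have h1 := h.1
  rw [show th ((0 : Fin 4096) : ℕ) ((0 : Fin 4096) : ℕ) = 0 from th_zero_left _,
    (by decide : ∀ s : ZMod 2, s + s = 0) s] at h1
  rw [h1]; simp

theorem loopAut_shift (g : loopAut) (c : ZMod 2) (x : Twist) :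
    g.1.2 (c + x.1, x.2) = (c + (g.1.2 x).1, (g.1.2 x).2) := by
  have hc : g.1.2 (c, 0) = (c, 0) := by
    rcases zmod2_cases c with rfl | rfl
    · exact loopAut_zero g
    · exact g.2.2.1
  have e : ∀ y : Twist, star (c, 0) y = (c + y.1, y.2) := fun y => by
    refine Prod.ext ?_ (Fin.ext (Nat.zero_xor _))
    show c + y.1 + th ((0 : Fin 4096) : ℕ) y.2.val = c + y.1
    rw [show th ((0 : Fin 4096) : ℕ) y.2.val = 0 from th_zero_left _, add_zero]
  rw [← e x, g.2.1, hc, e]

theorem loopAut_snd (g : loopAut) (x : Twist) : (g.1.2 x).2 = ac g.1.1 x.2 := g.2.2.2 x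

/-! ### Shifts -/

/-- Pairing with the code word with coordinates `n`. -/
def dotC (w : GolayPt → ZMod 2) (n : ℕ) : ZMod 2 := dot w (cWord n)

theorem dotC_xor (w : GolayPt → ZMod 2) (a b : ℕ) : dotC w (a ^^^ b) = dotC w a + dotC w b := by
  rw [dotC, dotC, dotC, cWord_xor, dot, dot, dot, ← Finset.sum_add_distrib]
  exact Finset.sum_congr rfl fun q _ => by rw [Pi.add_apply, mul_add]

theorem dotC_add (w u : GolayPt → ZMod 2) (n : ℕ) : dotC (w + u) n = dotC w n + dotC u n := by
  rw [dotC, dotC, dotC, dot, dot, dot, ← Finset.sum_add_distrib]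
  exact Finset.sum_congr rfl fun q _ => by rw [Pi.add_apply, add_mul]

theorem dotC_ac (σ : Spor.M23) (w : GolayPt → ZMod 2) (n : Fin 4096) :
    dotC (w ∘ ⇑(σ : Equiv.Perm GolayPt)⁻¹) (ac σ n).val = dotC w n.val := by
  rw [dotC, dotC, cWord_ac]
  exact Equiv.sum_comp (σ : Equiv.Perm GolayPt)⁻¹ fun q => w q * cWord n.val q

theorem zmod2_add_self (a : ZMod 2) : a + a = 0 := by revert a; decide

attribute [local irreducible] th dotC ac

/-- The shift by a word. -/
def shiftPerm (w : GolayPt → ZMod 2) : Equiv.Perm Twist where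
  toFun x := (x.1 + dotC w x.2.val, x.2)
  invFun x := (x.1 + dotC w x.2.val, x.2)
  left_inv x := by simp [add_assoc, zmod2_add_self]
  right_inv x := by simp [add_assoc, zmod2_add_self]

/-- The shift by a word, as an automorphism over the identity. -/
noncomputable def shiftAut (w : GolayPt → ZMod 2) : loopAut :=
  ⟨(1, shiftPerm w), fun x y => Prod.ext (by
      show x.1 + y.1 + th x.2.val y.2.val + dotC w (x.2.val ^^^ y.2.val) =
        (x.1 + dotC w x.2.val) + (y.1 + dotC w y.2.val) + th x.2.val y.2.val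
      rw [dotC_xor]; ring) rfl,
    Prod.ext (by
      show (1 : ZMod 2) + dotC w ((0 : Fin 4096) : ℕ) = 1
      have h0 : dotC w 0 = 0 := by simpa using dotC_xor w 0 0
      rw [show ((0 : Fin 4096) : ℕ) = 0 from rfl, h0, add_zero]) rfl,
    fun x => (ac_one x.2).symm⟩

theorem shiftAut_add (w u : GolayPt → ZMod 2) : shiftAut (w + u) = shiftAut w * shiftAut u := by
  refine Subtype.ext (Prod.ext (one_mul 1).symm (Equiv.ext fun x => Prod.ext ?_ rfl))
  show x.1 + dotC (w + u) x.2.val = x.1 + dotC u x.2.val + dotC w x.2.val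
  rw [dotC_add]; ring

theorem shiftAut_conj (g : loopAut) (w : GolayPt → ZMod 2) :
    shiftAut (w ∘ ⇑(g.1.1 : Equiv.Perm GolayPt)⁻¹) * g = g * shiftAut w := by
  refine Subtype.ext (Prod.ext (by show 1 * g.1.1 = g.1.1 * 1; simp) (Equiv.ext fun x => ?_))
  show ((g.1.2 x).1 + dotC (w ∘ ⇑(g.1.1 : Equiv.Perm GolayPt)⁻¹) (g.1.2 x).2.val, (g.1.2 x).2) =
    g.1.2 (x.1 + dotC w x.2.val, x.2)
  rw [loopAut_snd, dotC_ac, add_comm x.1, loopAut_shift, ← loopAut_snd]
  rw [add_comm]

theorem dualRows_dot : (List.range 12).all (fun i => (List.range 12).all fun j =>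
    parN (dualRows.getD i 0 &&& encode (2 ^ j)) == if i = j then 1 else 0) = true := by decide +kernel

theorem dualRows_lt : (List.range 12).all (fun i => decide (dualRows.getD i 0 < 2 ^ 24)) = true := by
  decide +kernel

theorem colVec_spec : (List.range 24).all (fun j => isCode (2 ^ j ^^^ xorSel dualRows (colVec.getD j 0)) &&
    decide (2 ^ j ^^^ xorSel dualRows (colVec.getD j 0) < 2 ^ 24) &&
    (List.range 12).all fun i => parN (2 ^ j &&& encode (2 ^ i)) ==
      (if (colVec.getD j 0).testBit i then 1 else 0)) = true := by decide +kernel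

theorem colVec_lt : (List.range 24).all (fun j => decide (colVec.getD j 0 < 4096)) = true := by
  decide +kernel

theorem dot_dual {i j : ℕ} (hi : i < 12) (hj : j < 12) :
    dotC (wordOf (dualRows.getD i 0)) (2 ^ j) = if i = j then 1 else 0 := by
  rw [dotC, cWord, dot_wordOf _ (of_decide_eq_true (List.all_eq_true.1 dualRows_lt i
    (List.mem_range.2 hi))), par, beq_iff_eq.1 (List.all_eq_true.1 (List.all_eq_true.1 dualRows_dot i
    (List.mem_range.2 hi)) j (List.mem_range.2 hj))]
  split_ifs <;> simp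

/-- The word with prescribed pairings against the basis. -/
def dualWord (v : ℕ → ZMod 2) : GolayPt → ZMod 2 :=
  ∑ i ∈ Finset.range 12, v i • wordOf (dualRows.getD i 0)

theorem dotC_sum {ι : Type*} (s : Finset ι) (f : ι → GolayPt → ZMod 2) (n : ℕ) :
    dotC (∑ i ∈ s, f i) n = ∑ i ∈ s, dotC (f i) n := by
  classical
  induction s using Finset.induction_on with
  | empty => simp [dotC, dot]
  | insert a s ha ih => rw [Finset.sum_insert ha, Finset.sum_insert ha, dotC_add, ih]

theorem dotC_dualWord (v : ℕ → ZMod 2) {j : ℕ} (hj : j < 12) : dotC (dualWord v) (2 ^ j) = v j := by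
  rw [dualWord, dotC_sum, Finset.sum_eq_single j]
  · rcases zmod2_cases (v j) with h | h <;> rw [h]
    · simp [dotC, dot]
    · rw [one_smul, dot_dual hj hj, if_pos rfl]
  · intro i hi hne
    rcases zmod2_cases (v i) with h | h <;> rw [h]
    · simp [dotC, dot]
    · rw [one_smul, dot_dual (Finset.mem_range.1 hi) hj, if_neg hne]
  · exact fun h => absurd (Finset.mem_range.2 hj) h

/-- An automorphism over the identity is a shift. -/
theorem eq_shift_of_one {g : loopAut} (h : g.1.1 = 1) : ∃ w, g = shiftAut w := by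
  let φ : ℕ → ZMod 2 := fun n => (g.1.2 (0, ⟨n % 4096, Nat.mod_lt _ (by norm_num)⟩)).1
  have hval : ∀ x : Twist, g.1.2 x = (x.1 + φ x.2.val, x.2) := fun x => by
    have e := loopAut_shift g x.1 (0, x.2)
    rw [add_zero] at e
    rw [show x = (x.1, x.2) from rfl, e]
    refine Prod.ext ?_ (by rw [loopAut_snd, h, ac_one])
    show x.1 + (g.1.2 (0, x.2)).1 = x.1 + φ x.2.val
    simp only [φ, Nat.mod_eq_of_lt x.2.isLt]
  have hadd : ∀ a b : Fin 4096, φ (a.val ^^^ b.val) = φ a.val + φ b.val := by
    intro a b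
    have e := g.2.1 (0, a) (0, b)
    rw [hval, hval, hval] at e
    have e1 := congrArg Prod.fst e
    simp only [star, fx, zero_add] at e1
    linear_combination e1
  refine ⟨dualWord fun i => φ (2 ^ i), Subtype.ext (Prod.ext h (Equiv.ext fun x => ?_))⟩
  rw [hval]
  refine Prod.ext ?_ rfl
  show x.1 + φ x.2.val = x.1 + dotC _ x.2.val
  congr 1
  have key := ext_units 12 (fun n => φ (n % 4096)) (fun n => dotC (dualWord fun i => φ (2 ^ i)) (n % 4096))
    (fun a b => by
      have e := hadd ⟨a % 4096, Nat.mod_lt _ (by norm_num)⟩ ⟨b % 4096, Nat.mod_lt _ (by norm_num)⟩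
      simp only at e
      rw [← e, show (a ^^^ b) % 4096 = a % 4096 ^^^ b % 4096 from Nat.xor_mod_two_pow (n := 12)])
    (fun a b => by
      rw [← dotC_xor, show (a ^^^ b) % 4096 = a % 4096 ^^^ b % 4096 from Nat.xor_mod_two_pow (n := 12)])
    (fun i hi => by
      rw [Nat.mod_eq_of_lt (Nat.pow_lt_pow_right (a := 2) (n := 12) (by norm_num) hi), dotC_dualWord _ hi])
    x.2.isLt
  simp only [Nat.mod_eq_of_lt x.2.isLt] at key
  exact key

/-- Words orthogonal to the code lie in it. -/
theorem dotC_eq_zero_iff (w : GolayPt → ZMod 2) : (∀ n < 4096, dotC w n = 0) ↔ w ∈ golayCode := by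
  constructor
  · intro h
    let Φ : (GolayPt → ZMod 2) → (GolayPt → ZMod 2) := fun u =>
      u + dualWord fun i => dotC u (2 ^ i)
    have hΦ : ∀ u v, Φ (u + v) = Φ u + Φ v := fun u v => by
      simp only [Φ, dualWord, dotC_add, add_smul, Finset.sum_add_distrib]
      abel
    have hunit : ∀ j : Fin 24, Φ (wordOf (2 ^ j.val)) ∈ golayCode := by
      intro j
      have hj := List.all_eq_true.1 colVec_spec j.val (List.mem_range.2 j.isLt)
      simp only [Bool.and_eq_true, List.all_eq_true, beq_iff_eq, decide_eq_true_eq,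
        List.mem_range] at hj
      obtain ⟨⟨hcode, hlt⟩, hcol⟩ := hj
      have e : dualWord (fun i => dotC (wordOf (2 ^ j.val)) (2 ^ i)) =
          wordOf (xorSel dualRows (colVec.getD j.val 0)) := by
        have hc := of_decide_eq_true (List.all_eq_true.1 colVec_lt j.val (List.mem_range.2 j.isLt))
        have hbit : ∀ i < 12, dotC (wordOf (2 ^ j.val)) (2 ^ i) =
            if (colVec.getD j.val 0).testBit i then 1 else 0 := fun i hi => by
          rw [dotC, cWord, dot_wordOf _ (Nat.pow_lt_pow_right (by norm_num) j.isLt), par, hcol i hi]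
          split_ifs <;> simp
        have hsel := ext_units 12
          (fun c => dualWord fun i => if c.testBit i then 1 else 0)
          (fun c => wordOf (xorSel dualRows c))
          (fun a b => by
            simp only [dualWord, Nat.testBit_xor, ← Finset.sum_add_distrib, ← add_smul]
            refine Finset.sum_congr rfl fun i _ => ?_
            cases a.testBit i <;> cases b.testBit i <;> simp [zmod2_add_self])
          (fun a b => by rw [xorSel_xor, wordOf_xor])
          (fun k hk => by
            rw [xorSel_pow_getD, dualWord, Finset.sum_eq_single k]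
            · simp [Nat.testBit_two_pow]
            · intro i _ hne; simp [Nat.testBit_two_pow, Ne.symm hne]
            · exact fun h => absurd (Finset.mem_range.2 hk) h)
          hc
        rw [← hsel, dualWord, dualWord]
        exact Finset.sum_congr rfl fun i hi => by rw [hbit i (Finset.mem_range.1 hi)]
      show wordOf (2 ^ j.val) + _ ∈ golayCode
      rw [e, ← wordOf_xor]
      exact (wordOf_mem_iff hlt).2 hcode
    have hall : Φ w ∈ golayCode := by
      let R : AddSubmonoid (GolayPt → ZMod 2) :=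
        { carrier := {u | Φ u ∈ golayCode}
          zero_mem' := by
            show Φ 0 ∈ golayCode
            rw [show Φ 0 = 0 by simpa using hΦ 0 0]; exact zero_mem _
          add_mem' := fun {a b} ha hb => by
            show Φ (a + b) ∈ golayCode
            rw [hΦ]; exact add_mem ha hb }
      show w ∈ R
      rw [← Finset.univ_sum_single w]
      refine R.sum_mem fun q _ => ?_
      rcases zmod2_cases (w q) with h0 | h0 <;> rw [h0]
      · rw [Pi.single_zero]; exact R.zero_mem
      · obtain ⟨j, rfl⟩ : ∃ j, pt j = q := ⟨idx q, pt_idx q⟩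
        rw [← show wordOf (2 ^ j.val) = Pi.single (pt j) 1 from funext (wordOf_two_pow j)]
        exact hunit j
    have : Φ w = w := by
      show w + dualWord _ = w
      rw [dualWord, Finset.sum_eq_zero fun i hi => by
        rw [h _ (Nat.pow_lt_pow_right (a := 2) (n := 12) (by norm_num) (Finset.mem_range.1 hi)),
          zero_smul], add_zero]
    rwa [this] at hall
  · intro h n hn
    obtain ⟨m, hm, rfl⟩ := mem_golayCode_iff.1 h
    have hortho : ∀ i j : Fin 12, dotC (cWord (2 ^ i.val)) (2 ^ j.val) = 0 := by decide +kernel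
    have h2 : ∀ j < 12, dotC (cWord m) (2 ^ j) = 0 := fun j hj =>
      ext_units 12 (fun m => dotC (cWord m) (2 ^ j)) (fun _ => 0)
        (fun a b => by rw [cWord_xor, dotC_add]) (fun _ _ => (add_zero 0).symm)
        (fun i hi => hortho ⟨i, hi⟩ ⟨j, hj⟩) hm
    exact ext_units 12 (fun n => dotC (cWord m) n) (fun _ => 0) (dotC_xor _)
      (fun _ _ => (add_zero 0).symm) h2 hn

theorem shiftAut_eq_one_iff (w : GolayPt → ZMod 2) : shiftAut w = 1 ↔ w ∈ golayCode := by
  rw [← dotC_eq_zero_iff]
  constructor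
  · intro h n hn
    have e := congrArg (fun g : loopAut => (g.1.2 (0, ⟨n, hn⟩)).1) h
    simpa [shiftAut, shiftPerm] using e
  · intro h
    refine Subtype.ext (Prod.ext rfl (Equiv.ext fun x => Prod.ext ?_ rfl))
    show x.1 + dotC w x.2.val = x.1
    rw [h _ x.2.isLt, add_zero]

/-! ### Lifts -/

/-- The defect of the cocycle under an element. -/
def defect (σ : Spor.M23) (a b : Fin 4096) : ZMod 2 :=
  th (ac σ a).val (ac σ b).val + th a.val b.val

theorem defect_right (σ : Spor.M23) (a b c : Fin 4096) :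
    defect σ a (fx b c) = defect σ a b + defect σ a c := by
  simp only [defect, ac_fx]
  simp only [fx, th_right]
  ring

theorem defect_left (σ : Spor.M23) (a b c : Fin 4096) :
    defect σ (fx a b) c = defect σ a c + defect σ b c := by
  simp only [defect, ac_fx]
  simp only [fx]
  rw [th_left (ac σ a).isLt (ac σ b).isLt (ac σ c).isLt, th_left a.isLt b.isLt c.isLt]
  have ht : tri (ac σ a).val (ac σ b).val (ac σ c).val = tri a.val b.val c.val := by
    simp only [tri, cWord_ac]
    exact Equiv.sum_comp (σ : Equiv.Perm GolayPt)⁻¹ fun q =>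
      cWord a.val q * cWord b.val q * cWord c.val q
  rw [ht]
  linear_combination zmod2_add_self (tri a.val b.val c.val)

theorem defect_diag (σ : Spor.M23) (a : Fin 4096) : defect σ a a = 0 := by
  rw [defect, th_diag (ac σ a).isLt, th_diag a.isLt]
  have e : popc (encode (ac σ a).val) = popc (encode a.val) := by
    have h := cWord_ac σ a
    rw [cWord, cWord] at h
    have h2 := congrArg support₂ h
    rw [support₂_wordOf] at h2
    rw [← card_setOf', ← card_setOf', h2]
    show (support₂ fun x => wordOf (encode a.val) ((σ : Equiv.Perm GolayPt).symm x)).card = _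
    rw [support₂_comp_symm, support₂_wordOf,
      Finset.card_image_of_injective _ (σ : Equiv.Perm GolayPt).injective]
  rw [quarter, quarter, e]
  exact zmod2_add_self _

theorem defect_symm (σ : Spor.M23) (a b : Fin 4096) : defect σ a b = defect σ b a := by
  have h := defect_diag σ (fx a b)
  rw [defect_left, defect_right, defect_right, defect_diag, defect_diag] at h
  linear_combination h - zmod2_add_self (defect σ b a)

/-- Coordinates of a natural number. -/
def nf (n : ℕ) : Fin 4096 := ⟨n % 4096, Nat.mod_lt _ (by norm_num)⟩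

theorem nf_xor (a b : ℕ) : nf (a ^^^ b) = fx (nf a) (nf b) :=
  Fin.ext (Nat.xor_mod_two_pow (n := 12))

/-- The upper half of the defect matrix, by rows. -/
def upper (σ : Spor.M23) : List ℕ :=
  (List.range 12).map fun i => Nat.ofBits fun k : Fin 12 =>
    decide (i < k.val) && decide (defect σ (nf (2 ^ i)) (nf (2 ^ k.val)) = 1)

/-- A quadratic form from an upper triangular matrix. -/
def quad (U : List ℕ) (a b : ℕ) : ZMod 2 := par (xorSel U a &&& b)

theorem quad_left (U : List ℕ) (a b c : ℕ) : quad U (a ^^^ b) c = quad U a c + quad U b c := by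
  rw [quad, quad, quad, xorSel_xor, Nat.and_xor_distrib_right, par_xor]

theorem quad_right (U : List ℕ) (a b c : ℕ) : quad U a (b ^^^ c) = quad U a b + quad U a c := by
  rw [quad, quad, quad, Nat.and_xor_distrib_left, par_xor]

theorem par_two_pow : ∀ k : Fin 12, par (2 ^ k.val) = 1 := by decide +kernel

theorem quad_units (σ : Spor.M23) {i k : ℕ} (hi : i < 12) (hk : k < 12) :
    quad (upper σ) (2 ^ i) (2 ^ k) =
      if i < k then defect σ (nf (2 ^ i)) (nf (2 ^ k)) else 0 := by
  rw [quad, xorSel_pow_getD, upper, List.getD_eq_getElem _ _ (by simpa using hi),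
    List.getElem_map, List.getElem_range, Nat.and_two_pow, Nat.testBit_ofBits_lt _ _ hk]
  rcases zmod2_cases (defect σ (nf (2 ^ i)) (nf (2 ^ k))) with h | h <;>
    by_cases hik : i < k <;>
      simp [h, hik, show par (2 ^ k) = 1 from par_two_pow ⟨k, hk⟩,
        show par 0 = 0 by simp [par, parN, xorSel_zero]]

theorem quad_spec (σ : Spor.M23) (a b : Fin 4096) :
    quad (upper σ) a.val b.val + quad (upper σ) b.val a.val = defect σ a b := by
  have e : ∀ x : Fin 4096, nf x.val = x := fun x => Fin.ext (Nat.mod_eq_of_lt x.isLt)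
  rw [show defect σ a b = defect σ (nf a.val) (nf b.val) by rw [e, e]]
  refine ext_units 12 (fun a => quad (upper σ) a b.val + quad (upper σ) b.val a)
    (fun a => defect σ (nf a) (nf b.val))
    (fun x y => by rw [quad_left, quad_right]; ring)
    (fun x y => by rw [nf_xor, defect_left]) ?_ a.isLt
  intro i hi
  refine ext_units 12 (fun b => quad (upper σ) (2 ^ i) b + quad (upper σ) b (2 ^ i))
    (fun b => defect σ (nf (2 ^ i)) (nf b))
    (fun x y => by rw [quad_left, quad_right]; ring)
    (fun x y => by rw [nf_xor, defect_right]) ?_ b.isLt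
  intro k hk
  rw [quad_units σ hi hk, quad_units σ hk hi]
  rcases lt_trichotomy i k with h | rfl | h
  · rw [if_pos h, if_neg (by omega), add_zero]
  · rw [if_neg (by omega), add_zero, defect_diag]
  · rw [if_neg (by omega), if_pos h, zero_add, defect_symm]

/-- The correction of a lift. -/
def corrF (σ : Spor.M23) (a : Fin 4096) : ZMod 2 := quad (upper σ) a.val a.val

theorem corrF_fx (σ : Spor.M23) (a b : Fin 4096) :
    corrF σ (fx a b) = corrF σ a + corrF σ b + defect σ a b := by
  simp only [corrF, fx]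
  rw [quad_left, quad_right, quad_right, ← quad_spec]
  ring

attribute [local irreducible] corrF defect

/-- The permutation lifting an element. -/
def liftPerm (σ : Spor.M23) : Equiv.Perm Twist where
  toFun x := (x.1 + corrF σ x.2, ac σ x.2)
  invFun y := (y.1 + corrF σ (ac σ⁻¹ y.2), ac σ⁻¹ y.2)
  left_inv x := by simp [ac_inv, add_assoc, zmod2_add_self]
  right_inv y := by
    have h : ac σ (ac σ⁻¹ y.2) = y.2 := by rw [← ac_mul, mul_inv_cancel, ac_one]
    simp [h, add_assoc, zmod2_add_self]

/-- The lift of an element. -/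
noncomputable def liftAut (σ : Spor.M23) : loopAut :=
  ⟨(σ, liftPerm σ), fun x y => Prod.ext (by
      show x.1 + y.1 + th x.2.val y.2.val + corrF σ (fx x.2 y.2) =
        (x.1 + corrF σ x.2) + (y.1 + corrF σ y.2) + th (ac σ x.2).val (ac σ y.2).val
      rw [corrF_fx, defect]
      linear_combination zmod2_add_self (th x.2.val y.2.val)) (ac_fx σ x.2 y.2),
    Prod.ext (by
      show (1 : ZMod 2) + corrF σ 0 = 1
      rw [corrF, quad, show ((0 : Fin 4096) : ℕ) = 0 from rfl]
      simp [xorSel_zero, par, parN]) (fin_cWord_inj (by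
        show cWord (ac σ 0).val = cWord ((0 : Fin 4096) : ℕ)
        rw [cWord_ac, show ((0 : Fin 4096) : ℕ) = 0 from rfl,
          show cWord 0 = 0 by simp [cWord, encode, xorSel_zero, wordOf_zero]]
        rfl)),
    fun _ => rfl⟩

end H26.ModCert
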