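import Cfsg.Agent.H26.M23LoopAction

/-!
A non-split extension of M23 by the cocode module: automorphisms of the twisted code over M23,
modulo the shift by the extra point.
-/

set_option autoImplicit false
set_option maxRecDepth 100000

namespace H26.ModCert

open Cfsg H90
open H97.SchurCert (Coding evG evG_append evG_code)

/-! ### Splitting forces a vanishing class -/

/-- The change of the factor of a word under a change of lifts, as a form in the changes. -/
def varW (D : MData) : List ℕ → Form
  | [] => []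
  | s :: w => (s, idMat 11) :: mapF (actAt D s) (varW D w)

/-- The class composed with the coboundary. -/
def clsDelta (D : MData) : Form :=
  D.cls.flatMap fun q => mapF q.2 (varW D (ruleAt D q.1).1 ++ varW D (ruleAt D q.1).2)

/-- The class kills coboundaries. -/
def clsOK (D : MData) : Bool :=
  (D.cls.all fun q => (idMat 11).map (xorSel q.2) == q.2) &&
  ((clsDelta D).all fun q => decide (q.1 < D.syms.length) && q.2.length == 11) &&
    (dense D.syms.length (clsDelta D)).all fun M => M.all fun x => x % 2 == 0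

theorem evD_even : ∀ (l : List (List ℕ)) (x : ℕ → ℕ),
    (∀ M ∈ l, ∀ a ∈ M, a % 2 = 0) → evD l x % 2 = 0 := by
  have hsel : ∀ (M : List ℕ) (n : ℕ), (∀ a ∈ M, a % 2 = 0) → xorSel M n % 2 = 0 := by
    intro M
    induction M with
    | nil => intro n _; rfl
    | cons a M ih =>
      intro n h
      rw [xorSel, Nat.xor_mod_two_eq, Nat.add_mod, ih _ fun b hb => h b (List.mem_cons_of_mem _ hb)]
      split_ifs <;> simp [h a List.mem_cons_self]
  intro l
  induction l with
  | nil => intro x _; rfl
  | cons M l ih =>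
    intro x h
    rw [evD, Nat.xor_mod_two_eq, Nat.add_mod, hsel M _ (h M List.mem_cons_self),
      ih _ fun A hA => h A (List.mem_cons_of_mem _ hA)]

section

variable {G E : Type*} [Group G] [Group E] {op : ℕ → ℕ → ℕ} {one : ℕ}
  {C : Coding G op one} {D : MData} {π : E →* G} {v : ℕ → E}

theorem Ext.var_spec (h : Ext C D π v) {L L' : ℕ → E} (hL' : h.IsLift L') (y : ℕ → ℕ)
    (hy : ∀ s, L s = v (y s) * L' s) :
    ∀ w : List ℕ, evG L w = v (evF y (varW D w)) * evG L' w
  | [] => by simp [evG, varW, evF, h.v_zero]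
  | s :: w => by
    have e1 : ∀ f : ℕ → E, evG f (s :: w) = f s * evG f w := fun f => by simp [evG]
    rw [e1, h.var_spec hL' y hy w, e1 L', varW, evF, evF_mapF, h.v_xor, h.trunc, hy s]
    simp only [mul_assoc]
    congr 1
    rw [← mul_assoc, h.conj_sym hL', mul_assoc]

theorem Ext.cls_eq_zero (h : Ext C D π v) (hcls : clsOK D = true) (hrules : rulesOK op one D = true)
    (H : Subgroup E) (hH1 : H ⊓ π.ker = ⊥) (hH2 : H ⊔ π.ker = ⊤) {L : ℕ → E} (hL : h.IsLift L)
    {x : ℕ → ℕ} (hx : h.IsFactor L x) : Ext.cls D x = 0 := by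
  have hdec : ∀ s, ∃ n, v n * L s ∈ H := by
    intro s
    have hp : L s ∈ π.ker ⊔ H := by rw [sup_comm, hH2]; trivial
    rw [← SetLike.mem_coe, Subgroup.normal_mul] at hp
    obtain ⟨z, hz, y, hy, e⟩ := Set.mem_mul.1 hp
    obtain ⟨n, rfl⟩ := h.onto z hz
    exact ⟨n, by rw [← e, ← mul_assoc, h.v_sq, one_mul]; exact hy⟩
  choose y hy using hdec
  set L' : ℕ → E := fun s => v (y s) * L s with hL'def
  have hL' : h.IsLift L' := fun s => by
    rw [hL'def, map_mul, h.mem, one_mul]; exact hL s
  have hLL' : ∀ s, L s = v (y s) * L' s := fun s => by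
    rw [hL'def, ← mul_assoc, h.v_sq, one_mul]
  obtain ⟨x', hx'⟩ := h.exists_factor hrules hL'
  have hev : ∀ w, evG L' w ∈ H := fun w =>
    H97.SchurCert.evG_mem (S := H.toSubmonoid) fun s _ => hy s
  have hkey : ∀ r, xorSel (idMat 11) (x r) =
      xorSel (idMat 11) (evF y (varW D (ruleAt D r).1) ^^^ evF y (varW D (ruleAt D r).2)) := by
    intro r
    have h0 : v (x' r) = 1 := by
      have : v (x' r) ∈ H ⊓ π.ker := ⟨by
        have e : v (x' r) = evG L' (ruleAt D r).1 * (evG L' (ruleAt D r).2)⁻¹ := by
          rw [hx' r, mul_inv_cancel_right]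
        rw [e]; exact H.mul_mem (hev _) (H.inv_mem (hev _)), h.mem _⟩
      rwa [hH1] at this
    have e1 := hx r
    rw [h.var_spec hL' y hLL', h.var_spec hL' y hLL', hx' r, h0, one_mul, ← mul_assoc,
      mul_left_inj] at e1
    have e2 : v (x r ^^^ (evF y (varW D (ruleAt D r).1) ^^^ evF y (varW D (ruleAt D r).2))) = 1 := by
      rw [h.v_xor, h.v_xor, e1, mul_assoc (v (x r)), h.v_sq, mul_one, h.v_sq]
    have e3 := h.inj _ e2
    rw [xorSel_xor] at e3
    exact Nat.xor_eq_zero_iff.1 e3
  simp only [clsOK, Bool.and_eq_true, List.all_eq_true, beq_iff_eq, decide_eq_true_eq] at hcls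
  obtain ⟨⟨htr, hF⟩, heven⟩ := hcls
  have hform : ∀ F : Form, (∀ q ∈ F, (idMat 11).map (xorSel q.2) = q.2) →
      evF x F = evF y (F.flatMap fun q =>
        mapF q.2 (varW D (ruleAt D q.1).1 ++ varW D (ruleAt D q.1).2)) := by
    intro F
    induction F with
    | nil => intro _; rfl
    | cons q F ih =>
      intro hq
      rw [List.flatMap_cons, evF_append, evF, ← ih fun p hp => hq p (List.mem_cons_of_mem _ hp),
        evF_mapF, evF_append]
      congr 1
      rw [← hq q List.mem_cons_self, xorSel_map, xorSel_map, hkey]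
  rw [Ext.cls, hform D.cls htr, ← clsDelta, ← evF_dense _ _ y hF]
  exact evD_even _ _ heven

end

/-! ### The group -/

/-- The word of the extra point. -/
def extraWord : GolayPt → ZMod 2 := Pi.single none 1

theorem extraWord_fixed (σ : Spor.M23) : extraWord ∘ ⇑(σ : Equiv.Perm GolayPt)⁻¹ = extraWord := by
  have hfix : (σ : Equiv.Perm GolayPt) none = none := σ.2.2
  funext q
  simp only [Function.comp_apply, extraWord]
  by_cases hq : q = none
  · subst hq
    rw [show (σ : Equiv.Perm GolayPt)⁻¹ none = none by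
      rw [Equiv.Perm.inv_eq_iff_eq]; exact hfix.symm]
  · rw [Pi.single_eq_of_ne hq, Pi.single_eq_of_ne]
    intro e
    rw [Equiv.Perm.inv_eq_iff_eq, hfix] at e
    exact hq e

theorem shiftAut_central (g : loopAut) : shiftAut extraWord * g = g * shiftAut extraWord := by
  have := shiftAut_conj g extraWord
  rwa [extraWord_fixed] at this

theorem shiftAut_zero : shiftAut 0 = 1 := (shiftAut_eq_one_iff 0).2 (zero_mem _)

theorem shiftAut_self (w : GolayPt → ZMod 2) : shiftAut w * shiftAut w = 1 := by
  rw [← shiftAut_add, show w + w = 0 from funext fun q => zmod2_add_self (w q), shiftAut_zero]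

/-- The subgroup of the shift by the extra point. -/
noncomputable def extraSub : Subgroup loopAut where
  carrier := {g | g = 1 ∨ g = shiftAut extraWord}
  one_mem' := Or.inl rfl
  mul_mem' := by
    rintro a b (rfl | rfl) (rfl | rfl)
    · exact Or.inl (one_mul 1)
    · exact Or.inr (one_mul _)
    · exact Or.inr (mul_one _)
    · exact Or.inl (shiftAut_self _)
  inv_mem' := by
    rintro a (rfl | rfl)
    · exact Or.inl inv_one
    · exact Or.inr (inv_eq_of_mul_eq_one_right (shiftAut_self _))

instance extraSub_normal : extraSub.Normal :=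
  ⟨fun n hn g => by
    rcases hn with rfl | rfl
    · left; simp
    · right; rw [← shiftAut_central, mul_inv_cancel_right]⟩

/-- The extension group. -/
abbrev ExtGroup := loopAut ⧸ extraSub

/-- The projection of the automorphisms. -/
noncomputable def autProj : loopAut →* Spor.M23 := (MonoidHom.fst _ _).comp loopAut.subtype

/-- The projection. -/
noncomputable def extProj : ExtGroup →* Spor.M23 :=
  QuotientGroup.lift extraSub autProj (by
    rintro g (rfl | rfl)
    · exact map_one _
    · rfl)

theorem extProj_surjective : Function.Surjective extProj := fun σ => ⟨(liftAut σ : ExtGroup), rfl⟩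

/-- The shifts, as a map to the kernel. -/
noncomputable def thetaMap : (GolayPt → ZMod 2) →+ Additive extProj.ker :=
  AddMonoidHom.mk' (fun w => Additive.ofMul ⟨(shiftAut w : ExtGroup), rfl⟩)
    (fun a b => Additive.toMul.injective (Subtype.ext (by
      show ((shiftAut (a + b) : loopAut) : ExtGroup) = (shiftAut a : ExtGroup) * (shiftAut b : ExtGroup)
      rw [shiftAut_add, QuotientGroup.mk_mul])))

theorem thetaMap_coe (w : GolayPt → ZMod 2) :
    ((thetaMap w).toMul : ExtGroup) = (shiftAut w : ExtGroup) := rfl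

theorem thetaMap_surjective : Function.Surjective thetaMap := by
  intro y
  obtain ⟨q, hq⟩ : ∃ q, Additive.toMul y = q := ⟨_, rfl⟩
  obtain ⟨e, he⟩ := q
  induction e using QuotientGroup.induction_on with
  | _ g =>
    obtain ⟨w, hw⟩ := eq_shift_of_one (g := g) he
    refine ⟨w, Additive.toMul.injective (Subtype.ext ?_)⟩
    rw [thetaMap_coe, hq]
    show (shiftAut w : ExtGroup) = (g : ExtGroup)
    rw [hw]

theorem thetaMap_eq_zero (w : GolayPt → ZMod 2) :
    thetaMap w = 0 ↔ (w ∈ golayCode ∨ w + Pi.single none 1 ∈ golayCode) := by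
  have h0 : thetaMap w = 0 ↔ (shiftAut w : ExtGroup) = 1 :=
    ⟨fun h => by rw [← thetaMap_coe, h]; rfl, fun h => Additive.toMul.injective (Subtype.ext h)⟩
  rw [h0, QuotientGroup.eq_one_iff, ← shiftAut_eq_one_iff, ← shiftAut_eq_one_iff, shiftAut_add]
  show shiftAut w = 1 ∨ shiftAut w = shiftAut extraWord ↔ _
  refine or_congr Iff.rfl ⟨fun h => by rw [h]; exact shiftAut_self _, fun h => ?_⟩
  exact (mul_eq_one_iff_eq_inv.1 h).trans (inv_eq_of_mul_eq_one_right (shiftAut_self _))

/-- The quotient isomorphism. -/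
noncomputable def extIso : ExtGroup ⧸ extProj.ker ≃* Spor.M23 :=
  QuotientGroup.quotientKerEquivOfSurjective extProj extProj_surjective

theorem thetaMap_conj (g : ExtGroup) (w : GolayPt → ZMod 2) :
    ((thetaMap (w ∘ ⇑(((extIso (QuotientGroup.mk g) : ↥Spor.M23) : Equiv.Perm GolayPt)⁻¹))).toMul :
        ExtGroup) = g * ((thetaMap w).toMul : ExtGroup) * g⁻¹ := by
  induction g using QuotientGroup.induction_on with
  | _ g =>
    rw [thetaMap_coe, thetaMap_coe, show extIso (QuotientGroup.mk ((g : loopAut) : ExtGroup)) = g.1.1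
      from rfl, eq_mul_inv_iff_mul_eq, ← QuotientGroup.mk_mul, ← QuotientGroup.mk_mul, shiftAut_conj]

/-! ### The lifts of the symbols -/

/-- One step of evaluation. -/
def stepN (p : ℕ) (U : List ℕ) (x : ZMod 2 × ℕ) : ZMod 2 × ℕ := (x.1 + quad U x.2 x.2, acN p x.2)

/-- Evaluation of a word on a point. -/
def evalW (w : List ℕ) (x : ZMod 2 × ℕ) : ZMod 2 × ℕ :=
  w.foldr (fun s acc => stepN (cocodeData.syms.getD s idN) (symUm.getD s []) acc) x

/-- The upper defect matrix of a code. -/
def upperN (p : ℕ) : List ℕ :=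
  (List.range 12).map fun i => Nat.ofBits fun k : Fin 12 =>
    decide (i < k.val) && decide (th (acN p (2 ^ i % 4096)) (acN p (2 ^ k.val % 4096)) +
      th (2 ^ i % 4096) (2 ^ k.val % 4096) = 1)

theorem upper_eq (σ : Spor.M23) : upper σ = upperN (C23.code σ) := rfl

theorem symUm_spec : (List.range cocodeData.syms.length).all
    (fun s => upperN (cocodeData.syms.getD s idN) == symUm.getD s []) = true := by decide +kernel

theorem rules_spec : (List.range cocodeData.rules.length).all (fun r =>
    (ruleAt cocodeData r).1.all (fun s => decide (s < cocodeData.syms.length)) &&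
    (ruleAt cocodeData r).2.all (fun s => decide (s < cocodeData.syms.length)) &&
    decide (ruleMasks.getD r 0 < 2 ^ 24) &&
    eqvC (ruleMasks.getD r 0) (xorSel cocodeDataB (ruleVals.getD r 0)) &&
    (List.range 12).all fun i =>
      decide (evalW (ruleAt cocodeData r).1 (0, 2 ^ i) =
        ((evalW (ruleAt cocodeData r).2 (0, 2 ^ i)).1 +
          par (ruleMasks.getD r 0 &&& encode (evalW (ruleAt cocodeData r).2 (0, 2 ^ i)).2),
        (evalW (ruleAt cocodeData r).2 (0, 2 ^ i)).2))) = true := by decide +kernel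

theorem ruleVals_length : ruleVals.length = cocodeData.rules.length := by decide +kernel

theorem cls_value : Ext.cls cocodeData (fun r => ruleVals.getD r 0) = 1 := by decide +kernel

theorem clsOK_cocode : clsOK cocodeData = true := by decide +kernel

attribute [local irreducible] th dotC ac corrF

theorem no_complement (H : Subgroup ExtGroup) (h1 : H ⊓ extProj.ker = ⊥) :
    H ⊔ extProj.ker ≠ ⊤ := by
  intro h2
  obtain ⟨hE, hk⟩ := cocode_ext extProj.ker extIso thetaMap thetaMap_surjective thetaMap_eq_zero
    thetaMap_conj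
  obtain ⟨Lσ, hLσ⟩ := exists_lift (π := MonoidHom.id Spor.M23) (fun σ => ⟨σ, rfl⟩) syms_cocode
  let L : ℕ → loopAut := fun s => liftAut (Lσ s)
  have hfst : ∀ w, (evG L w).1.1 = evG Lσ w := fun w =>
    H97.SchurCert.map_evG autProj L w
  have hev : ∀ w : List ℕ, (∀ s ∈ w, s < cocodeData.syms.length) → ∀ x : Twist,
      (((evG L w).1.2 x).1, ((evG L w).1.2 x).2.val) = evalW w (x.1, x.2.val) := by
    intro w
    induction w with
    | nil => intro _ x; rfl
    | cons s w ih =>
      intro hw x
      have e := ih (fun t ht => hw t (List.mem_cons_of_mem _ ht)) x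
      have hU : upper (Lσ s) = symUm.getD s [] := by
        rw [upper_eq, show C23.code (Lσ s) = cocodeData.syms.getD s idN from hLσ s]
        exact beq_iff_eq.1 (List.all_eq_true.1 symUm_spec s
          (List.mem_range.2 (hw s List.mem_cons_self)))
      have hcons : evG L (s :: w) = liftAut (Lσ s) * evG L w := by simp [evG, L]
      rw [hcons]
      show _ = stepN _ _ (evalW w (x.1, x.2.val))
      rw [← e, stepN]
      show ((((evG L w).1.2 x).1 + corrF (Lσ s) ((evG L w).1.2 x).2),
        (ac (Lσ s) ((evG L w).1.2 x).2).val) = _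
      simp only [corrF, hU, ac, show C23.code (Lσ s) = cocodeData.syms.getD s idN from hLσ s]
  set π' : ExtGroup →* Spor.M23 := extIso.toMonoidHom.comp (QuotientGroup.mk' extProj.ker) with hπ'
  have hπL : ∀ g : loopAut, π' (g : ExtGroup) = g.1.1 := fun g => rfl
  have hLift : hE.IsLift (fun s => (L s : ExtGroup)) := fun s => by
    rw [hπL]; exact hLσ s
  have hcode := cert_cocode
  simp only [certOK, Bool.and_eq_true, decide_eq_true_eq] at hcode
  have hrules := hcode.1.1.2
  have hfac : hE.IsFactor (fun s => (L s : ExtGroup)) (fun r => ruleVals.getD r 0) := by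
    intro r
    have m1 : ∀ w, evG (fun s => (L s : ExtGroup)) w = ((evG L w : loopAut) : ExtGroup) := fun w =>
      (H97.SchurCert.map_evG (QuotientGroup.mk' extraSub) L w).symm
    by_cases hr : r < cocodeData.rules.length
    swap
    · have e : ruleAt cocodeData r = ([], []) := List.getD_eq_default _ _ (Nat.le_of_not_lt hr)
      have e0 : ruleVals.getD r 0 = 0 :=
        List.getD_eq_default ruleVals 0 (by rw [ruleVals_length]; exact Nat.le_of_not_lt hr)
      show evG _ _ = _ * evG _ _
      simp only [e, e0]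
      rw [hE.v_zero, one_mul]
    have hspec := List.all_eq_true.1 rules_spec r (List.mem_range.2 hr)
    simp only [Bool.and_eq_true, List.all_eq_true, decide_eq_true_eq, List.mem_range] at hspec
    obtain ⟨⟨⟨⟨hs1, hs2⟩, hm⟩, heq⟩, hpts⟩ := hspec
    set l := (ruleAt cocodeData r).1 with hl
    set l' := (ruleAt cocodeData r).2 with hl'
    set m := ruleMasks.getD r 0 with hmdef
    have hσ : (evG L l).1.1 = (evG L l').1.1 := by
      rw [hfst, hfst]
      apply C23.inj
      rw [evG_code C23 Lσ cocodeData.syms l hLσ, evG_code C23 Lσ cocodeData.syms l' hLσ, hl, hl']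
      unfold ruleAt
      rw [List.getD_eq_getElem _ _ hr]
      exact beq_iff_eq.1 (List.all_eq_true.1 hrules _ (List.getElem_mem hr))
    have hgrp : evG L l = shiftAut (wordOf m) * evG L l' := by
      obtain ⟨w, hw⟩ := eq_shift_of_one (g := (shiftAut (wordOf m) * evG L l')⁻¹ * evG L l) (by
        show (1 * (evG L l').1.1)⁻¹ * (evG L l).1.1 = 1
        rw [hσ]; simp)
      suffices shiftAut w = 1 by rwa [this, inv_mul_eq_one, eq_comm] at hw
      rw [shiftAut_eq_one_iff, ← dotC_eq_zero_iff]
      intro n hn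
      refine ext_units 12 (dotC w) (fun _ => 0) (dotC_xor w) (fun _ _ => (add_zero 0).symm) ?_ hn
      intro i hi
      have hi' : 2 ^ i < 4096 := Nat.pow_lt_pow_right (a := 2) (n := 12) (by norm_num) hi
      let x : Twist := (0, ⟨2 ^ i, hi'⟩)
      have e : (shiftAut (wordOf m) * evG L l').1.2 x = (evG L l).1.2 x := by
        have e1 := hev l hs1 x
        have e2 := hev l' hs2 x
        have e3 := hpts i hi
        rw [← e1, ← e2] at e3
        simp only [Prod.mk.injEq] at e3
        obtain ⟨e3a, e3b⟩ := e3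
        refine Prod.ext ?_ (Fin.ext e3b.symm)
        show ((evG L l').1.2 x).1 + dotC (wordOf m) ((evG L l').1.2 x).2.val = _
        rw [e3a, dotC, cWord, dot_wordOf _ hm]
      have e4 := congrArg (fun g : loopAut => g.1.2 x) hw
      rw [show ((shiftAut (wordOf m) * evG L l')⁻¹ * evG L l).1.2 x =
        (shiftAut (wordOf m) * evG L l').1.2⁻¹ ((evG L l).1.2 x) from rfl, ← e] at e4
      simp only [Equiv.Perm.inv_def, Equiv.symm_apply_apply] at e4
      have e5 := congrArg Prod.fst e4
      have e6 : x.1 = x.1 + dotC w (2 ^ i) := e5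
      linear_combination -e6
    simp only [eqvC, Bool.and_eq_true, Bool.or_eq_true, decide_eq_true_eq] at heq
    have hsingle : Pi.single none 1 = wordOf (2 ^ 23) :=
      funext fun q => ((wordOf_two_pow 23) q).symm
    have h0 : thetaMap (wordOf (m ^^^ xorSel cocodeDataB (ruleVals.getD r 0))) = 0 := by
      rw [thetaMap_eq_zero, hsingle, ← wordOf_xor]
      rcases heq.2 with h' | h'
      · exact Or.inl ((wordOf_mem_iff heq.1).2 h')
      · exact Or.inr ((wordOf_mem_iff (Nat.xor_lt_two_pow heq.1 (by norm_num))).2 h')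
    rw [wordOf_xor, map_add] at h0
    have h2 : thetaMap (wordOf (xorSel cocodeDataB (ruleVals.getD r 0))) +
        thetaMap (wordOf (xorSel cocodeDataB (ruleVals.getD r 0))) = 0 := by
      rw [← map_add, ← wordOf_xor, Nat.xor_self, wordOf_zero, map_zero]
    have h3 := congrArg (fun t : Additive extProj.ker => (t.toMul : ExtGroup))
      (add_right_cancel (h0.trans h2.symm))
    simp only [thetaMap_coe] at h3
    show evG _ _ = _ * evG _ _
    rw [m1, m1, hgrp, QuotientGroup.mk_mul, h3]
    rfl
  have := hE.cls_eq_zero clsOK_cocode hrules H (by rw [hk]; exact h1) (by rw [hk]; exact h2) hLift hfac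
  rw [cls_value] at this
  exact one_ne_zero this

theorem exists_nonsplit :
    ∃ (E : Type) (_ : Group E) (_ : Finite E) (N : Subgroup E) (_ : N.Normal)
      (φ : E ⧸ N ≃* ↥Spor.M23) (θ : (GolayPt → ZMod 2) →+ Additive ↥N),
      Function.Surjective θ ∧
      (∀ w : GolayPt → ZMod 2, θ w = 0 ↔ (w ∈ golayCode ∨ w + Pi.single none 1 ∈ golayCode)) ∧
      (∀ (g : E) (w : GolayPt → ZMod 2),
        ((θ (w ∘ ⇑(((φ (QuotientGroup.mk g) : ↥Spor.M23) : Equiv.Perm GolayPt)⁻¹))).toMul : E)
          = g * ((θ w).toMul : E) * g⁻¹) ∧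
      ∀ H : Subgroup E, H ⊓ N = ⊥ → H ⊔ N ≠ ⊤ :=
  ⟨ExtGroup, inferInstance, inferInstance, extProj.ker, inferInstance, extIso, thetaMap,
    thetaMap_surjective, thetaMap_eq_zero, thetaMap_conj, no_complement⟩

end H26.ModCert
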