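import Cfsg.Agent.H26.ModCertDefs
import Cfsg.Agent.H97.SchurCert
import Cfsg.Agent.H2.Gaschutz

/-!
Soundness of the certificates: an extension whose class form vanishes has a complement.
-/

set_option autoImplicit false

namespace H26.ModCert

open H90
open H97.SchurCert (Coding evG evG_append evG_congr evG_mem evG_code card_closure_step)

theorem xorSel_nil (n : ℕ) : xorSel [] n = 0 := rfl

theorem xorSel_zero : ∀ l : List ℕ, xorSel l 0 = 0
  | [] => rfl
  | a :: l => by simp [xorSel, xorSel_zero l]

theorem xorSel_all_zero : ∀ (l : List ℕ) (n : ℕ), (∀ x ∈ l, x = 0) → xorSel l n = 0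
  | [], _, _ => rfl
  | a :: l, n, h => by
    rw [xorSel, xorSel_all_zero l _ fun x hx => h x (List.mem_cons_of_mem _ hx),
      h a List.mem_cons_self]
    simp

theorem xorSel_map (A : List ℕ) : ∀ (M : List ℕ) (n : ℕ),
    xorSel (M.map (xorSel A)) n = xorSel A (xorSel M n)
  | [], n => by simp [xorSel, xorSel_zero]
  | a :: M, n => by
    simp only [List.map_cons, xorSel, xorSel_xor, xorSel_map A M]
    split <;> simp [xorSel_zero]

theorem xorSel_zipWith : ∀ (A B : List ℕ) (n : ℕ), A.length = B.length →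
    xorSel (List.zipWith (· ^^^ ·) A B) n = xorSel A n ^^^ xorSel B n
  | [], [], _, _ => by simp [xorSel]
  | a :: A, b :: B, n, h => by
    simp only [List.length_cons, Nat.add_right_cancel_iff] at h
    simp only [List.zipWith_cons_cons, xorSel, xorSel_zipWith A B _ h]
    split <;> simp [Nat.xor_assoc, Nat.xor_left_comm]
  | [], _ :: _, _, h => by simp at h
  | _ :: _, [], _, h => by simp at h

/-- Value of a form. -/
def evF (x : ℕ → ℕ) : Form → ℕ
  | [] => 0
  | q :: F => xorSel q.2 (x q.1) ^^^ evF x F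

theorem evF_append (x : ℕ → ℕ) : ∀ F G : Form, evF x (F ++ G) = evF x F ^^^ evF x G
  | [], G => by simp [evF]
  | q :: F, G => by simp [evF, evF_append x F G, Nat.xor_assoc]

theorem evF_mapF (x : ℕ → ℕ) (A : List ℕ) : ∀ F : Form, evF x (mapF A F) = xorSel A (evF x F)
  | [] => by simp [mapF, evF, xorSel_zero]
  | q :: F => by
    show xorSel (q.2.map (xorSel A)) (x q.1) ^^^ evF x (mapF A F) = _
    rw [evF_mapF x A F, xorSel_map, evF, xorSel_xor]

theorem evF_xor (x y : ℕ → ℕ) : ∀ F : Form,
    evF (fun r => x r ^^^ y r) F = evF x F ^^^ evF y F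
  | [] => by simp [evF]
  | q :: F => by
    simp [evF, evF_xor x y F, xorSel_xor, Nat.xor_assoc, Nat.xor_left_comm]

/-- Value of a collected form. -/
def evD : List (List ℕ) → (ℕ → ℕ) → ℕ
  | [], _ => 0
  | M :: l, x => xorSel M (x 0) ^^^ evD l fun r => x (r + 1)

theorem addAt_lengths : ∀ (l : List (List ℕ)) (r : ℕ) (N : List ℕ) (k : ℕ),
    (∀ M ∈ l, M.length = k) → N.length = k →
    (∀ M ∈ addAt l r N, M.length = k) ∧ (addAt l r N).length = l.length
  | [], _, _, _, _, _ => by simp [addAt]
  | M :: l, 0, N, k, h, hN => by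
    refine ⟨fun A hA => ?_, by simp [addAt]⟩
    rcases List.mem_cons.1 hA with rfl | hA
    · simp [h M List.mem_cons_self, hN]
    · exact h A (List.mem_cons_of_mem _ hA)
  | M :: l, r + 1, N, k, h, hN => by
    obtain ⟨h1, h2⟩ := addAt_lengths l r N k (fun A hA => h A (List.mem_cons_of_mem _ hA)) hN
    refine ⟨fun A hA => ?_, by simp [addAt, h2]⟩
    rcases List.mem_cons.1 hA with rfl | hA
    · exact h _ List.mem_cons_self
    · exact h1 A hA

theorem evD_addAt : ∀ (l : List (List ℕ)) (r : ℕ) (N : List ℕ) (x : ℕ → ℕ),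
    r < l.length → (∀ M ∈ l, M.length = N.length) →
    evD (addAt l r N) x = evD l x ^^^ xorSel N (x r)
  | [], _, _, _, h, _ => by simp at h
  | M :: l, 0, N, x, _, h => by
    simp only [addAt, evD, xorSel_zipWith _ _ _ (h M List.mem_cons_self)]
    simp [Nat.xor_assoc, Nat.xor_comm, Nat.xor_left_comm]
  | M :: l, r + 1, N, x, hr, h => by
    simp only [List.length_cons, Nat.add_lt_add_iff_right] at hr
    simp only [addAt, evD, evD_addAt l r N _ hr fun A hA => h A (List.mem_cons_of_mem _ hA)]
    simp [Nat.xor_assoc]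

theorem evD_zero : ∀ (l : List (List ℕ)) (x : ℕ → ℕ), (∀ M ∈ l, ∀ a ∈ M, a = 0) → evD l x = 0
  | [], _, _ => rfl
  | M :: l, x, h => by
    rw [evD, xorSel_all_zero M _ (h M List.mem_cons_self),
      evD_zero l _ fun A hA => h A (List.mem_cons_of_mem _ hA)]
    simp

theorem evF_dense (R : ℕ) (F : Form) (x : ℕ → ℕ)
    (hF : ∀ q ∈ F, q.1 < R ∧ q.2.length = 11) : evD (dense R F) x = evF x F := by
  have key : ∀ (F : Form) (l : List (List ℕ)), l.length = R → (∀ M ∈ l, M.length = 11) →
      (∀ q ∈ F, q.1 < R ∧ q.2.length = 11) →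
      evD (F.foldl (fun l q => addAt l q.1 q.2) l) x = evD l x ^^^ evF x F := by
    intro F
    induction F with
    | nil => intro l _ _ _; simp [evF]
    | cons q F ih =>
      intro l hl hM hq
      obtain ⟨h1, h2⟩ := hq q List.mem_cons_self
      obtain ⟨a1, a2⟩ := addAt_lengths l q.1 q.2 11 hM h2
      rw [List.foldl_cons, ih _ (a2.trans hl) a1 fun p hp => hq p (List.mem_cons_of_mem _ hp),
        evD_addAt l q.1 q.2 x (hl ▸ h1) (fun M hM' => (hM M hM').trans h2.symm), evF, Nat.xor_assoc]
  have hz : ∀ M ∈ List.replicate R (List.replicate 11 (0 : ℕ)), ∀ a ∈ M, a = 0 := fun M hM a ha => by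
    rw [List.eq_of_mem_replicate hM] at ha
    exact List.eq_of_mem_replicate ha
  rw [dense, key F _ (by simp) (fun M hM => by rw [List.eq_of_mem_replicate hM]; simp) hF,
    evD_zero _ _ hz]
  simp

variable {G E : Type*} [Group G] [Group E] {op : ℕ → ℕ → ℕ} {one : ℕ}

/-- An extension of `G` by a module of dimension 11, with the action given by the certificate. -/
structure Ext (C : Coding G op one) (D : MData) (π : E →* G) (v : ℕ → E) : Prop where
  surj : Function.Surjective π
  v_xor : ∀ a b, v (a ^^^ b) = v a * v b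
  trunc : ∀ n, v (xorSel (idMat 11) n) = v n
  mem : ∀ n, π (v n) = 1
  onto : ∀ e, π e = 1 → ∃ n, v n = e
  inj : ∀ n, v n = 1 → xorSel (idMat 11) n = 0
  act : ∀ s < D.syms.length, ∀ g, C.code (π g) = D.syms.getD s one →
    ∀ n, g * v n = v (xorSel (actAt D s) n) * g
  alen : D.acts.length = D.syms.length

namespace Ext

variable {C : Coding G op one} {D : MData} {π : E →* G} {v : ℕ → E}

theorem v_zero (h : Ext C D π v) : v 0 = 1 := by
  have := h.v_xor 0 0
  rw [Nat.xor_self] at this
  exact mul_eq_left.1 this.symm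

theorem v_sq (h : Ext C D π v) (a : ℕ) : v a * v a = 1 := by
  rw [← h.v_xor, Nat.xor_self, h.v_zero]

theorem v_comm (h : Ext C D π v) (a b : ℕ) : v a * v b = v b * v a := by
  rw [← h.v_xor, ← h.v_xor, Nat.xor_comm]

/-- Lifts of the symbols. -/
def IsLift (h : Ext C D π v) (L : ℕ → E) : Prop := ∀ s, C.code (π (L s)) = D.syms.getD s one

theorem conj_sym (h : Ext C D π v) {L : ℕ → E} (hL : h.IsLift L) (s n : ℕ) :
    L s * v n = v (xorSel (actAt D s) n) * L s := by
  by_cases hs : s < D.syms.length
  · exact h.act s hs _ (hL s) n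
  · have hk : π (L s) = 1 := C.inj (by
      rw [hL s, List.getD_eq_default _ _ (Nat.le_of_not_lt hs), C.map_one])
    obtain ⟨m, hm⟩ := h.onto _ hk
    rw [← hm, actAt, List.getD_eq_default _ _ (by rw [h.alen]; exact Nat.le_of_not_lt hs),
      h.trunc, h.v_comm]

theorem conj_word (h : Ext C D π v) {L : ℕ → E} (hL : h.IsLift L) :
    ∀ (w : List ℕ) (n : ℕ), evG L w * v n = v (xorSel (actW D w) n) * evG L w
  | [], n => by simp [evG, actW, h.trunc]
  | s :: w, n => by
    have e : evG L (s :: w) = L s * evG L w := by simp [evG]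
    rw [e, mul_assoc, h.conj_word hL w n, ← mul_assoc, h.conj_sym hL, mul_assoc]
    rw [show actW D (s :: w) = (actW D w).map (xorSel (actAt D s)) from rfl, xorSel_map]

/-- The factors of the rules. -/
def IsFactor (h : Ext C D π v) (L : ℕ → E) (x : ℕ → ℕ) : Prop :=
  ∀ r, evG L (ruleAt D r).1 = v (x r) * evG L (ruleAt D r).2

theorem isFactor_flip (h : Ext C D π v) {L : ℕ → E} {x : ℕ → ℕ} (hx : h.IsFactor L x) (r : ℕ) :
    evG L (ruleAt D r).2 = v (x r) * evG L (ruleAt D r).1 := by
  rw [hx r, ← mul_assoc, h.v_sq, one_mul]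

theorem runM_spec (h : Ext C D π v) {L : ℕ → E} (hL : h.IsLift L) {x : ℕ → ℕ}
    (hx : h.IsFactor L x) : ∀ (steps : List (ℕ × ℕ × Bool)) (w w' : List ℕ) (F : Form),
      runM D steps w = some (w', F) → evG L w = v (evF x F) * evG L w'
  | [], w, w', F, e => by
    simp only [runM, Option.some.injEq, Prod.mk.injEq] at e
    rw [← e.1, ← e.2, evF, h.v_zero, one_mul]
  | (t, r, fwd) :: rest, w, w', F, e => by
    simp only [runM] at e
    set l := if fwd then (ruleAt D r).1 else (ruleAt D r).2 with hl
    set l' := if fwd then (ruleAt D r).2 else (ruleAt D r).1 with hl'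
    have hll : evG L l = v (x r) * evG L l' := by
      cases fwd
      · exact h.isFactor_flip hx r
      · exact hx r
    by_cases hm : (w.drop t).take l.length = l
    · rw [if_pos (beq_iff_eq.2 hm)] at e
      simp only [Option.map_eq_some_iff, Prod.mk.injEq] at e
      obtain ⟨⟨w₁, F₁⟩, h₁, rfl, rfl⟩ := e
      have ih := h.runM_spec hL hx rest _ _ _ h₁
      rw [evG_append, evG_append] at ih
      have hw : w = w.take t ++ l ++ w.drop (t + l.length) := by
        conv_lhs => rw [← List.take_append_drop t w, ← List.take_append_drop l.length (w.drop t),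
          hm, List.drop_drop]
        rw [List.append_assoc]
      conv_lhs => rw [hw, evG_append, evG_append, hll, ← mul_assoc (evG L (List.take t w)),
        h.conj_word hL, mul_assoc (v _), mul_assoc (v _), ih, ← mul_assoc]
      rw [evF, h.v_xor]
    · rw [if_neg (fun e' => hm (beq_iff_eq.1 e'))] at e
      exact absurd e (by simp)

theorem path_zero (h : Ext C D π v) {L : ℕ → E} (hL : h.IsLift L) {x : ℕ → ℕ}
    (hx : h.IsFactor L x) (e : ℕ) : v (evF x (pathForm D e)) = 1 := by
  unfold pathForm
  rcases D.paths.getD e ([], []) with ⟨w, steps⟩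
  simp only
  split
  · rename_i w' F hrun
    split_ifs with heq
    · have := h.runM_spec hL hx steps w w' F hrun
      rw [beq_iff_eq.1 heq] at this
      exact mul_eq_right.1 this.symm
    · exact h.v_zero
  · exact h.v_zero

theorem delta_spec (h : Ext C D π v) {L : ℕ → E} (hL : h.IsLift L) (x : ℕ → ℕ) :
    ∀ w : List ℕ, evG (fun s => v (evF x (D.corr.getD s [])) * L s) w =
      v (evF x (deltaW D w)) * evG L w
  | [] => by simp [evG, deltaW, evF, h.v_zero]
  | s :: w => by
    have e1 : ∀ f : ℕ → E, evG f (s :: w) = f s * evG f w := fun f => by simp [evG]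
    rw [e1, h.delta_spec hL x w, e1 L, deltaW, evF_append, evF_mapF, h.v_xor]
    simp only [mul_assoc]
    congr 1
    rw [← mul_assoc, h.conj_sym hL, mul_assoc]

theorem exists_factor (h : Ext C D π v) (hrules : rulesOK op one D = true) {L : ℕ → E}
    (hL : h.IsLift L) : ∃ x, h.IsFactor L x := by
  have hz : ∀ r, π (evG L (ruleAt D r).1 * (evG L (ruleAt D r).2)⁻¹) = 1 := by
    intro r
    rw [map_mul, map_inv, mul_inv_eq_one]
    apply C.inj
    rw [H97.SchurCert.map_evG, H97.SchurCert.map_evG, evG_code C _ D.syms _ hL,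
      evG_code C _ D.syms _ hL]
    unfold ruleAt
    by_cases hi : r < D.rules.length
    · rw [List.getD_eq_getElem _ _ hi]
      exact beq_iff_eq.1 (List.all_eq_true.1 hrules _ (List.getElem_mem hi))
    · rw [List.getD_eq_default _ _ (Nat.le_of_not_lt hi)]
  choose x hx using fun r => h.onto _ (hz r)
  exact ⟨x, fun r => by rw [hx r]; group⟩

/-- The class of the extension. -/
def cls (D : MData) (x : ℕ → ℕ) : ℕ := evF x D.cls % 2

theorem cls_xor (x y : ℕ → ℕ) : cls D (fun r => x r ^^^ y r) = (cls D x + cls D y) % 2 := by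
  rw [cls, cls, cls, evF_xor, Nat.xor_mod_two_eq]
  omega

/-- A vanishing class gives a complement. -/
theorem exists_complement [Finite E] (h : Ext C D π v) (hlin : linearOK D = true)
    (hpc : pcOK D = true) (hsize : sizeOK op one D = true) {M : ℕ}
    (hcard : Nat.card G = 2 ^ D.n * M) (hM : ¬ 2 ∣ M) {L : ℕ → E} (hL : h.IsLift L) {x : ℕ → ℕ}
    (hx : h.IsFactor L x) (hc : cls D x = 0) :
    ∃ H : Subgroup E, H ⊓ π.ker = ⊥ ∧ H ⊔ π.ker = ⊤ := by
  classical
  haveI : Finite G := Finite.of_surjective π h.surj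
  set L' : ℕ → E := fun s => v (evF x (D.corr.getD s [])) * L s with hL'
  simp only [linearOK, Bool.and_eq_true, List.all_eq_true, beq_iff_eq, decide_eq_true_eq,
    List.mem_range] at hlin
  obtain ⟨⟨hC, hK⟩, htg⟩ := hlin
  have hkill : ∀ r ∈ D.targets, evG L' (ruleAt D r).1 = evG L' (ruleAt D r).2 := by
    intro r hr
    obtain ⟨k, hk, rfl⟩ := List.getElem_of_mem hr
    obtain ⟨hF, hzero⟩ := htg k hk
    have hsum : evF x (targetForm D k) = 0 := by
      rw [← evF_dense _ _ x hF]
      exact evD_zero _ _ hzero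
    have hcomb : ∀ c : Form, (∀ eC ∈ c, (idMat 11).map (xorSel eC.2) = eC.2) →
        evF x (c.flatMap fun eC => mapF eC.2 (pathForm D eC.1)) = 0 := by
      intro c
      induction c with
      | nil => intro _; rfl
      | cons q c ih =>
        intro hq
        rw [List.flatMap_cons, evF_append, ih fun p hp => hq p (List.mem_cons_of_mem _ hp),
          evF_mapF, ← hq q List.mem_cons_self, xorSel_map,
          h.inj _ (h.path_zero hL hx q.1), xorSel_zero]
        simp
    have h1 : evF x ((D.combos.getD k []).flatMap fun eC => mapF eC.2 (pathForm D eC.1)) = 0 := by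
      refine hcomb _ fun eC heC => ?_
      by_cases hkc : k < D.combos.length
      · rw [List.getD_eq_getElem _ _ hkc] at heC
        exact hC _ (List.getElem_mem hkc) eC heC
      · rw [List.getD_eq_default _ _ (Nat.le_of_not_lt hkc)] at heC
        simp at heC
    have h2 : evF x (mapF (D.clsVec.getD k []) D.cls) = 0 := by
      rw [evF_mapF]
      by_cases hkc : k < D.clsVec.length
      · rw [List.getD_eq_getElem _ _ hkc]
        obtain ⟨a, ha⟩ := List.length_eq_one_iff.1 (hK _ (List.getElem_mem hkc))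
        rw [ha, xorSel, show evF x D.cls % 2 = 0 from hc]
        simp [xorSel]
      · rw [List.getD_eq_default _ _ (Nat.le_of_not_lt hkc)]
        rfl
    rw [show targetForm D k = (D.targets.getD k 0, idMat 11) ::
      (deltaW D (ruleAt D (D.targets.getD k 0)).1 ++ deltaW D (ruleAt D (D.targets.getD k 0)).2 ++
        (D.combos.getD k []).flatMap (fun eC => mapF eC.2 (pathForm D eC.1)) ++
        mapF (D.clsVec.getD k []) D.cls) from rfl, evF, evF_append, evF_append, evF_append,
      h1, h2, List.getD_eq_getElem _ _ hk, Nat.xor_zero, Nat.xor_zero] at hsum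
    have hv := congrArg v hsum
    rw [h.v_xor, h.v_xor, h.trunc, h.v_zero] at hv
    rw [hL', h.delta_spec hL, h.delta_spec hL, hx, ← mul_assoc]
    congr 1
    calc v (evF x (deltaW D (ruleAt D D.targets[k]).1)) * v (x D.targets[k])
        = v (x D.targets[k]) * (v (evF x (deltaW D (ruleAt D D.targets[k]).1)) *
            v (evF x (deltaW D (ruleAt D D.targets[k]).2))) *
          v (evF x (deltaW D (ruleAt D D.targets[k]).2)) := by
          rw [h.v_comm, mul_assoc, mul_assoc, h.v_sq, mul_one]
      _ = v (evF x (deltaW D (ruleAt D D.targets[k]).2)) := by rw [hv, one_mul]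
  have hπ : ∀ s, C.code (π (L' s)) = D.syms.getD s one := fun s => by
    rw [hL', map_mul, h.mem, one_mul]
    exact hL s
  have hπev : ∀ w, C.code (π (evG L' w)) = H97.SchurCert.evW op one D.syms w := fun w => by
    rw [H97.SchurCert.map_evG]
    exact evG_code C _ D.syms _ hπ
  simp only [pcOK, List.all_eq_true, List.mem_range, Bool.and_eq_true, List.any_eq_true,
    Bool.or_eq_true, beq_iff_eq, decide_eq_true_eq] at hpc
  let S : ℕ → Subgroup E := fun i => Subgroup.closure (L' '' {k | i ≤ k ∧ k < D.n})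
  have hgenS : ∀ i k, i ≤ k → k < D.n → L' k ∈ S i := fun i k h1 h2 =>
    Subgroup.subset_closure ⟨k, ⟨h1, h2⟩, rfl⟩
  have hwS : ∀ i (w : List ℕ), (∀ s ∈ w, i < s ∧ s < D.n) → evG L' w ∈ S (i + 1) :=
    fun i w hw =>
      evG_mem (S := (S (i + 1)).toSubmonoid) fun s hs => hgenS _ _ (hw s hs).1 (hw s hs).2
  have hSn : S D.n = ⊥ := by
    simp only [S]
    rw [Subgroup.closure_eq_bot_iff]
    rintro y ⟨k, hk, rfl⟩
    have h1 := hk.1
    have h2 := hk.2
    omega
  have hStep : ∀ i < D.n, Nat.card (S i) ≤ 2 * Nat.card (S (i + 1)) := by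
    intro i hi
    obtain ⟨⟨r, hr, hrl, hr2⟩, hconj⟩ := hpc i hi
    refine card_closure_step (by norm_num) (L' i) (S (i + 1)) ?_ ?_ _ ?_
    · have e := hkill r hr
      rw [hrl] at e
      rw [show L' i ^ 2 = evG L' (List.replicate 2 i) by
        rw [evG, List.map_replicate, List.prod_replicate], e]
      exact hwS i _ hr2
    · intro y hy
      induction hy using Subgroup.closure_induction with
      | mem z hz =>
        obtain ⟨j, ⟨hij, hjn⟩, rfl⟩ := hz
        obtain ⟨r, hr, ⟨hl, hhd⟩, htl⟩ := (hconj j hjn).resolve_left (by omega)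
        have e := hkill r hr
        rw [hl] at e
        obtain ⟨tl, htl'⟩ := List.head?_eq_some_iff.1 hhd
        rw [htl'] at e htl
        have e' : L' j * L' i = L' i * evG L' tl := by simpa [evG] using e
        rw [mul_assoc, e', inv_mul_cancel_left]
        exact hwS i tl htl
      | one => simp
      | mul a b _ _ ha hb =>
        have := mul_mem ha hb
        simpa [mul_assoc] using this
      | inv a _ ha =>
        have := inv_mem ha
        simpa [mul_assoc] using this
    · rintro y ⟨k, ⟨h1, h2⟩, rfl⟩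
      rcases h1.eq_or_lt with rfl | h3
      · exact Or.inl rfl
      · exact Or.inr (hgenS _ _ h3 h2)
  have hcardS : ∀ d ≤ D.n, Nat.card (S (D.n - d)) ≤ 2 ^ d := by
    intro d
    induction d with
    | zero => intro _; rw [Nat.sub_zero, hSn, Subgroup.card_bot, pow_zero]
    | succ d ih =>
      intro hd
      refine (hStep _ (by omega)).trans ?_
      rw [show D.n - (d + 1) + 1 = D.n - d by omega, pow_succ']
      exact Nat.mul_le_mul_left _ (ih (by omega))
  have hS0 : Nat.card (S 0) ≤ 2 ^ D.n := by simpa using hcardS D.n le_rfl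
  simp only [sizeOK, Bool.and_eq_true, decide_eq_true_eq, beq_iff_eq] at hsize
  set P : Subgroup G := (S 0).map π with hP
  have hPge : 2 ^ D.n ≤ Nat.card P := by
    have hnd := (H97.SchurCert.increasing_nodup _ hsize.2).imp (fun h => ne_of_lt h)
    let f : Fin D.sorted.length → P := fun k =>
      ⟨π (evG L' ((List.range D.n).flatMap fun i =>
          List.replicate (D.sorted[k.val] / 2 ^ i % 2) i)),
        Subgroup.mem_map_of_mem π (evG_mem (S := (S 0).toSubmonoid) fun s hs => by
          obtain ⟨i, hi, hs'⟩ := List.mem_flatMap.1 hs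
          rw [List.eq_of_mem_replicate hs']
          exact hgenS 0 i (Nat.zero_le _) (List.mem_range.1 hi))⟩
    have hf : Function.Injective f := by
      intro a b hab
      have e := congrArg (fun y : P => C.code y.1) hab
      simp only [f, hπev] at e
      by_contra hne
      have hne' : a.val ≠ b.val := fun e' => hne (Fin.ext e')
      have hinj := List.pairwise_iff_getElem.1 hnd
      rcases Nat.lt_or_gt_of_ne hne' with hl | hl
      · have := hinj a.val b.val (by simp) (by simp) hl
        simp only [List.getElem_map, prodCode] at this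
        exact this e
      · have := hinj b.val a.val (by simp) (by simp) hl
        simp only [List.getElem_map, prodCode] at this
        exact this e.symm
    have := Nat.card_le_card_of_injective f hf
    rwa [Nat.card_fin, hsize.1.2] at this
  have hPle : Nat.card P ≤ Nat.card (S 0) :=
    Nat.card_le_card_of_surjective _ (π.subgroupMap_surjective (S 0))
  have hPeq : Nat.card P = 2 ^ D.n := le_antisymm (hPle.trans hS0) hPge
  have hbot : S 0 ⊓ π.ker = ⊥ := by
    rw [eq_bot_iff]
    rintro y ⟨hy, hy1⟩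
    have hb : Function.Bijective (π.subgroupMap (S 0)) :=
      (Nat.bijective_iff_surjective_and_card _).2
        ⟨π.subgroupMap_surjective (S 0), le_antisymm (hS0.trans hPeq.ge) hPle⟩
    have : (⟨y, hy⟩ : S 0) = 1 := hb.1 (Subtype.ext (hy1.trans π.map_one.symm))
    exact congrArg Subtype.val this
  haveI : IsMulCommutative π.ker := ⟨⟨fun a b => by
    obtain ⟨m, hm⟩ := h.onto a.1 a.2
    obtain ⟨n, hn⟩ := h.onto b.1 b.2
    exact Subtype.ext (by rw [Subgroup.coe_mul, Subgroup.coe_mul, ← hm, ← hn, h.v_comm])⟩⟩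
  have hker2 : IsPGroup 2 π.ker := fun a => ⟨1, by
    obtain ⟨m, hm⟩ := h.onto a.1 a.2
    exact Subtype.ext (by rw [SubmonoidClass.coe_pow, pow_one, pow_two, ← hm, h.v_sq]; rfl)⟩
  haveI : Fact (Nat.Prime 2) := ⟨Nat.prime_two⟩
  obtain ⟨k, hk⟩ := IsPGroup.iff_card.1 hker2
  set U : Subgroup E := P.comap π with hU
  have hKU : π.ker ≤ U := fun y hy => by
    show π y ∈ P
    rw [MonoidHom.mem_ker.1 hy]; exact one_mem _
  have hidx : U.index = M := by
    rw [hU, Subgroup.index_comap_of_surjective _ h.surj]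
    have := Subgroup.card_mul_index P
    rw [hPeq, hcard] at this
    exact mul_left_cancel₀ (pow_ne_zero _ two_ne_zero) this
  have hSU : S 0 ≤ U := fun y hy => Subgroup.mem_map_of_mem π hy
  have hsup : π.ker ⊔ S 0 = U := by
    refine le_antisymm (sup_le hKU hSU) fun y hy => ?_
    obtain ⟨s, hs, e⟩ := (show π y ∈ P from hy)
    rw [show y = (y * s⁻¹) * s by group]
    exact Subgroup.mul_mem_sup (by rw [MonoidHom.mem_ker, map_mul, map_inv, e, mul_inv_cancel]) hs
  obtain ⟨H, hH⟩ := H2.gaschutz_exists (K := π.ker) hKU (by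
    rw [hidx, hk]
    exact Nat.Coprime.pow_left _ ((Nat.Prime.coprime_iff_not_dvd Nat.prime_two).2 hM))
    (S 0) hSU hbot hsup
  exact ⟨H, (inf_comm _ _).trans (disjoint_iff.1 hH.disjoint), (sup_comm _ _).trans hH.sup_eq_top⟩

end Ext

end H26.ModCert
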