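import Cfsg.Agent.H97.SchurCertDefs
import Cfsg.Agent.H90.Code

/-!
Checkable certificates for extensions of a group by an elementary abelian 2-group.

As in the multiplier certificates, rules are equations between words holding in the group; in
the extension each holds up to a left factor in the module. A closed path of rule applications
gives a linear equation between the factors; the matrices are lists of images of the unit
vectors, coded as numbers.
-/

set_option autoImplicit false

namespace H26.ModCert

open H90

/-- Unit vectors. -/
def idMat (k : ℕ) : List ℕ := (List.range k).map (2 ^ ·)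

/-- A linear form in the rule factors: a sum of matrices applied to factors. -/
abbrev Form := List (ℕ × List ℕ)

/-- The certificate. -/
structure MData where
  n : ℕ
  syms : List ℕ
  acts : List (List ℕ)
  rules : List (List ℕ × List ℕ)
  targets : List ℕ
  paths : List (List ℕ × List (ℕ × ℕ × Bool))
  combos : List Form
  corr : List Form
  cls : Form
  clsVec : List (List ℕ)
  sorted : List ℕ

/-- Action matrix of a symbol. -/
def actAt (D : MData) (s : ℕ) : List ℕ := D.acts.getD s (idMat 11)

/-- A rule by index. -/
def ruleAt (D : MData) (r : ℕ) : List ℕ × List ℕ := D.rules.getD r ([], [])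

/-- Action matrix of a word. -/
def actW (D : MData) (w : List ℕ) : List ℕ :=
  w.foldr (fun s M => M.map (xorSel (actAt D s))) (idMat 11)

/-- Apply a matrix to a form. -/
def mapF (A : List ℕ) (F : Form) : Form := F.map fun q => (q.1, q.2.map (xorSel A))

/-- Apply rules along a path, recording the form of the factor. -/
def runM (D : MData) : List (ℕ × ℕ × Bool) → List ℕ → Option (List ℕ × Form)
  | [], w => some (w, [])
  | (t, r, fwd) :: rest, w =>
    if (w.drop t).take (if fwd then (ruleAt D r).1 else (ruleAt D r).2).length ==
        (if fwd then (ruleAt D r).1 else (ruleAt D r).2) then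
      (runM D rest (w.take t ++ (if fwd then (ruleAt D r).2 else (ruleAt D r).1) ++
          w.drop (t + (if fwd then (ruleAt D r).1 else (ruleAt D r).2).length))).map
        fun q => (q.1, (r, actW D (w.take t)) :: q.2)
    else none

/-- The form of a closed path; empty unless the path is closed. -/
def pathForm (D : MData) (e : ℕ) : Form :=
  match D.paths.getD e ([], []) with
  | (w, steps) => match runM D steps w with
    | some (w', F) => if w' == w then F else []
    | none => []

/-- The correction of a word by the changed lifts. -/
def deltaW (D : MData) : List ℕ → Form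
  | [] => []
  | s :: w => D.corr.getD s [] ++ mapF (actAt D s) (deltaW D w)

/-- Add a matrix at a position. -/
def addAt : List (List ℕ) → ℕ → List ℕ → List (List ℕ)
  | [], _, _ => []
  | M :: l, 0, N => List.zipWith (· ^^^ ·) M N :: l
  | M :: l, r + 1, N => M :: addAt l r N

/-- Collect a form by rules. -/
def dense (R : ℕ) (F : Form) : List (List ℕ) :=
  F.foldl (fun l q => addAt l q.1 q.2) (List.replicate R (List.replicate 11 0))

/-- The sum that must vanish at target `k`. -/
def targetForm (D : MData) (k : ℕ) : Form :=
  let r := D.targets.getD k 0
  (r, idMat 11) :: (deltaW D (ruleAt D r).1 ++ deltaW D (ruleAt D r).2 ++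
    (D.combos.getD k []).flatMap (fun eC => mapF eC.2 (pathForm D eC.1)) ++
    mapF (D.clsVec.getD k []) D.cls)

/-- The linear algebra. -/
def linearOK (D : MData) : Bool :=
  (D.combos.all fun c => c.all fun eC => (idMat 11).map (xorSel eC.2) == eC.2) &&
  (D.clsVec.all fun K => K.length == 1) &&
  (List.range D.targets.length).all fun k =>
    ((targetForm D k).all fun q => decide (q.1 < D.rules.length) && q.2.length == 11) &&
      (dense D.rules.length (targetForm D k)).all fun M => M.all fun x => x == 0

/-- Power and conjugation rules among the targets. -/
def pcOK (D : MData) : Bool :=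
  (List.range D.n).all fun i =>
    (D.targets.any fun r => (ruleAt D r).1 == List.replicate 2 i &&
      ((ruleAt D r).2.all fun s => decide (i < s) && decide (s < D.n))) &&
    ((List.range D.n).all fun j => decide (j ≤ i) || D.targets.any fun r =>
      (ruleAt D r).1 == [j, i] && (ruleAt D r).2.head? == some i &&
      ((ruleAt D r).2.tail.all fun s => decide (i < s) && decide (s < D.n)))

/-- Every rule holds in the group. -/
def rulesOK (op : ℕ → ℕ → ℕ) (one : ℕ) (D : MData) : Bool :=
  D.rules.all fun r =>
    H97.SchurCert.evW op one D.syms r.1 == H97.SchurCert.evW op one D.syms r.2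

/-- Code of the product with exponent vector `e`. -/
def prodCode (op : ℕ → ℕ → ℕ) (one : ℕ) (D : MData) (e : ℕ) : ℕ :=
  H97.SchurCert.evW op one D.syms
    ((List.range D.n).flatMap fun i => List.replicate (e / 2 ^ i % 2) i)

/-- The products are pairwise distinct. -/
def sizeOK (op : ℕ → ℕ → ℕ) (one : ℕ) (D : MData) : Bool :=
  decide (D.n ≤ D.syms.length) && D.sorted.length == 2 ^ D.n &&
    H97.SchurCert.increasing (D.sorted.map (prodCode op one D))

end H26.ModCert
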