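import Mathlib
import Cfsg.Prelude.Def_Solvable
import Cfsg.Agent.H26.OrderCount

/-!
Solvable groups all of whose elements have prime order: a Frobenius complement of prime order.
-/

set_option autoImplicit false
set_option linter.all false

open Subgroup
open scoped Pointwise

namespace H26

variable {G : Type*} [Group G] [Finite G]

omit [Finite G] in
theorem mul_pow_conjNormal {N : Subgroup G} [N.Normal] (hcomm : ∀ a b : N, a * b = b * a) (w : N) (g : G)
    (k : ℕ) : letI : CommGroup N := { (inferInstance : Group N) with mul_comm := hcomm }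
    ((w : G) * g) ^ k = ((∏ i ∈ Finset.range k, MulAut.conjNormal (g ^ i) w : N) : G) * g ^ k := by
  letI : CommGroup N := { (inferInstance : Group N) with mul_comm := hcomm }
  induction k with
  | zero => simp
  | succ k ih =>
    rw [pow_succ, ih, Finset.prod_range_succ, Subgroup.coe_mul, MulAut.conjNormal_apply]
    group

/-- If all elements have prime order `p` or `q` and `N` is a normal abelian `q`-subgroup, the norm
of any element of prime order on `N` is trivial. -/
theorem prod_conj_eq_one {p q : ℕ} (hall : ∀ x : G, x ^ p = 1 ∨ x ^ q = 1) (hp : p.Prime) (hq : q.Prime)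
    {N : Subgroup G} [N.Normal] (hcomm : ∀ a b : N, a * b = b * a) (hN : ∀ w ∈ N, w ^ q = 1)
    {g : G} {r : ℕ} (hr : r.Prime) (hg : orderOf g = r) (w : N) :
    letI : CommGroup N := { (inferInstance : Group N) with mul_comm := hcomm }
    (∏ k ∈ Finset.range r, MulAut.conjNormal (g ^ k) w : N) = 1 := by
  letI : CommGroup N := { (inferInstance : Group N) with mul_comm := hcomm }
  have hgr : g ^ r = 1 := hg ▸ pow_orderOf_eq_one g
  have key : ((w : G) * g) ^ r = 1 := by
    by_cases hgN : g ∈ N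
    · have hdvd : r ∣ q := hg ▸ orderOf_dvd_of_pow_eq_one (hN g hgN)
      rw [(Nat.prime_dvd_prime_iff_eq hr hq).1 hdvd]
      exact hN _ (mul_mem w.2 hgN)
    · obtain ⟨s, hs, hs1⟩ : ∃ s : ℕ, s.Prime ∧ ((w : G) * g) ^ s = 1 := by
        rcases hall ((w : G) * g) with h | h
        · exact ⟨p, hp, h⟩
        · exact ⟨q, hq, h⟩
      by_cases hsr : s = r
      · rwa [← hsr]
      · exfalso
        have h1 := mul_pow_conjNormal hcomm w g s
        rw [hs1] at h1
        have h2 : g ^ s ∈ N := by
          rw [eq_inv_of_mul_eq_one_right h1.symm]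
          exact inv_mem (SetLike.coe_mem _)
        have h3 : orderOf (QuotientGroup.mk g : G ⧸ N) ∣ Nat.gcd s r := by
          refine Nat.dvd_gcd (orderOf_dvd_of_pow_eq_one ?_) (orderOf_dvd_of_pow_eq_one ?_)
          · rw [← QuotientGroup.mk_pow, QuotientGroup.eq_one_iff]; exact h2
          · rw [← QuotientGroup.mk_pow, hgr, QuotientGroup.mk_one]
        rw [(Nat.coprime_primes hs hr).2 hsr, Nat.dvd_one, orderOf_eq_one_iff, QuotientGroup.eq_one_iff] at h3
        exact hgN h3
  have h1 := mul_pow_conjNormal hcomm w g r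
  rw [key, hgr, mul_one] at h1
  exact Subtype.ext h1.symm

theorem exists_complement_aux {p q : ℕ} [hpF : Fact p.Prime] (hq : q.Prime) (hpq : p ≠ q)
    (hall : ∀ x : G, x ^ p = 1 ∨ x ^ q = 1)
    (hnc : ∀ u v : G, orderOf u = p → orderOf v = q → ¬ Commute u v)
    (N : Subgroup G) [N.Normal] (hcomm : ∀ a b : N, a * b = b * a) (hN : ∀ w ∈ N, w ^ q = 1)
    {w0 : G} (hw0 : w0 ∈ N) (hw01 : w0 ≠ 1) (hpd : p ∣ Nat.card G) :
    ∃ C : Subgroup G, Cfsg.IsFrobeniusComplement C ∧ (Nat.card C).Prime := by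
  classical
  have hp : p.Prime := hpF.out
  letI : CommGroup N := { (inferInstance : Group N) with mul_comm := hcomm }
  haveI := Fintype.ofFinite G
  obtain ⟨P⟩ : Nonempty (Sylow p G) := inferInstance
  have hPexp : ∀ x ∈ (P : Subgroup G), x ^ p = 1 := by
    intro x hx
    rcases hall x with h | h
    · exact h
    · obtain ⟨k, hk⟩ := IsPGroup.iff_orderOf.1 P.2 ⟨x, hx⟩
      rw [Subgroup.orderOf_mk] at hk
      have h1 := orderOf_dvd_of_pow_eq_one h
      rw [hk] at h1
      rcases k with _ | k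
      · rw [pow_zero, orderOf_eq_one_iff] at hk; rw [hk, one_pow]
      · exact absurd ((Nat.prime_dvd_prime_iff_eq hp hq).1 ((dvd_pow_self p k.succ_ne_zero).trans h1)) hpq
  haveI : Nontrivial (P : Subgroup G) :=
    (Subgroup.nontrivial_iff_ne_bot _).2 (P.ne_bot_of_dvd_card hpd)
  obtain ⟨⟨b, hbc⟩, hb1⟩ := (nontrivial_iff_exists_ne (1 : Subgroup.center (P : Subgroup G))).1
    P.2.center_nontrivial
  have hbG : (b : G) ≠ 1 := fun h => hb1 (Subtype.ext (Subtype.ext h))
  have hob : orderOf (b : G) = p := orderOf_eq_prime (hPexp _ b.2) hbG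
  have hcardB : Fintype.card (Subgroup.zpowers (b : G)) = p := by
    rw [← Nat.card_eq_fintype_card, Nat.card_zpowers, hob]
  have hB : ∀ w : N, ∏ y : Subgroup.zpowers (b : G), MulAut.conjNormal (y : G) w = 1 := by
    intro w
    rw [← Fintype.prod_equiv (finEquivZPowers (isOfFinOrder_of_finite (b : G)))
      (fun i => MulAut.conjNormal ((b : G) ^ (i : ℕ)) w) _ (fun i => by rw [finEquivZPowers_apply]),
      ← Finset.prod_range (fun i => MulAut.conjNormal ((b : G) ^ i) w), hob]
    exact prod_conj_eq_one hall hp hq hcomm hN hp hob w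
  have hw0' : (⟨w0, hw0⟩ : N) ^ p ≠ 1 := by
    intro h
    have h1 : orderOf w0 ∣ Nat.gcd p q := Nat.dvd_gcd
      (orderOf_dvd_of_pow_eq_one (congrArg Subtype.val h)) (orderOf_dvd_of_pow_eq_one (hN w0 hw0))
    rw [(Nat.coprime_primes hp hq).2 hpq, Nat.dvd_one, orderOf_eq_one_iff] at h1
    exact hw01 h1
  -- the Sylow subgroup has prime order
  have hPB : (P : Subgroup G) = Subgroup.zpowers (b : G) := by
    refine le_antisymm ?_ (Subgroup.zpowers_le.2 b.2)
    intro a ha
    by_contra haB
    have hcB : ∀ x : Subgroup.zpowers (b : G), Commute (x : G) a := by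
      rintro ⟨x, i, rfl⟩
      have h1 : a * (b : G) = (b : G) * a :=
        congrArg Subtype.val (Subgroup.mem_center_iff.1 hbc ⟨a, ha⟩)
      exact Commute.zpow_left (show Commute (b : G) a from h1.symm) i
    refine hw0' ?_
    rw [← hcardB]
    refine norm_eq_one MulAut.conjNormal (Subgroup.zpowers (b : G)) (fun x => (x : G) * a) p hp.pos
      (fun k => a ^ k) (fun k x => x ^ k) ?_ ?_ hB ?_ _
    · intro k hk0 hkp
      exact (powCoprime (G := Subgroup.zpowers (b : G)) (n := k) (by
        rw [Nat.card_zpowers, hob, hp.coprime_iff_not_dvd]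
        exact fun hd => absurd (Nat.le_of_dvd hk0 hd) (by omega))).bijective
    · intro x k _ _
      rw [(hcB x).mul_pow, Subgroup.coe_pow]
    · intro x w
      refine prod_conj_eq_one hall hp hq hcomm hN hp (orderOf_eq_prime ?_ ?_) w
      · exact hPexp _ (mul_mem (Subgroup.zpowers_le.2 b.2 x.2) ha)
      · intro h1
        exact haB (eq_inv_of_mul_eq_one_right h1 ▸ inv_mem x.2)
  -- it is self-normalising
  have hnorm : ∀ g : G, g ∈ Subgroup.normalizer ((P : Subgroup G) : Set G) → g ∈ (P : Subgroup G) := by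
    intro g hg
    by_cases hg1 : g = 1
    · rw [hg1]; exact one_mem _
    rcases hall g with h | h
    · have hle : P.1 ⊔ Subgroup.zpowers g ≤ P.1 := by
        refine le_of_eq (P.3 ?_ le_sup_left)
        exact IsPGroup.to_sup_of_normal_left' P.2
          (IsPGroup.of_card (n := 1) (by rw [Nat.card_zpowers, orderOf_eq_prime (hp := hpF) h hg1, pow_one]))
          (Subgroup.zpowers_le.2 hg)
      exact hle (Subgroup.mem_sup_right (Subgroup.mem_zpowers g))
    · exfalso
      haveI := Fact.mk hq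
      have hog : orderOf g = q := orderOf_eq_prime h hg1
      refine hw0' ?_
      rw [← hcardB]
      have hmem : ∀ (k : ℕ) (x : G), x ∈ Subgroup.zpowers (b : G) →
          x * (g ^ k * x⁻¹ * (g ^ k)⁻¹) ∈ Subgroup.zpowers (b : G) := by
        intro k x hx
        have hx' := hPB.ge hx
        exact hPB.le (mul_mem hx' ((Subgroup.mem_normalizer_iff.1 (pow_mem hg k) x⁻¹).1 (inv_mem hx')))
      refine norm_eq_one MulAut.conjNormal (Subgroup.zpowers (b : G)) (fun x => (x : G) * g * (x : G)⁻¹) q
        hq.pos (fun k => g ^ k) (fun k x => ⟨_, hmem k x.1 x.2⟩) ?_ ?_ hB ?_ _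
      · intro k hk0 hkq
        refine Finite.injective_iff_bijective.1 fun x y hxy => ?_
        have h1 : (x : G) * (g ^ k * (x : G)⁻¹ * (g ^ k)⁻¹) = (y : G) * (g ^ k * (y : G)⁻¹ * (g ^ k)⁻¹) :=
          congrArg Subtype.val hxy
        by_contra hne
        refine hnc ((y : G)⁻¹ * (x : G)) (g ^ k) ?_ ?_ ?_
        · refine orderOf_eq_prime (hPexp _ ?_) ?_
          · exact hPB.ge (mul_mem (inv_mem y.2) x.2)
          · intro h2
            exact hne (Subtype.ext (inv_mul_eq_one.1 h2).symm)
        · refine orderOf_eq_prime (by rw [← pow_mul, mul_comm, pow_mul, h, one_pow]) ?_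
          intro h2
          have := Nat.le_of_dvd hk0 (hog ▸ orderOf_dvd_of_pow_eq_one h2)
          omega
        · show (y : G)⁻¹ * (x : G) * g ^ k = g ^ k * ((y : G)⁻¹ * (x : G))
          have h2 : (x : G) * g ^ k * (x : G)⁻¹ = (y : G) * g ^ k * (y : G)⁻¹ := by
            have h1' := congrArg (· * g ^ k) h1
            simpa [mul_assoc] using h1'
          calc (y : G)⁻¹ * (x : G) * g ^ k = (y : G)⁻¹ * ((x : G) * g ^ k * (x : G)⁻¹) * (x : G) := by group
            _ = (y : G)⁻¹ * ((y : G) * g ^ k * (y : G)⁻¹) * (x : G) := by rw [h2]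
            _ = _ := by group
      · intro x k _ _
        rw [conj_pow]
        group
      · intro x w
        refine prod_conj_eq_one hall hp hq hcomm hN hq ?_ w
        rw [← MulAut.conj_apply, MulEquiv.orderOf_eq, hog]
  have hcardP : Nat.card (P : Subgroup G) = p := by rw [hPB, Nat.card_zpowers, hob]
  refine ⟨P, ⟨?_, ?_, ?_⟩, by rw [hcardP]; exact hp⟩
  · exact P.ne_bot_of_dvd_card hpd
  · intro htop
    have h1 := hPexp w0 (htop ▸ Subgroup.mem_top w0)
    exact hw0' (Subtype.ext h1)
  · intro g hg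
    by_contra hne
    refine hg (hnorm g ?_)
    have hdvd : Nat.card ↥((P : Subgroup G) ⊓ (MulAut.conj g • (P : Subgroup G))) ∣ p :=
      (Subgroup.card_dvd_of_le inf_le_left).trans (dvd_of_eq hcardP)
    rcases (Nat.dvd_prime hp).1 hdvd with h1 | h1
    · exact absurd (Subgroup.card_eq_one.1 h1) hne
    · have h2 : (P : Subgroup G) ⊓ (MulAut.conj g • (P : Subgroup G)) = (P : Subgroup G) :=
        Subgroup.eq_of_le_of_card_ge inf_le_left (by rw [h1, hcardP])
      have h3 : (P : Subgroup G) ≤ MulAut.conj g • (P : Subgroup G) := inf_eq_left.1 h2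
      have h4 : MulAut.conj g • (P : Subgroup G) = (P : Subgroup G) :=
        (Subgroup.eq_of_le_of_card_ge h3 (le_of_eq (Nat.card_congr
          (Subgroup.equivSMul (MulAut.conj g) (P : Subgroup G)).toEquiv).symm)).symm
      rw [Subgroup.mem_normalizer_iff]
      intro x
      constructor
      · intro hx
        rw [← h4]
        exact ⟨x, hx, rfl⟩
      · intro hx
        rw [← h4] at hx
        obtain ⟨y, hy, hyx⟩ := hx
        have h5 : g * y * g⁻¹ = g * x * g⁻¹ := hyx
        rwa [← mul_left_cancel (mul_right_cancel h5)]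

theorem exists_complement {p q : ℕ} (hp : p.Prime) (hq : q.Prime) (hpq : p ≠ q)
    (hsol : Group.IsSolvable G)
    (hall : ∀ x : G, x ^ p = 1 ∨ x ^ q = 1)
    (hnc : ∀ u v : G, orderOf u = p → orderOf v = q → ¬ Commute u v)
    (hpd : p ∣ Nat.card G) (hqd : q ∣ Nat.card G) :
    ∃ C : Subgroup G, Cfsg.IsFrobeniusComplement C ∧ (Nat.card C).Prime := by
  classical
  obtain ⟨k, hk0, hk1⟩ : ∃ k, derivedSeries G k ≠ ⊥ ∧ derivedSeries G (k + 1) = ⊥ := by
    have h0 : ∃ m, derivedSeries G m = ⊥ := hsol.solvable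
    rcases hm : Nat.find h0 with _ | k
    · exfalso
      have h1 := Nat.find_spec h0
      rw [hm, derivedSeries_zero] at h1
      haveI := Fact.mk hp
      obtain ⟨u, hu⟩ := exists_prime_orderOf_dvd_card' p hpd
      have : u = 1 := Subgroup.mem_bot.1 (h1 ▸ Subgroup.mem_top u)
      rw [this, orderOf_one] at hu
      exact hp.one_lt.ne hu
    · exact ⟨k, Nat.find_min h0 (by omega), by rw [← hm]; exact Nat.find_spec h0⟩
  set A := derivedSeries G k with hA
  have hAn : A.Normal := derivedSeries_normal G k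
  rw [derivedSeries_succ, Subgroup.commutator_eq_bot_iff_le_centralizer] at hk1
  have hAc : ∀ x ∈ A, ∀ y ∈ A, x * y = y * x := fun x hx y hy =>
    (Subgroup.mem_centralizer_iff.1 (hk1 hy)) x hx
  obtain ⟨⟨w, hwA⟩, hw1⟩ := (Subgroup.ne_bot_iff_exists_ne_one).1 hk0
  have hw1' : w ≠ 1 := fun h => hw1 (Subtype.ext h)
  let N : ℕ → Subgroup G := fun r =>
    { carrier := {x | x ∈ A ∧ x ^ r = 1}
      mul_mem' := fun {a b} ha hb => ⟨mul_mem ha.1 hb.1, by
        rw [(show Commute a b from hAc a ha.1 b hb.1).mul_pow, ha.2, hb.2, one_mul]⟩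
      one_mem' := ⟨one_mem _, one_pow r⟩
      inv_mem' := fun {a} ha => ⟨inv_mem ha.1, by rw [inv_pow, ha.2, inv_one]⟩ }
  have hNn : ∀ r, (N r).Normal := fun r => ⟨fun x hx g => ⟨hAn.conj_mem x hx.1 g, by
    rw [conj_pow, hx.2]; group⟩⟩
  have hNc : ∀ r, ∀ a b : N r, a * b = b * a := fun r a b => Subtype.ext (hAc a.1 a.2.1 b.1 b.2.1)
  rcases hall w with h | h
  · haveI := Fact.mk hq
    haveI := hNn p
    exact exists_complement_aux hp hpq.symm (fun x => (hall x).symm)
      (fun u v hu hv hc => hnc v u hv hu hc.symm) (N p) (hNc p) (fun x hx => hx.2) (show w ∈ N p from ⟨hwA, h⟩)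
      hw1' hqd
  · haveI := Fact.mk hp
    haveI := hNn q
    exact exists_complement_aux hq hpq hall hnc (N q) (hNc q) (fun x hx => hx.2) (show w ∈ N q from ⟨hwA, h⟩)
      hw1' hpd

end H26
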