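import Cfsg.Agent.H26.SchurBasic

/-!
# Two-cocycles, the central extensions they define, and transfer for the Schur multiplier
-/

set_option autoImplicit false
set_option linter.style.haveILetI false
set_option linter.unusedSectionVars false

namespace H26

open Subgroup
open scoped commutatorElement IsMulCommutative

universe u v w

/-- a normalised 2-cocycle with values in a trivial module. -/
structure Cocycle (G : Type u) (A : Type v) [Group G] [CommGroup A] where
  c : G → G → A
  assoc : ∀ g h k, c g h * c (g * h) k = c h k * c g (h * k)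
  one_left : ∀ g, c 1 g = 1
  one_right : ∀ g, c g 1 = 1

namespace Cocycle

variable {G : Type u} {A : Type v} [Group G] [CommGroup A]

/-- the underlying type of the central extension. -/
@[ext] structure Ext (z : Cocycle G A) where
  val : A
  base : G

variable (z : Cocycle G A)

instance extMul : Mul z.Ext := ⟨fun p q => ⟨p.val * q.val * z.c p.base q.base, p.base * q.base⟩⟩
instance extOne : One z.Ext := ⟨⟨1, 1⟩⟩
instance extInv : Inv z.Ext := ⟨fun p => ⟨p.val⁻¹ * (z.c p.base⁻¹ p.base)⁻¹, p.base⁻¹⟩⟩

@[simp] lemma mul_val (p q : z.Ext) : (p * q).val = p.val * q.val * z.c p.base q.base := rfl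
@[simp] lemma mul_base (p q : z.Ext) : (p * q).base = p.base * q.base := rfl
@[simp] lemma one_val : (1 : z.Ext).val = 1 := rfl
@[simp] lemma one_base : (1 : z.Ext).base = 1 := rfl
@[simp] lemma inv_val (p : z.Ext) : p⁻¹.val = p.val⁻¹ * (z.c p.base⁻¹ p.base)⁻¹ := rfl
@[simp] lemma inv_base (p : z.Ext) : p⁻¹.base = p.base⁻¹ := rfl

instance extGroup : Group z.Ext :=
  Group.ofLeftAxioms
    (fun p q r => by
      ext
      · simp only [mul_val, mul_base]
        have h := z.assoc p.base q.base r.base
        calc p.val * q.val * z.c p.base q.base * r.val * z.c (p.base * q.base) r.base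
            = p.val * q.val * r.val * (z.c p.base q.base * z.c (p.base * q.base) r.base) := by
              ac_rfl
          _ = p.val * q.val * r.val * (z.c q.base r.base * z.c p.base (q.base * r.base)) := by
              rw [h]
          _ = p.val * (q.val * r.val * z.c q.base r.base) * z.c p.base (q.base * r.base) := by
              ac_rfl
      · simp [mul_assoc])
    (fun p => by ext <;> simp [z.one_left])
    (fun p => by
      ext
      · simp only [mul_val, inv_val, inv_base, one_val]
        calc p.val⁻¹ * (z.c p.base⁻¹ p.base)⁻¹ * p.val * z.c p.base⁻¹ p.base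
            = (p.val⁻¹ * p.val) * ((z.c p.base⁻¹ p.base)⁻¹ * z.c p.base⁻¹ p.base) := by ac_rfl
          _ = 1 := by simp
      · simp)

/-- the projection to `G`. -/
def proj : z.Ext →* G where
  toFun := Ext.base
  map_one' := rfl
  map_mul' _ _ := rfl

/-- the embedding of `A`. -/
def incl : A →* z.Ext where
  toFun a := ⟨a, 1⟩
  map_one' := rfl
  map_mul' a b := by ext <;> simp [z.one_left]

@[simp] lemma proj_apply (p : z.Ext) : z.proj p = p.base := rfl
@[simp] lemma incl_val (a : A) : (z.incl a).val = a := rfl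
@[simp] lemma incl_base (a : A) : (z.incl a).base = 1 := rfl

lemma proj_surjective : Function.Surjective z.proj := fun g => ⟨⟨1, g⟩, rfl⟩

lemma incl_injective : Function.Injective z.incl := fun _ _ h => congrArg Ext.val h

lemma proj_ker : z.proj.ker = z.incl.range := by
  ext p
  constructor
  · intro hp
    exact ⟨p.val, Ext.ext rfl (MonoidHom.mem_ker.1 hp).symm⟩
  · rintro ⟨a, rfl⟩
    rfl

lemma proj_ker_le_center : z.proj.ker ≤ center z.Ext := by
  rw [proj_ker]
  rintro _ ⟨a, rfl⟩
  rw [mem_center_iff]
  intro q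
  ext <;> simp [z.one_left, z.one_right, mul_comm]

/-- push a cocycle forward along a homomorphism of coefficient groups. -/
def push {B : Type w} [CommGroup B] (f : A →* B) : Cocycle G B where
  c g h := f (z.c g h)
  assoc g h k := by rw [← map_mul, ← map_mul, z.assoc]
  one_left g := by rw [z.one_left, map_one]
  one_right g := by rw [z.one_right, map_one]

/-- the homomorphism of extensions along `f`. -/
def pushHom {B : Type w} [CommGroup B] (f : A →* B) : z.Ext →* (z.push f).Ext where
  toFun p := ⟨f p.val, p.base⟩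
  map_one' := by ext <;> simp
  map_mul' p q := Ext.ext
    (show f (p.val * q.val * z.c p.base q.base) = f p.val * f q.val * f (z.c p.base q.base) by
      rw [map_mul, map_mul]) rfl

/-- a bimultiplicative map is a cocycle. -/
def ofBilin (β : G → G → A) (hl : ∀ g h k, β (g * h) k = β g k * β h k)
    (hr : ∀ g h k, β g (h * k) = β g h * β g k) : Cocycle G A where
  c := β
  assoc g h k := by rw [hl, hr]; ac_rfl
  one_left g := by
    have := hl 1 1 g
    rwa [one_mul, left_eq_mul] at this
  one_right g := by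
    have := hr g 1 1
    rwa [one_mul, left_eq_mul] at this

lemma commutator_eq_of_bilin (β : G → G → A) (hl : ∀ g h k, β (g * h) k = β g k * β h k)
    (hr : ∀ g h k, β g (h * k) = β g h * β g k) (g h : G) (hgh : g * h = h * g) :
    ⁅(⟨1, g⟩ : (ofBilin β hl hr).Ext), ⟨1, h⟩⁆ = (ofBilin β hl hr).incl (β g h * (β h g)⁻¹) := by
  rw [commutatorElement_def]
  have : (⟨1, g⟩ : (ofBilin β hl hr).Ext) * ⟨1, h⟩ =
      (ofBilin β hl hr).incl (β g h * (β h g)⁻¹) * (⟨1, h⟩ * ⟨1, g⟩) := by
    ext
    · simp only [mul_val, mul_base, incl_val, incl_base, one_mul, Cocycle.one_left, mul_one]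
      change β g h = β g h * (β h g)⁻¹ * β h g
      rw [inv_mul_cancel_right]
    · simp [hgh]
  rw [this]
  group

/-- the cocycle of a central extension and a normalised section, values in the kernel. -/
noncomputable def ofSection {X : Type w} [Group X] (σ : X →* G) (hσ : σ.ker ≤ center X)
    (s : G → X) (hs : ∀ g, σ (s g) = g) (hs1 : s 1 = 1) :
    haveI : IsMulCommutative σ.ker := ⟨⟨fun a b => Subtype.ext
      (mem_center_iff.1 (hσ b.2) a)⟩⟩
    Cocycle G σ.ker :=
  haveI : IsMulCommutative σ.ker := ⟨⟨fun a b => Subtype.ext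
    (mem_center_iff.1 (hσ b.2) a)⟩⟩
  { c := fun g h => ⟨s g * s h * (s (g * h))⁻¹, by
      rw [MonoidHom.mem_ker, map_mul, map_mul, map_inv, hs, hs, hs, mul_inv_cancel]⟩
    assoc := fun g h k => by
      apply Subtype.ext
      change s g * s h * (s (g * h))⁻¹ * (s (g * h) * s k * (s (g * h * k))⁻¹) =
        s h * s k * (s (h * k))⁻¹ * (s g * s (h * k) * (s (g * (h * k)))⁻¹)
      have hc : s h * s k * (s (h * k))⁻¹ ∈ center X := hσ (by
        rw [MonoidHom.mem_ker, map_mul, map_mul, map_inv, hs, hs, hs, mul_inv_cancel])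
      have hc' := mem_center_iff.1 hc (s g)
      calc s g * s h * (s (g * h))⁻¹ * (s (g * h) * s k * (s (g * h * k))⁻¹)
          = s g * (s h * s k * (s (h * k))⁻¹) * (s (h * k) * (s (g * h * k))⁻¹) := by group
        _ = s h * s k * (s (h * k))⁻¹ * s g * (s (h * k) * (s (g * h * k))⁻¹) := by rw [hc']
        _ = _ := by rw [← mul_assoc g h k]; group
    one_left := fun g => Subtype.ext (by simp [hs1])
    one_right := fun g => Subtype.ext (by simp [hs1]) }

end Cocycle

section Transfer

variable {G : Type u} [Group G] [Finite G] (U : Subgroup G)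

/-- the transfer map on Schur multipliers: corestriction after it is the index power. -/
theorem exists_transfer :
    ∃ (f : CE (stdPres U) →* CE (stdPres G)) (τ : SchurMul G →* SchurMul U),
      (∀ a ∈ SchurMul U, f a ∈ SchurMul G) ∧
      ∀ z : SchurMul G, f (τ z : CE (stdPres U)) = (z : CE (stdPres G)) ^ U.index := by
  classical
  have hG := stdPres_surjective G
  have hU := stdPres_surjective U
  let E := CE (stdPres G)
  let π : E →* G := cePi (stdPres G)
  let πU : CE (stdPres U) →* U := cePi (stdPres U)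
  have hcG : π.ker ≤ center E := cePi_ker_le_center
  have hcU : πU.ker ≤ center (CE (stdPres U)) := cePi_ker_le_center
  obtain ⟨f, hf⟩ := exists_lift_of_le (f := stdPres U) U.subtype π hcG
    (fun g => cePi_surjective hG _)
  have hfπ : ∀ a, π (f a) = (πU a : G) := fun a => DFunLike.congr_fun hf a
  have hfM : ∀ a ∈ SchurMul U, f a ∈ SchurMul G := fun a ha =>
    ⟨(hfπ a).trans (by rw [show πU a = 1 from ha.1]; rfl),
      commutator_map_le f (mem_map_of_mem f ha.2)⟩
  haveI hA : IsMulCommutative πU.ker := ⟨⟨fun a b => Subtype.ext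
    (mem_center_iff.1 (hcU b.2) a)⟩⟩
  haveI hB : IsMulCommutative π.ker := ⟨⟨fun a b => Subtype.ext
    (mem_center_iff.1 (hcG b.2) a)⟩⟩
  -- sections
  let s : U → CE (stdPres U) := fun g =>
    if g = 1 then 1 else (cePi_surjective hU g).choose
  have hs : ∀ g, πU (s g) = g := fun g => by
    by_cases h : g = 1
    · simp [s, h]
    · simp only [s, if_neg h]; exact (cePi_surjective hU g).choose_spec
  have hs1 : s 1 = 1 := if_pos rfl
  let cU := Cocycle.ofSection πU hcU s hs hs1
  haveI : Fintype (G ⧸ U) := Fintype.ofFinite _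
  let t : G ⧸ U → G := Quotient.out
  have ht : ∀ i, QuotientGroup.mk (t i) = i := fun i => Quotient.out_eq i
  have hmem : ∀ (g : G) (i : G ⧸ U), (t (g • i))⁻¹ * g * t i ∈ U := fun g i => by
    rw [mul_assoc, ← QuotientGroup.eq]
    rw [ht]
    conv_lhs => rw [← ht i]
    rfl
  let h : G → G ⧸ U → U := fun g i => ⟨_, hmem g i⟩
  have hh : ∀ g g' i, h (g * g') i = h g (g' • i) * h g' i := fun g g' i =>
    Subtype.ext (by
      change (t ((g * g') • i))⁻¹ * (g * g') * t i =
        (t (g • g' • i))⁻¹ * g * t (g' • i) * ((t (g' • i))⁻¹ * g' * t i)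
      rw [mul_smul]; group)
  have h1 : ∀ i, h 1 i = 1 := fun i => Subtype.ext (by
    change (t ((1 : G) • i))⁻¹ * 1 * t i = 1
    rw [one_smul, mul_one, inv_mul_cancel])
  let c' : Cocycle G πU.ker :=
    { c := fun g g' => ∏ i, cU.c (h g (g' • i)) (h g' i)
      assoc := fun g g' g'' => by
        rw [← Equiv.prod_comp (MulAction.toPerm g'')
          (fun i => cU.c (h g (g' • i)) (h g' i)), ← Finset.prod_mul_distrib,
          ← Finset.prod_mul_distrib]
        refine Finset.prod_congr rfl (fun i _ => ?_)
        simp only [MulAction.toPerm_apply]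
        rw [hh g g' (g'' • i), hh g' g'' i, mul_smul]
        exact cU.assoc _ _ _
      one_left := fun g => Finset.prod_eq_one (fun i _ => by rw [h1, cU.one_left])
      one_right := fun g => Finset.prod_eq_one (fun i _ => by rw [h1, cU.one_right]) }
  obtain ⟨φ, hφ⟩ := exists_lift (f := stdPres G) c'.proj c'.proj_ker_le_center c'.proj_surjective
  -- the coefficient map
  let fR : πU.ker →* π.ker := (f.comp πU.ker.subtype).codRestrict _ (fun a => by
    rw [MonoidHom.mem_ker]
    exact (hfπ _).trans (by rw [show πU (πU.ker.subtype a) = 1 from a.2]; rfl))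
  let T : G ⧸ U → E := fun i => (cePi_surjective hG (t i)).choose
  have hT : ∀ i, π (T i) = t i := fun i => (cePi_surjective hG (t i)).choose_spec
  let δ : E → G ⧸ U → π.ker := fun e i =>
    ⟨(T (π e • i))⁻¹ * e * T i * (f (s (h (π e) i)))⁻¹, by
      rw [MonoidHom.mem_ker, map_mul, map_mul, map_mul, map_inv, map_inv, hT, hT, hfπ, hs]
      exact mul_inv_cancel _⟩
  have hδ : ∀ e e' i, δ (e * e') i =
      δ e (π e' • i) * δ e' i * fR (cU.c (h (π e) (π e' • i)) (h (π e') i)) := by
    intro e e' i
    apply Subtype.ext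
    change (T (π (e * e') • i))⁻¹ * (e * e') * T i * (f (s (h (π (e * e')) i)))⁻¹ =
      (δ e (π e' • i) : E) * δ e' i * f (s (h (π e) (π e' • i)) * s (h (π e') i) *
        (s (h (π e) (π e' • i) * h (π e') i))⁻¹)
    rw [map_mul π, ← hh, mul_smul, map_mul f, map_mul f, map_inv f]
    have hc := mem_center_iff.1 (hcG (δ e' i).2) (f (s (h (π e) (π e' • i))))
    calc (T (π e • π e' • i))⁻¹ * (e * e') * T i * (f (s (h (π e * π e') i)))⁻¹
        = (δ e (π e' • i) : E) * f (s (h (π e) (π e' • i))) *
            ((T (π e' • i))⁻¹ * e' * T i) * (f (s (h (π e * π e') i)))⁻¹ := by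
          simp only [δ]; group
      _ = (δ e (π e' • i) : E) * (f (s (h (π e) (π e' • i))) * δ e' i) *
            (f (s (h (π e') i))) * (f (s (h (π e * π e') i)))⁻¹ := by
          simp only [δ]; group
      _ = (δ e (π e' • i) : E) * ((δ e' i : E) * f (s (h (π e) (π e' • i)))) *
            (f (s (h (π e') i))) * (f (s (h (π e * π e') i)))⁻¹ := by rw [hc]
      _ = _ := by group
  let Ψ : E →* (c'.push fR).Ext := MonoidHom.mk' (fun e => ⟨∏ i, δ e i, π e⟩) (fun e e' => by
    ext1
    · change ∏ i, δ (e * e') i = (∏ i, δ e i) * (∏ i, δ e' i) *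
        fR (∏ i, cU.c (h (π e) (π e' • i)) (h (π e') i))
      rw [map_prod, ← Equiv.prod_comp (MulAction.toPerm (π e')) (fun i => δ e i),
        ← Finset.prod_mul_distrib, ← Finset.prod_mul_distrib]
      exact Finset.prod_congr rfl (fun i _ => hδ e e' i)
    · exact map_mul π e e')
  haveI := finite_schurM (f := stdPres G)
  have hφ0 : ∀ z : SchurMul G, (φ (z : E)).base = 1 := fun z =>
    (DFunLike.congr_fun hφ (z : E)).trans z.2.1
  have hτmem : ∀ z : SchurMul G,
      ((φ (z : E)).val : CE (stdPres U)) ∈ SchurMul U := fun z => by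
    refine mem_schurM_of_isOfFinOrder (φ (z : E)).val.2 ?_
    have h1 : φ (z : E) = c'.incl (φ (z : E)).val := Cocycle.Ext.ext rfl (hφ0 z)
    have h2 : IsOfFinOrder (c'.incl (φ (z : E)).val) :=
      h1 ▸ φ.isOfFinOrder ((SchurMul G).subtype.isOfFinOrder (isOfFinOrder_of_finite z))
    exact πU.ker.subtype.isOfFinOrder ((isOfFinOrder_iff_pow_eq_one).2 (by
      obtain ⟨k, hk, hk'⟩ := isOfFinOrder_iff_pow_eq_one.1 h2
      exact ⟨k, hk, c'.incl_injective (by rw [map_pow, hk', map_one])⟩))
  let τ : SchurMul G →* SchurMul U := MonoidHom.mk' (fun z => ⟨_, hτmem z⟩) (fun z z' => by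
    apply Subtype.ext
    change ((φ ((z : E) * z')).val : CE (stdPres U)) = (φ (z : E)).val * (φ (z' : E)).val
    rw [map_mul]
    simp [hφ0, c'.one_left])
  refine ⟨f, τ, hfM, fun z => ?_⟩
  have heq := eq_on_commutator (c'.push fR).proj_ker_le_center
    (φ := (c'.pushHom fR).comp φ) (ψ := Ψ)
    (MonoidHom.ext fun e => DFunLike.congr_fun hφ e) z.2.2
  have h2 := congrArg (fun p => ((p : (c'.push fR).Ext).val : E)) heq
  change f ((φ (z : E)).val : CE (stdPres U)) = ((∏ i, δ (z : E) i : π.ker) : E) at h2
  change f ((φ (z : E)).val : CE (stdPres U)) = _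
  rw [h2, Finset.prod_eq_pow_card (b := (⟨z, z.2.1⟩ : π.ker)), SubmonoidClass.coe_pow,
    Finset.card_univ, ← Nat.card_eq_fintype_card]
  · rfl
  · intro i _
    apply Subtype.ext
    change (T (π (z : E) • i))⁻¹ * (z : E) * T i * (f (s (h (π (z : E)) i)))⁻¹ = z
    have hz1 : π (z : E) = 1 := z.2.1
    rw [hz1, one_smul, h1, hs1, map_one, inv_one, mul_one,
      mul_assoc, ← mem_center_iff.1 (hcG z.2.1) (T i)]
    group

end Transfer

end H26
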