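import Cfsg.Agent.H26.SchurBasic

/-!
# Schur covers and their uniqueness
-/

set_option autoImplicit false
set_option linter.style.haveILetI false
set_option linter.unusedSectionVars false

namespace H26

open Subgroup
open scoped commutatorElement IsMulCommutative

universe u v w

section

variable {Q : Type u} [Group Q] [Finite Q]

/-- an element whose image is a product of commutators splits along a complement. -/
lemma exists_split {S : Subgroup (CE (stdPres Q))} (hS : (cePi (stdPres Q)).ker ≤ S ⊔ SchurMul Q)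
    (hSc : S ≤ center (CE (stdPres Q))) {x : CE (stdPres Q)}
    (hx : cePi (stdPres Q) x ∈ commutator Q) :
    ∃ s ∈ S, ∃ e ∈ commutator (CE (stdPres Q)), x = s * e := by
  have h1 : cePi (stdPres Q) x ∈ (commutator (CE (stdPres Q))).map (cePi (stdPres Q)) := by
    rw [map_commutator_eq, MonoidHom.range_eq_top.2 (cePi_surjective (stdPres_surjective Q))]
    exact hx
  obtain ⟨e, he, hex⟩ := h1
  have h2 : x * e⁻¹ ∈ S ⊔ SchurMul Q := hS (by
    rw [MonoidHom.mem_ker, map_mul, map_inv, hex, mul_inv_cancel])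
  haveI : S.Normal := ⟨fun p hp g => by
    rw [mem_center_iff.1 (hSc hp) g, mul_inv_cancel_right]; exact hp⟩
  obtain ⟨s, hs, m, hm, hsm⟩ := mem_sup_of_normal_left.1 h2
  exact ⟨s, hs, m * e, mul_mem hm.2 he, by rw [← mul_assoc, hsm, inv_mul_cancel_right]⟩

/-- a stem extension with kernel of full size is a Schur cover. -/
lemma cover_data {Γ : Type v} [Group Γ] {σ : Γ →* Q} (hσ : Cfsg.IsStemExtension σ)
    (hcard : Nat.card σ.ker = Nat.card (SchurMul Q)) :
    ∃ φ : CE (stdPres Q) →* Γ, σ.comp φ = cePi (stdPres Q) ∧ Function.Surjective φ ∧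
      φ.ker ≤ (cePi (stdPres Q)).ker ∧ φ.ker ⊓ commutator (CE (stdPres Q)) = ⊥ ∧
      (cePi (stdPres Q)).ker ≤ φ.ker ⊔ SchurMul Q := by
  obtain ⟨φ, hφ, hs, hmap⟩ := exists_lift_stem (stdPres_surjective Q) hσ
  haveI := finite_schurM (f := stdPres Q)
  have hle : φ.ker ≤ (cePi (stdPres Q)).ker := fun a ha => by
    rw [MonoidHom.mem_ker] at ha ⊢
    rw [← hφ, MonoidHom.comp_apply, ha, map_one]
  obtain ⟨p, hp, hp'⟩ := surjective_hom_of_map_eq hmap
  have hbij := hp.bijective_of_nat_card_le hcard.ge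
  refine ⟨φ, hφ, hs, hle, ?_, ?_⟩
  · rw [eq_bot_iff]
    intro a ha
    have h : a ∈ SchurMul Q := ⟨hle ha.1, ha.2⟩
    have h1 : p ⟨a, h⟩ = 1 := Subtype.ext ((hp' _).trans ha.1)
    exact Subgroup.mem_bot.2 (congrArg Subtype.val (hbij.1 (h1.trans (map_one p).symm)))
  · intro a ha
    obtain ⟨m, hm⟩ := hp ⟨φ a, by rw [MonoidHom.mem_ker, ← MonoidHom.comp_apply, hφ]; exact ha⟩
    have : φ (m : CE (stdPres Q)) = φ a := (hp' m).symm.trans (congrArg Subtype.val hm)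
    have he : a = a * (m : CE (stdPres Q))⁻¹ * m := by group
    rw [he]
    exact mul_mem_sup (by rw [MonoidHom.mem_ker, map_mul, map_inv, this, mul_inv_cancel]) m.2

/-- coprimality makes the cover unique over `Q`. -/
theorem cover_unique {Γ₁ : Type v} {Γ₂ : Type w} [Group Γ₁] [Group Γ₂] [Finite Γ₁] [Finite Γ₂]
    {σ₁ : Γ₁ →* Q} {σ₂ : Γ₂ →* Q}
    (h₁ : Cfsg.IsStemExtension σ₁) (h₂ : Cfsg.IsStemExtension σ₂)
    (c₁ : Nat.card σ₁.ker = Nat.card (SchurMul Q)) (c₂ : Nat.card σ₂.ker = Nat.card (SchurMul Q))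
    (hcop : Nat.Coprime (Nat.card (Abelianization Q)) (Nat.card (SchurMul Q))) :
    ∃ e : Γ₁ ≃* Γ₂, σ₂.comp e.toMonoidHom = σ₁ := by
  classical
  obtain ⟨φ₁, hφ₁, hs₁, hle₁, hbot₁, hsup₁⟩ := cover_data h₁ c₁
  obtain ⟨φ₂, hφ₂, hs₂, -, -, -⟩ := cover_data h₂ c₂
  let E := CE (stdPres Q)
  have hc₁ : φ₁.ker ≤ center E := hle₁.trans cePi_ker_le_center
  haveI : IsMulCommutative σ₂.ker := ⟨⟨fun a b => Subtype.ext (mem_center_iff.1 (h₂.2.1 b.2) a)⟩⟩
  set k := Nat.card (Abelianization Q)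
  have hx : ∀ x : E, cePi (stdPres Q) (x ^ k) ∈ commutator Q := fun x => by
    rw [← Abelianization.ker_of, MonoidHom.mem_ker, map_pow, map_pow]
    exact pow_card_eq_one'
  choose p hp e he hpe using fun x => exists_split hsup₁ hc₁ (hx x)
  have huniq : ∀ x, ∀ s ∈ φ₁.ker, s⁻¹ * x ^ k ∈ commutator E → s = p x := by
    intro x s hs hsx
    have h1 : s⁻¹ * p x ∈ φ₁.ker ⊓ commutator E := by
      refine ⟨φ₁.ker.mul_mem (φ₁.ker.inv_mem hs) (hp x), ?_⟩
      have : s⁻¹ * p x = s⁻¹ * x ^ k * (e x)⁻¹ := by rw [hpe x]; group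
      rw [this]
      exact (commutator E).mul_mem hsx ((commutator E).inv_mem (he x))
    rw [hbot₁, mem_bot, inv_mul_eq_one] at h1
    exact h1
  let P : E →* φ₁.ker := MonoidHom.mk' (fun x => ⟨p x, hp x⟩) (fun x y => Subtype.ext (by
    refine (huniq (x * y) (p x * p y) (mul_mem (hp x) (hp y)) ?_).symm
    have hab : (x * y) ^ k * (x ^ k * y ^ k)⁻¹ ∈ commutator E := by
      rw [← Abelianization.ker_of, MonoidHom.mem_ker]
      simp only [map_mul, map_pow, map_inv, mul_pow, mul_inv_cancel]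
    have hcx := mem_center_iff.1 (hc₁ (hp y)) (e x)
    have hxy : (p x * p y)⁻¹ * (x ^ k * y ^ k) = e x * e y := by
      rw [hpe x, hpe y, mul_inv_rev]
      calc (p y)⁻¹ * (p x)⁻¹ * (p x * e x * (p y * e y)) = (p y)⁻¹ * (e x * p y) * e y := by group
        _ = _ := by rw [hcx]; group
    have : (p x * p y)⁻¹ * (x * y) ^ k =
        (p x * p y)⁻¹ * ((x * y) ^ k * (x ^ k * y ^ k)⁻¹) * (p x * p y) *
          ((p x * p y)⁻¹ * (x ^ k * y ^ k)) := by group
    rw [this, hxy]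
    refine mul_mem ?_ (mul_mem (he x) (he y))
    have hn : (commutator E).Normal := inferInstance
    have h2 := hn.conj_mem _ hab (p x * p y)⁻¹
    rwa [inv_inv] at h2))
  haveI : Finite σ₂.ker := inferInstance
  obtain ⟨k', hk'⟩ : ∃ k' : ℕ, k * k' ≡ 1 [MOD Nat.card σ₂.ker] := by
    rw [c₂]
    by_cases h1 : Nat.card (SchurMul Q) = 1
    · exact ⟨0, by rw [h1]; exact Nat.modEq_one⟩
    · haveI := finite_schurM (f := stdPres Q)
      have : 1 < Nat.card (SchurMul Q) := lt_of_le_of_ne Nat.card_pos (Ne.symm h1)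
      obtain ⟨m, -, hm⟩ := Nat.exists_mul_mod_eq_one_of_coprime hcop this
      exact ⟨m, by rw [Nat.ModEq, hm, Nat.mod_eq_of_lt this]⟩
  have hmem : ∀ s ∈ φ₁.ker, φ₂ s ∈ σ₂.ker := fun s hs => by
    rw [MonoidHom.mem_ker, ← MonoidHom.comp_apply, hφ₂]; exact hle₁ hs
  let μ : E →* σ₂.ker :=
    ((powMonoidHom k').comp ((φ₂.comp φ₁.ker.subtype).codRestrict _ (fun s => hmem _ s.2))).comp P
  have hμ : ∀ s ∈ φ₁.ker, (μ s : Γ₂) = φ₂ s := by
    intro s hs
    have hPs : P s = ⟨s ^ k, pow_mem hs k⟩ := Subtype.ext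
      (huniq s (s ^ k) (pow_mem hs k) (by rw [inv_mul_cancel]; exact one_mem _)).symm
    change ((((φ₂.comp φ₁.ker.subtype).codRestrict σ₂.ker (fun t => hmem _ t.2)) (P s) ^ k' :
      σ₂.ker) : Γ₂) = _
    rw [hPs, SubmonoidClass.coe_pow]
    change φ₂ (s ^ k) ^ k' = φ₂ s
    rw [map_pow, ← pow_mul]
    have h1 : (⟨φ₂ s, hmem s hs⟩ : σ₂.ker) ^ (k * k') = ⟨φ₂ s, hmem s hs⟩ ^ 1 :=
      pow_eq_pow_iff_modEq.2 (hk'.of_dvd (orderOf_dvd_natCard _))
    simpa using congrArg Subtype.val h1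
  let ψ : E →* Γ₂ := MonoidHom.mk' (fun x => φ₂ x * ((μ x : Γ₂))⁻¹) (fun x y => by
    have hμx : (μ x : Γ₂)⁻¹ ∈ center Γ₂ := inv_mem (h₂.2.1 (μ x).2)
    rw [map_mul, map_mul, Subgroup.coe_mul, mul_inv_rev]
    calc φ₂ x * φ₂ y * ((μ y : Γ₂)⁻¹ * (μ x : Γ₂)⁻¹) =
          φ₂ x * (φ₂ y * (μ y : Γ₂)⁻¹ * (μ x : Γ₂)⁻¹) := by group
      _ = φ₂ x * ((μ x : Γ₂)⁻¹ * (φ₂ y * (μ y : Γ₂)⁻¹)) := by rw [mem_center_iff.1 hμx]
      _ = _ := by group)
  have hkill : φ₁.ker ≤ ψ.ker := fun s hs => by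
    change φ₂ s * (μ s : Γ₂)⁻¹ = 1
    rw [hμ s hs, mul_inv_cancel]
  let e0 : Γ₁ →* Γ₂ := MonoidHom.liftOfSurjective φ₁ hs₁ ⟨ψ, hkill⟩
  have he0 : ∀ x, e0 (φ₁ x) = ψ x := fun x =>
    MonoidHom.liftOfRightInverse_comp_apply _ _ _ _ _
  have he0σ : σ₂.comp e0 = σ₁ := by
    ext g
    obtain ⟨x, rfl⟩ := hs₁ g
    rw [MonoidHom.comp_apply, he0]
    change σ₂ (φ₂ x * (μ x : Γ₂)⁻¹) = σ₁ (φ₁ x)
    rw [map_mul, map_inv, show σ₂ (μ x : Γ₂) = 1 from (μ x).2, inv_one, mul_one]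
    exact (DFunLike.congr_fun hφ₂ x).trans (DFunLike.congr_fun hφ₁ x).symm
  have hsur : Function.Surjective e0 := surjective_of_stem h₂ h₁.1 he0σ
  have hcard : Nat.card Γ₁ = Nat.card Γ₂ := by
    rw [Subgroup.card_eq_card_quotient_mul_card_subgroup σ₁.ker,
      Subgroup.card_eq_card_quotient_mul_card_subgroup σ₂.ker, c₁, c₂,
      Nat.card_congr (QuotientGroup.quotientKerEquivOfSurjective σ₁ h₁.1).toEquiv,
      Nat.card_congr (QuotientGroup.quotientKerEquivOfSurjective σ₂ h₂.1).toEquiv]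
  exact ⟨MulEquiv.ofBijective e0 (hsur.bijective_of_nat_card_le hcard.le), he0σ⟩

/-- uniqueness of covers forces coprimality. -/
theorem coprime_of_cover_unique
    (h : ∀ (Γ₁ Γ₂ : Type u) [Group Γ₁] [Finite Γ₁] [Group Γ₂] [Finite Γ₂] (σ₁ : Γ₁ →* Q)
      (σ₂ : Γ₂ →* Q), Cfsg.IsStemExtension σ₁ → Cfsg.IsStemExtension σ₂ →
      Nonempty (σ₁.ker ≃* SchurMul Q) → Nonempty (σ₂.ker ≃* SchurMul Q) →
      ∃ e : Γ₁ ≃* Γ₂, σ₂.comp e.toMonoidHom = σ₁) :
    Nat.Coprime (Nat.card (Abelianization Q)) (Nat.card (SchurMul Q)) := by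
  classical
  by_contra hcop
  obtain ⟨p, hp, hpk, hpM⟩ := Nat.Prime.not_coprime_iff_dvd.1 hcop
  haveI := Fact.mk hp
  let E := CE (stdPres Q)
  haveI := finite_schurM (f := stdPres Q)
  have hf := stdPres_surjective Q
  have hcE : (cePi (stdPres Q)).ker ≤ center E := cePi_ker_le_center
  haveI hMc : IsMulCommutative (SchurMul Q) := ⟨⟨kerComm_comm hcE⟩⟩
  obtain ⟨S, hSle, hSM, hS⟩ := exists_complement (f := stdPres Q) _ le_rfl le_sup_left
  -- an element of order p in the commutator quotient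
  obtain ⟨q, hq⟩ := exists_prime_orderOf_dvd_card' (G := Abelianization Q) p hpk
  obtain ⟨q, rfl⟩ := (QuotientGroup.mk_surjective : Function.Surjective (Abelianization.of (G := Q))) q
  obtain ⟨x, rfl⟩ := cePi_surjective hf q
  replace hq : orderOf (Abelianization.of (cePi (stdPres Q) x)) = p := hq
  obtain ⟨s, hs, e, he, hxe⟩ := exists_split (x := x ^ p) (hS.ge) (hSle.trans hcE) (by
    rw [← Abelianization.ker_of, MonoidHom.mem_ker, map_pow, map_pow, ← hq, pow_orderOf_eq_one])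
  -- an element of the multiplier that is no p-th power
  obtain ⟨m, hm⟩ : ∃ m : SchurMul Q, ∀ m' : SchurMul Q, m' ^ p ≠ m := by
    by_contra hno
    simp only [not_exists, not_forall, not_ne_iff] at hno
    obtain ⟨m, hm⟩ := exists_prime_orderOf_dvd_card' (G := SchurMul Q) p hpM
    have hinj : Function.Injective (powMonoidHom p : SchurMul Q →* SchurMul Q) :=
      Finite.injective_iff_surjective.2 (fun y => hno y)
    have h1 : m = 1 := hinj (by
      change m ^ p = 1 ^ p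
      rw [one_pow, ← hm, pow_orderOf_eq_one])
    rw [h1, orderOf_one] at hm
    exact hp.one_lt.ne hm
  -- the free image of S
  let L : Submodule ℤ (FreeAbelianGroup Q) :=
    AddSubgroup.toIntSubmodule (Subgroup.toAddSubgroup (S.map (ceAb (stdPres Q))))
  haveI : Module.Finite ℤ (FreeAbelianGroup Q) := Module.Finite.of_basis (FreeAbelianGroup.basis Q)
  haveI : Module.Free ℤ (FreeAbelianGroup Q) := Module.Free.of_basis (FreeAbelianGroup.basis Q)
  haveI : IsNoetherian ℤ (FreeAbelianGroup Q) := isNoetherian_of_isNoetherianRing_of_finite ℤ _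
  haveI : Module.Finite ℤ L := Module.Finite.iff_fg.2 (IsNoetherian.noetherian _)
  haveI : Module.Free ℤ L := Module.free_of_finite_type_torsion_free'
  let b := Module.finBasis ℤ L
  let toL : E → FreeAbelianGroup Q := fun y => Additive.ofMul (ceAb (stdPres Q) y)
  let l₀ : L := ⟨toL s, Subgroup.mem_map_of_mem (ceAb (stdPres Q)) hs⟩
  obtain ⟨i, hi⟩ : ∃ i, ¬ (p : ℤ) ∣ b.repr l₀ i := by
    by_contra hall
    simp only [not_exists, not_not] at hall
    choose c hc using hall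
    let l : L := ∑ i, c i • b i
    have hl : l₀ = (p : ℤ) • l := by
      conv_lhs => rw [← b.sum_repr l₀]
      simp only [l, Finset.smul_sum, smul_smul, ← hc]
    obtain ⟨s', hs', hs'l⟩ := l.2
    have h1 : ceAb (stdPres Q) (x ^ p) = ceAb (stdPres Q) (s' ^ p) := by
      rw [hxe, map_mul, show ceAb (stdPres Q) e = 1 by rw [← MonoidHom.mem_ker, ceAb_ker]; exact he,
        mul_one]
      have h2 := congrArg (fun z : L => Additive.toMul (z : FreeAbelianGroup Q)) hl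
      rw [map_pow, hs'l]
      refine h2.trans ?_
      change Additive.toMul ((p : ℤ) • (l : FreeAbelianGroup Q)) = _
      rw [natCast_zsmul]
      rfl
    have h3 : s'⁻¹ * x ∈ commutator E := by
      rw [← ceAb_ker, MonoidHom.mem_ker]
      refine ab_freeGroup_pow_eq_one hp.ne_zero ?_
      rw [← map_pow, map_pow, map_mul, map_inv, mul_pow, inv_pow, ← map_pow, ← map_pow, h1,
        inv_mul_cancel]
    have h4 : cePi (stdPres Q) x ∈ commutator Q := by
      have : cePi (stdPres Q) (s'⁻¹ * x) = cePi (stdPres Q) x := by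
        rw [map_mul, map_inv, show cePi (stdPres Q) s' = 1 from hSle hs', inv_one, one_mul]
      rw [← this]
      exact commutator_map_le _ (mem_map_of_mem _ h3)
    rw [← Abelianization.ker_of, MonoidHom.mem_ker] at h4
    rw [h4, orderOf_one] at hq
    exact hp.one_lt.ne hq
  -- the twisting homomorphism
  let g : S →* SchurMul Q := MonoidHom.mk'
    (fun y => m ^ b.repr ⟨toL (y : E), Subgroup.mem_map_of_mem (ceAb (stdPres Q)) y.2⟩ i) (fun y z => by
      rw [← zpow_add, ← Finsupp.add_apply, ← map_add]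
      congr 3
      exact Subtype.ext (congrArg Additive.ofMul (map_mul (ceAb (stdPres Q)) (y : E) z)))
  let gr : S →* E := MonoidHom.mk' (fun y => (y : E) * g y) (fun y z => by
    have hc : (g y : E) ∈ center E := hcE (g y).2.1
    rw [map_mul, Subgroup.coe_mul, Subgroup.coe_mul]
    calc (y : E) * z * ((g y : E) * g z) = (y : E) * (z * (g y : E)) * g z := by group
      _ = _ := by rw [mem_center_iff.1 hc]; group)
  let S₂ := gr.range
  have hS₂le : S₂ ≤ (cePi (stdPres Q)).ker := by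
    rintro _ ⟨y, rfl⟩
    exact mul_mem (hSle y.2) (g y).2.1
  have hS₂M : S₂ ⊓ SchurMul Q = ⊥ := by
    rw [eq_bot_iff]
    rintro _ ⟨⟨y, rfl⟩, hy⟩
    have h1 : (y : E) ∈ S ⊓ SchurMul Q := ⟨y.2, by
      have := (SchurMul Q).mul_mem hy ((SchurMul Q).inv_mem (g y).2)
      change (y : E) * (g y : E) * (g y : E)⁻¹ ∈ _ at this
      rwa [mul_inv_cancel_right] at this⟩
    rw [hSM, mem_bot] at h1
    have h2 : y = 1 := Subtype.ext h1
    rw [h2, map_one]
    exact one_mem _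
  have hS₂ : S₂ ⊔ SchurMul Q = (cePi (stdPres Q)).ker := by
    refine le_antisymm (sup_le hS₂le inf_le_left) ?_
    rw [← hS]
    refine sup_le (fun y hy => ?_) le_sup_right
    have h1 : y = gr ⟨y, hy⟩ * (g ⟨y, hy⟩ : E)⁻¹ := by
      change y = y * (g ⟨y, hy⟩ : E) * (g ⟨y, hy⟩ : E)⁻¹
      rw [mul_inv_cancel_right]
    rw [h1]
    exact mul_mem_sup ⟨_, rfl⟩ ((SchurMul Q).inv_mem (g ⟨y, hy⟩).2)
  haveI : S.Normal := ⟨fun y hy z => by
    rw [mem_center_iff.1 (hcE (hSle hy)) z, mul_inv_cancel_right]; exact hy⟩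
  haveI : S₂.Normal := ⟨fun y hy z => by
    rw [mem_center_iff.1 (hcE (hS₂le hy)) z, mul_inv_cancel_right]; exact hy⟩
  obtain ⟨h01, hfin1, hbij1⟩ := stem_of_complement hf S hSM hS
  obtain ⟨h02, hfin2, hbij2⟩ := stem_of_complement hf S₂ hS₂M hS₂
  let σ₁ : E ⧸ S →* Q := QuotientGroup.lift S (cePi (stdPres Q)) (hS ▸ le_sup_left)
  let σ₂ : E ⧸ S₂ →* Q := QuotientGroup.lift S₂ (cePi (stdPres Q)) (hS₂ ▸ le_sup_left)
  have e₁ : SchurMul Q ≃* σ₁.ker :=
    MulEquiv.ofBijective (MonoidHom.mk' _ (fun a b => Subtype.ext (QuotientGroup.mk_mul S _ _))) hbij1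
  let η₂ : SchurMul Q →* σ₂.ker :=
    MonoidHom.mk' (fun a : SchurMul Q => (⟨QuotientGroup.mk (a : E), a.2.1⟩ : σ₂.ker))
      (fun a b => Subtype.ext (QuotientGroup.mk_mul S₂ _ _))
  let e₂ : SchurMul Q ≃* σ₂.ker := MulEquiv.ofBijective η₂ hbij2
  obtain ⟨iso, hiso⟩ := h _ _ σ₁ σ₂ h01 h02 ⟨e₁.symm⟩ ⟨e₂.symm⟩
  -- the difference homomorphism
  let a : E →* E ⧸ S₂ := iso.toMonoidHom.comp (QuotientGroup.mk' S)
  let c : E →* E ⧸ S₂ := QuotientGroup.mk' S₂
  have hac : ∀ y, σ₂ (a y) = σ₂ (c y) := fun y => DFunLike.congr_fun hiso (QuotientGroup.mk y)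
  have hcen : σ₂.ker ≤ center (E ⧸ S₂) := h02.2.1
  have hmem : ∀ y, c y * (a y)⁻¹ ∈ σ₂.ker := fun y => by
    rw [MonoidHom.mem_ker, map_mul, map_inv, hac, mul_inv_cancel]
  let δ : E →* σ₂.ker := MonoidHom.mk' (fun y => ⟨_, hmem y⟩) (fun y z => Subtype.ext (by
    change c (y * z) * (a (y * z))⁻¹ = c y * (a y)⁻¹ * (c z * (a z)⁻¹)
    have := mem_center_iff.1 (hcen (hmem z)) (a y)⁻¹
    rw [map_mul, map_mul, mul_inv_rev]
    calc c y * c z * ((a z)⁻¹ * (a y)⁻¹) = c y * ((c z * (a z)⁻¹) * (a y)⁻¹) := by group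
      _ = c y * ((a y)⁻¹ * (c z * (a z)⁻¹)) := by rw [this]
      _ = _ := by group))
  let D : E →* SchurMul Q := e₂.symm.toMonoidHom.comp δ
  have hD : ∀ y : S, D y = (g y)⁻¹ := by
    intro y
    apply e₂.injective
    rw [show e₂ (D y) = δ y from e₂.apply_symm_apply _]
    apply Subtype.ext
    change c y * (a y)⁻¹ = c ((g y : E))⁻¹
    have h1 : a y = 1 := by
      change iso (QuotientGroup.mk (y : E)) = 1
      rw [(QuotientGroup.eq_one_iff (y : E)).2 y.2, map_one]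
    have h2 : c ((y : E) * g y) = 1 := (QuotientGroup.eq_one_iff _).2 ⟨y, rfl⟩
    rw [h1, inv_one, mul_one, map_inv]
    rw [map_mul] at h2
    exact eq_inv_of_mul_eq_one_left h2
  have hDe : D e = 1 := by
    have h1 := Abelianization.commutator_subset_ker D he
    exact h1
  have h5 : (g ⟨s, hs⟩)⁻¹ = D x ^ p := by
    rw [← hD, ← map_pow, hxe, map_mul, hDe, mul_one]
  set j := b.repr l₀ i
  have h6 : (m ^ j)⁻¹ = D x ^ p := h5
  obtain ⟨u, w, huw⟩ : IsCoprime (p : ℤ) j :=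
    (Nat.prime_iff_prime_int.1 hp).coprime_iff_not_dvd.2 hi
  apply hm ((m ^ u) * ((D x)⁻¹) ^ w)
  have h7 : m ^ j = (D x)⁻¹ ^ p := by rw [inv_pow, ← h6, inv_inv]
  calc ((m ^ u) * ((D x)⁻¹) ^ w) ^ p = (m ^ u) ^ p * (((D x)⁻¹) ^ w) ^ p := mul_pow _ _ _
    _ = m ^ (u * p) * (((D x)⁻¹) ^ p) ^ w := by
        rw [← zpow_natCast (m ^ u), ← zpow_mul, ← zpow_natCast ((D x)⁻¹ ^ w), ← zpow_natCast _ p,
          zpow_comm]
    _ = m ^ (u * p + w * j) := by rw [← h7, ← zpow_mul, ← zpow_add, mul_comm j w]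
    _ = m := by rw [huw, zpow_one]

end

end H26
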