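import Cfsg.Agent.H26.SchurBasic

/-!
# The square of the exponent of the multiplier divides the group order
-/

set_option autoImplicit false
set_option linter.style.haveILetI false
set_option linter.unusedSectionVars false

namespace H26

open Subgroup
open scoped commutatorElement IsMulCommutative

universe u v w

open scoped Classical in
/-- the trace of left multiplication by a block-scalar element. -/
lemma trace_mulLeft_pi_scalar {n : ℕ} (d : Fin n → ℕ) (c : Fin n → ℂ) :
    LinearMap.trace ℂ (Π i, Matrix (Fin (d i)) (Fin (d i)) ℂ)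
      (LinearMap.mulLeft ℂ (fun i => c i • (1 : Matrix (Fin (d i)) (Fin (d i)) ℂ))) =
      ∑ i, c i * (d i : ℂ) ^ 2 := by
  let b := Pi.basis (fun i => Matrix.stdBasis ℂ (Fin (d i)) (Fin (d i)))
  rw [LinearMap.trace_eq_matrix_trace ℂ b, Matrix.trace, Fintype.sum_sigma]
  refine Finset.sum_congr rfl (fun i _ => ?_)
  have : ∀ q : Fin (d i) × Fin (d i), Matrix.diag (LinearMap.toMatrix b b
      (LinearMap.mulLeft ℂ (fun i => c i • (1 : Matrix (Fin (d i)) (Fin (d i)) ℂ)))) ⟨i, q⟩ = c i := by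
    intro q
    have h1 : (fun i => c i • (1 : Matrix (Fin (d i)) (Fin (d i)) ℂ)) * b ⟨i, q⟩ =
        c i • b ⟨i, q⟩ := by
      ext j a a'
      rcases eq_or_ne j i with rfl | hne
      · simp
      · simp [b, Pi.basis_apply, Pi.single_eq_of_ne hne]
    rw [Matrix.diag_apply, LinearMap.toMatrix_apply, LinearMap.mulLeft_apply, h1, map_smul,
      b.repr_self, Finsupp.smul_apply, Finsupp.single_eq_same, smul_eq_mul, mul_one]
  rw [Finset.sum_congr rfl (fun q _ => this q), Finset.sum_const, Finset.card_univ,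
    Fintype.card_prod, Fintype.card_fin, nsmul_eq_mul, Nat.cast_mul]
  ring

open scoped Classical in
/-- the trace of left multiplication on a group algebra reads the coefficient of `1`. -/
lemma trace_mulLeft_single {Γ : Type u} [Group Γ] [Fintype Γ] (g : Γ) :
    LinearMap.trace ℂ (MonoidAlgebra ℂ Γ) (LinearMap.mulLeft ℂ (MonoidAlgebra.of ℂ Γ g)) =
      if g = 1 then (Fintype.card Γ : ℂ) else 0 := by
  let b : Module.Basis Γ ℂ (MonoidAlgebra ℂ Γ) := MonoidAlgebra.basis Γ ℂ
  rw [LinearMap.trace_eq_matrix_trace ℂ b, Matrix.trace]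
  have : ∀ h, Matrix.diag (LinearMap.toMatrix b b
      (LinearMap.mulLeft ℂ (MonoidAlgebra.of ℂ Γ g))) h = if g = 1 then (1 : ℂ) else 0 := by
    intro h
    rw [Matrix.diag_apply, LinearMap.toMatrix_apply, LinearMap.mulLeft_apply]
    have hb : MonoidAlgebra.of ℂ Γ g * b h = b (g * h) := by
      simp [b, MonoidAlgebra.of_apply, MonoidAlgebra.single_mul_single]
    rw [hb, b.repr_self, Finsupp.single_apply]
    simp
  rw [Finset.sum_congr rfl (fun h _ => this h), Finset.sum_const, Finset.card_univ]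
  split_ifs <;> simp

/-- central group elements are central in the group algebra. -/
lemma commute_of_center {Γ : Type u} [Group Γ] {z : Γ} (hz : z ∈ Subgroup.center Γ)
    (a : MonoidAlgebra ℂ Γ) :
    MonoidAlgebra.of ℂ Γ z * a = a * MonoidAlgebra.of ℂ Γ z := by
  induction a using MonoidAlgebra.induction_on with
  | of g => rw [← map_mul, ← map_mul, mem_center_iff.1 hz g]
  | add a b ha hb => rw [mul_add, add_mul, ha, hb]
  | smul r a ha => rw [mul_smul_comm, smul_mul_assoc, ha]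

theorem exponent_sq_dvd {Q : Type u} [Group Q] [Finite Q] {A : Type v} [CommGroup A]
    (hA : Cfsg.HasSchurMultiplier Q A) : Monoid.exponent A ^ 2 ∣ Nat.card Q := by
  classical
  obtain ⟨⟨Γ, iΓ, jΓ, σ, hσ, ⟨eA⟩⟩, -⟩ := hA
  letI := iΓ
  letI := jΓ
  letI : Fintype Γ := Fintype.ofFinite Γ
  let Z := σ.ker
  haveI : IsMulCommutative Z := ⟨⟨fun a b => Subtype.ext (mem_center_iff.1 (hσ.2.1 b.2) a)⟩⟩
  rw [← Monoid.exponent_eq_of_mulEquiv eA]
  letI : Fintype Z := Fintype.ofFinite Z
  haveI : NeZero (Monoid.exponent Z : ℂ) :=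
    ⟨Nat.cast_ne_zero.2 Monoid.exponent_ne_zero_of_finite⟩
  obtain ⟨D⟩ := CommGroup.monoidHom_mulEquiv_of_hasEnoughRootsOfUnity Z ℂ
  obtain ⟨z₀, hz₀⟩ := Monoid.exists_orderOf_eq_exponent
    (Monoid.ExponentExists.of_finite : Monoid.ExponentExists Z)
  let χ : Z →* ℂˣ := D.symm z₀
  have hord : orderOf χ = Monoid.exponent Z := by
    rw [← hz₀, ← orderOf_injective D.symm.toMonoidHom D.symm.injective z₀]
    rfl
  haveI : NeZero (Nat.card Γ : ℂ) := ⟨Nat.cast_ne_zero.2 Nat.card_pos.ne'⟩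
  obtain ⟨m, d, hd, ⟨F⟩⟩ :=
    IsSemisimpleRing.exists_algEquiv_pi_matrix_of_isAlgClosed ℂ (MonoidAlgebra ℂ Γ)
  -- scalars
  have hscal : ∀ (z : Z) i, ∃ c : ℂ, F (MonoidAlgebra.of ℂ Γ z) i =
      c • (1 : Matrix (Fin (d i)) (Fin (d i)) ℂ) := by
    intro z i
    have hcom : ∀ M : Matrix (Fin (d i)) (Fin (d i)) ℂ, Commute M (F (MonoidAlgebra.of ℂ Γ z) i) := by
      intro M
      obtain ⟨y, hy⟩ := F.surjective (Pi.single i M)
      have hy2 : MonoidAlgebra.of ℂ Γ (z : Γ) * y = y * MonoidAlgebra.of ℂ Γ (z : Γ) :=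
        commute_of_center (hσ.2.1 z.2) y
      have h1 := congrArg (fun t => F t i) hy2
      simp only [map_mul, Pi.mul_apply, hy, Pi.single_eq_same] at h1
      exact h1.symm
    obtain ⟨c, hc⟩ := Matrix.mem_range_scalar_of_commute_single
      (M := F (MonoidAlgebra.of ℂ Γ z) i) (fun a b _ => hcom _)
    exact ⟨c, by rw [← hc]; ext a b; simp [Matrix.scalar_apply, Matrix.smul_apply, Matrix.one_apply, Matrix.diagonal_apply]⟩
  choose lam hlam using hscal
  have hlam1 : ∀ i, lam 1 i = 1 := by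
    intro i
    have h := hlam 1 i
    rw [OneMemClass.coe_one, map_one, map_one, Pi.one_apply] at h
    have h0 := congrFun (congrFun h ⟨0, Nat.pos_of_ne_zero (hd i).out⟩)
      ⟨0, Nat.pos_of_ne_zero (hd i).out⟩
    simpa using h0.symm
  have hlammul : ∀ z z' i, lam (z * z') i = lam z i * lam z' i := by
    intro z z' i
    have h := hlam (z * z') i
    rw [Subgroup.coe_mul, map_mul, map_mul, Pi.mul_apply, hlam, hlam, smul_mul_smul_comm,
      one_mul] at h
    have h0 := congrFun (congrFun h ⟨0, Nat.pos_of_ne_zero (hd i).out⟩)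
      ⟨0, Nat.pos_of_ne_zero (hd i).out⟩
    simpa using h0.symm
  have hdet : ∀ z i, lam z i ^ d i = 1 := by
    intro z i
    let δ : Γ →* ℂ := (Matrix.detMonoidHom).comp
      ((Pi.evalMonoidHom _ i).comp (F.toMonoidHom.comp (MonoidAlgebra.of ℂ Γ)))
    have h1 : (z : Γ) ∈ δ.toHomUnits.ker :=
      Abelianization.commutator_subset_ker _ (hσ.2.2 z.2)
    have h2 : δ z = 1 := congrArg Units.val (MonoidHom.mem_ker.1 h1)
    change (F (MonoidAlgebra.of ℂ Γ z) i).det = 1 at h2
    rw [hlam, Matrix.det_smul, Matrix.det_one, mul_one, Fintype.card_fin] at h2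
    exact h2
  let Λ : Fin m → (Z →* ℂˣ) := fun i =>
    MonoidHom.toHomUnits { toFun := fun z => lam z i, map_one' := hlam1 i,
                           map_mul' := fun z z' => hlammul z z' i }
  have hΛ : ∀ i z, ((Λ i z : ℂˣ) : ℂ) = lam z i := fun i z => rfl
  have hdiv : ∀ i, Λ i = χ → Monoid.exponent Z ∣ d i := by
    intro i hi
    rw [← hord, ← hi]
    exact orderOf_dvd_of_pow_eq_one (MonoidHom.ext fun z => Units.ext (by
      simp only [MonoidHom.pow_apply, Units.val_pow_eq_pow_val, MonoidHom.one_apply, Units.val_one,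
        hΛ, hdet]))
  -- the idempotent
  let x : MonoidAlgebra ℂ Γ := ∑ z : Z, ((χ z)⁻¹ : ℂˣ).val • MonoidAlgebra.of ℂ Γ (z : Γ)
  have htr : LinearMap.trace ℂ _ (LinearMap.mulLeft ℂ x) = (Fintype.card Γ : ℂ) := by
    have h1 : LinearMap.mulLeft ℂ x =
        ∑ z : Z, ((χ z)⁻¹ : ℂˣ).val • LinearMap.mulLeft ℂ (MonoidAlgebra.of ℂ Γ (z : Γ)) := by
      ext y
      simp [x, Finset.sum_mul]
    rw [h1, map_sum, Finset.sum_eq_single (1 : Z)]
    · rw [map_smul, trace_mulLeft_single, if_pos (OneMemClass.coe_one Z), map_one, inv_one,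
        Units.val_one, one_smul]
    · intro z _ hz
      rw [map_smul, trace_mulLeft_single, if_neg (fun h : (z : Γ) = 1 => hz (Subtype.ext h)), smul_zero]
    · exact fun h => absurd (Finset.mem_univ _) h
  let c : Fin m → ℂ := fun i => if Λ i = χ then (Fintype.card Z : ℂ) else 0
  have hFx : F x = fun i => c i • (1 : Matrix (Fin (d i)) (Fin (d i)) ℂ) := by
    ext1 i
    simp only [x, map_sum, map_smul, Finset.sum_apply, Pi.smul_apply, hlam, smul_smul]
    rw [← Finset.sum_smul]
    congr 1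
    have h1 : (∑ z : Z, ((χ z)⁻¹ : ℂˣ).val * lam z i) = ∑ z : Z, ((χ⁻¹ * Λ i) z : ℂˣ).val := by
      simp [hΛ]
    rw [h1]
    simp only [c]
    by_cases h : Λ i = χ
    · rw [if_pos h, h]
      simp
    · rw [if_neg h]
      have hne : χ⁻¹ * Λ i ≠ 1 := fun hh => h ((inv_mul_eq_one.1 hh).symm)
      exact sum_hom_units_eq_zero ((Units.coeHom ℂ).comp (χ⁻¹ * Λ i))
        (fun hh => hne (MonoidHom.ext fun z => Units.ext (DFunLike.congr_fun hh z)))
  have key : (Fintype.card Γ : ℂ) = ∑ i, c i * (d i : ℂ) ^ 2 := by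
    rw [← htr, ← trace_mulLeft_pi_scalar, ← hFx]
    rw [← LinearMap.trace_conj' (LinearMap.mulLeft ℂ x) F.toLinearEquiv]
    congr 1
    refine LinearMap.ext fun w => ?_
    simp [LinearEquiv.conj_apply_apply]
  have hnat : Nat.card Q = ∑ i, if Λ i = χ then d i ^ 2 else 0 := by
    have hZ : (Fintype.card Z : ℂ) ≠ 0 := Nat.cast_ne_zero.2 Fintype.card_ne_zero
    have h2 : (Fintype.card Γ : ℂ) = (Fintype.card Z : ℂ) * (Nat.card Q : ℂ) := by
      rw [← Nat.card_eq_fintype_card, ← Nat.card_eq_fintype_card,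
        Subgroup.card_eq_card_quotient_mul_card_subgroup σ.ker,
        Nat.card_congr (QuotientGroup.quotientKerEquivOfSurjective σ hσ.1).toEquiv, Nat.cast_mul,
        mul_comm]
    rw [h2] at key
    have h3 : (Fintype.card Z : ℂ) * (Nat.card Q : ℂ) =
        (Fintype.card Z : ℂ) * ((∑ i, if Λ i = χ then d i ^ 2 else 0 : ℕ) : ℂ) := by
      rw [key, Nat.cast_sum, Finset.mul_sum]
      refine Finset.sum_congr rfl (fun i _ => ?_)
      simp only [c]
      split_ifs <;> simp
    exact_mod_cast mul_left_cancel₀ hZ h3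
  rw [hnat]
  refine Finset.dvd_sum (fun i _ => ?_)
  split_ifs with h
  · exact pow_dvd_pow_of_dvd (hdiv i h) 2
  · exact dvd_zero _
end H26
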