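import Cfsg.Agent.H26.SchurCocycle

/-!
# Lower bounds for Schur multipliers
-/

set_option autoImplicit false
set_option linter.style.haveILetI false
set_option linter.unusedSectionVars false

namespace H26

open Subgroup
open scoped commutatorElement IsMulCommutative

universe u v w

/-- a bimultiplicative map gives a lower bound on the multiplier. -/
theorem orderOf_dvd_card_schurM_of_bilin {G : Type u} [Group G] [Finite G] {α : Type v}
    {f : FreeGroup α →* G} (hf : Function.Surjective f) {A : Type w} [CommGroup A]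
    (β : G → G → A) (hl : ∀ g h k, β (g * h) k = β g k * β h k)
    (hr : ∀ g h k, β g (h * k) = β g h * β g k) (g h : G) (hgh : g * h = h * g) :
    orderOf (β g h * (β h g)⁻¹) ∣ Nat.card (schurM f) := by
  let z := Cocycle.ofBilin β hl hr
  refine dvd_trans ?_ (kerComm_card_dvd hf z.proj z.proj_ker_le_center z.proj_surjective)
  have hmem : z.incl (β g h * (β h g)⁻¹) ∈ kerComm z.proj := by
    refine ⟨by rw [z.proj_ker]; exact ⟨_, rfl⟩, ?_⟩
    rw [← Cocycle.commutator_eq_of_bilin β hl hr g h hgh]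
    exact commutator_mem_commutator (mem_top _) (mem_top _)
  have h1 := orderOf_dvd_natCard (⟨_, hmem⟩ : kerComm z.proj)
  rwa [← Subgroup.orderOf_coe, orderOf_injective z.incl z.incl_injective] at h1

/-- the lattice used to build the cover of a metacyclic group. -/
private abbrev metaLattice (m : ℕ) (α : ℤ) (g : ℕ) : AddSubgroup (ℤ × ℤ) :=
  AddSubgroup.closure {((m : ℤ), -α), (0, (g : ℤ))}

/-- the group realising the multiplier of a metacyclic group. -/
theorem exists_metacyclic_cover {d u v n r l k g : ℕ} (hd : 0 < d) (hv : 0 < v) (hn : 0 < n)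
    (hr : r = d * u + 1) (hvu : Nat.Coprime v u)
    (hS : (∑ i ∈ Finset.range n, r ^ i) = v * k) (hrn : r ^ n = u * k * (d * v) + 1)
    (hgd : g ∣ d) (hgl : g ∣ l) (hgk : g ∣ k) :
    ∃ (X : Type) (_ : Group X) (a b w : X), w ∈ center X ∧ orderOf w = g ∧
      b ^ n = a ^ (v * l) ∧ (∀ i : ℤ, a ^ i ∈ zpowers w ↔ ((d * v : ℕ) : ℤ) ∣ i) ∧
      (b * a * b⁻¹) * (a ^ r)⁻¹ ∈ zpowers w ∧ ⁅b, a⁆ ^ v = w := by
  classical
  obtain ⟨α, β, hαβ⟩ : ∃ α β : ℤ, (u : ℤ) * α + (v : ℤ) * β = 1 :=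
    ⟨Nat.gcdA u v, Nat.gcdB u v, by rw [← Nat.gcd_eq_gcd_ab, hvu.symm]; simp⟩
  set m := d * v with hm
  have hm0 : (m : ℤ) ≠ 0 := by
    have : 0 < m := Nat.mul_pos hd hv
    omega
  let L := metaLattice m α g
  have hL : ∀ p : ℤ × ℤ, p ∈ L ↔ ∃ i j : ℤ, p = (i * m, -(i * α) + j * g) := fun p => by
    simp only [L, metaLattice, AddSubgroup.mem_closure_pair, Prod.smul_mk, smul_eq_mul,
      Prod.mk_add_mk, mul_zero, add_zero, mul_neg, eq_comm]
  let θ0 : ℤ × ℤ →+ ℤ × ℤ := AddMonoidHom.mk' (fun p => ((r : ℤ) * p.1, β * p.1 + p.2))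
    (fun p q => by ext <;> simp <;> ring)
  have hθ0 : L ≤ L.comap θ0 := by
    intro p hp
    obtain ⟨i, j, rfl⟩ := (hL p).1 hp
    refine (hL _).2 ?_
    obtain ⟨e, he⟩ : (g : ℤ) ∣ (d : ℤ) := Int.natCast_dvd_natCast.2 hgd
    refine ⟨(r : ℤ) * i, j + i * e, ?_⟩
    ext
    · change (r : ℤ) * (i * m) = _
      ring
    · change β * (i * m) + (-(i * α) + j * g) = _
      rw [hr, hm]
      push_cast
      have : i * (d : ℤ) * ((u : ℤ) * α + (v : ℤ) * β) = i * e * g := by rw [hαβ, he]; ring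
      linear_combination this
  let A0 := Multiplicative ((ℤ × ℤ) ⧸ L)
  let mk0 : ℤ × ℤ → A0 := fun p => Multiplicative.ofAdd (QuotientAddGroup.mk p)
  let θh : A0 →* A0 := AddMonoidHom.toMultiplicative (QuotientAddGroup.map L L θ0 hθ0)
  have hθh : ∀ p, θh (mk0 p) = mk0 (θ0 p) := fun p => rfl
  have hiter : ∀ (j : ℕ) (p : ℤ × ℤ), θh^[j] (mk0 p) =
      mk0 ((r : ℤ) ^ j * p.1, β * (∑ i ∈ Finset.range j, (r : ℤ) ^ i) * p.1 + p.2) := by
    intro j p
    induction j with
    | zero => simp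
    | succ j ih =>
      rw [Function.iterate_succ_apply', ih, hθh]
      congr 1
      ext
      · change (r : ℤ) * ((r : ℤ) ^ j * p.1) = _
        ring
      · change β * ((r : ℤ) ^ j * p.1) + (β * (∑ i ∈ Finset.range j, (r : ℤ) ^ i) * p.1 + p.2) = _
        rw [Finset.sum_range_succ]; ring
  have hmk0_eq : ∀ p q : ℤ × ℤ, q - p ∈ L → mk0 p = mk0 q := fun p q h =>
    congrArg Multiplicative.ofAdd (QuotientAddGroup.eq.2 (by rwa [neg_add_eq_sub]))
  have hsurj0 : Function.Surjective mk0 := fun x => by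
    obtain ⟨p, hp⟩ := QuotientAddGroup.mk_surjective x.toAdd
    exact ⟨p, by simp [mk0, hp]⟩
  have hθn : ∀ x, θh^[n] x = x := by
    intro x
    obtain ⟨p, rfl⟩ := hsurj0 x
    rw [hiter]
    refine (hmk0_eq _ _ ?_).symm
    refine (hL _).2 ?_
    have hrn' : (r : ℤ) ^ n = (u : ℤ) * k * m + 1 := by exact_mod_cast hrn
    have hS' : (∑ i ∈ Finset.range n, (r : ℤ) ^ i) = (v : ℤ) * k := by exact_mod_cast hS
    obtain ⟨e, he⟩ : (g : ℤ) ∣ (k : ℤ) := Int.natCast_dvd_natCast.2 hgk
    refine ⟨p.1 * u * k, p.1 * e, ?_⟩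
    ext
    · simp only [Prod.fst_sub, hrn']; ring
    · simp only [Prod.snd_sub, hS']
      have : p.1 * (k : ℤ) * ((u : ℤ) * α + (v : ℤ) * β) = p.1 * e * g := by rw [hαβ, he]; ring
      linear_combination this
  have hbij : Function.Bijective θh := by
    obtain ⟨j, rfl⟩ : ∃ j, n = j + 1 := ⟨n - 1, by omega⟩
    refine ⟨fun x y h => ?_, fun x => ⟨θh^[j] x, ?_⟩⟩
    · rw [← hθn x, ← hθn y, Function.iterate_succ_apply, Function.iterate_succ_apply, h]
    · rw [← Function.iterate_succ_apply' θh, hθn]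
  let θ : MulAut A0 := MulEquiv.ofBijective θh hbij
  have hθpow : ∀ (j : ℕ) x, (θ ^ j) x = θh^[j] x := fun j => by
    induction j with
    | zero => intro x; rfl
    | succ j ih =>
      intro x
      rw [pow_succ, MulAut.mul_apply, ih, Function.iterate_succ_apply]
      rfl
  have hθn' : θ ^ n = 1 := MulEquiv.ext fun x => (hθpow n x).trans (hθn x)
  let φ : Multiplicative ℤ →* MulAut A0 := zpowersHom (MulAut A0) θ
  have hfix : ∀ x : A0, θh x = x → ∀ e, φ e x = x := fun x hx e => by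
    have h1 : θ ∈ MulAction.stabilizer (MulAut A0) x := hx
    exact (MulAction.stabilizer (MulAut A0) x).zpow_mem h1 e.toAdd
  let P := A0 ⋊[φ] Multiplicative ℤ
  let κ : P := ⟨(mk0 (((v * l : ℕ) : ℤ), 0))⁻¹, Multiplicative.ofAdd (n : ℤ)⟩
  have hT : θh (mk0 (((v * l : ℕ) : ℤ), 0)) = mk0 (((v * l : ℕ) : ℤ), 0) := by
    rw [hθh]
    refine (hmk0_eq _ _ ?_).symm
    refine (hL _).2 ?_
    obtain ⟨e, he⟩ : (g : ℤ) ∣ (l : ℤ) := Int.natCast_dvd_natCast.2 hgl
    refine ⟨(u : ℤ) * l, e, ?_⟩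
    ext
    · change (r : ℤ) * ((v * l : ℕ) : ℤ) - ((v * l : ℕ) : ℤ) = _
      rw [hr, hm]; push_cast; ring
    · change β * ((v * l : ℕ) : ℤ) + 0 - 0 = _
      push_cast
      have : (l : ℤ) * ((u : ℤ) * α + (v : ℤ) * β) = e * g := by rw [hαβ, he]; ring
      linear_combination this
  have hφn : φ (Multiplicative.ofAdd (n : ℤ)) = 1 := by
    simp [φ, hθn']
  have hκ : κ ∈ center P := by
    rw [mem_center_iff]
    intro p
    apply SemidirectProduct.ext
    · change p.left * φ p.right (mk0 (((v * l : ℕ) : ℤ), 0))⁻¹ =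
        (mk0 (((v * l : ℕ) : ℤ), 0))⁻¹ * φ (Multiplicative.ofAdd (n : ℤ)) p.left
      rw [map_inv, hfix _ hT, hφn, MulAut.one_apply, mul_comm]
    · exact mul_comm _ _
  haveI : (zpowers κ).Normal := ⟨fun p hp e => by
    have hc : p ∈ center P := (zpowers_le.2 hκ) hp
    rw [mem_center_iff.1 hc e, mul_inv_cancel_right]; exact hp⟩
  let q : P →* P ⧸ zpowers κ := QuotientGroup.mk' _
  let i0 : A0 →* P := SemidirectProduct.inl
  have hker : ∀ x : A0, q (i0 x) = 1 → x = 1 := by
    intro x hx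
    rw [← MonoidHom.mem_ker, QuotientGroup.ker_mk'] at hx
    obtain ⟨e, he⟩ := mem_zpowers_iff.1 hx
    have h2 := congrArg SemidirectProduct.right he
    change SemidirectProduct.rightHom (κ ^ e) = SemidirectProduct.rightHom (i0 x) at h2
    rw [map_zpow, SemidirectProduct.rightHom_inl] at h2
    have h3 : e * (n : ℤ) = 0 := by
      have := congrArg Multiplicative.toAdd h2
      simpa [κ, smul_eq_mul] using this
    have he0 : e = 0 := by
      rcases mul_eq_zero.1 h3 with h | h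
      · exact h
      · omega
    rw [he0, zpow_zero] at he
    exact SemidirectProduct.inl_injective (he.symm.trans (map_one _).symm)
  let a : P ⧸ zpowers κ := q (i0 (mk0 (1, 0)))
  let b : P ⧸ zpowers κ := q (SemidirectProduct.inr (Multiplicative.ofAdd 1))
  let w : P ⧸ zpowers κ := q (i0 (mk0 (0, 1)))
  have hpow : ∀ (p : ℤ × ℤ) (i : ℤ), q (i0 (mk0 p)) ^ i = q (i0 (mk0 (i • p))) := fun p i => by
    rw [← map_zpow, ← map_zpow]; congr 2
  have hW : θh (mk0 (0, 1)) = mk0 (0, 1) := by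
    rw [hθh]; congr 1; ext <;> simp [θ0]
  refine ⟨P ⧸ zpowers κ, inferInstance, a, b, w, ?_, ?_, ?_, ?_, ?_, ?_⟩
  · rw [mem_center_iff]
    intro x
    obtain ⟨x, rfl⟩ := QuotientGroup.mk'_surjective _ x
    change q x * q (i0 _) = q (i0 _) * q x
    rw [← map_mul, ← map_mul]
    congr 1
    apply SemidirectProduct.ext
    · change x.left * φ x.right (mk0 (0, 1)) = mk0 (0, 1) * φ 1 x.left
      rw [hfix _ hW, map_one, MulAut.one_apply, mul_comm]
    · change x.right * 1 = 1 * x.right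
      rw [mul_one, one_mul]
  · refine Nat.dvd_antisymm (orderOf_dvd_of_pow_eq_one ?_) ?_
    · rw [← zpow_natCast, hpow]
      rw [show mk0 ((g : ℤ) • ((0 : ℤ), (1 : ℤ))) = mk0 0 from ?_]
      · exact (congrArg q (map_one i0)).trans (map_one q)
      · refine hmk0_eq _ _ ((hL _).2 ⟨0, -1, ?_⟩)
        ext <;> simp
    · have h1 : w ^ ((orderOf w : ℕ) : ℤ) = 1 := by rw [zpow_natCast, pow_orderOf_eq_one]
      rw [hpow] at h1
      have h2 := (QuotientAddGroup.eq_zero_iff _).1 (congrArg Multiplicative.toAdd (hker _ h1))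
      obtain ⟨i, j, hij⟩ := (hL _).1 h2
      have h3 := congrArg Prod.fst hij
      have h4 := congrArg Prod.snd hij
      simp only [Prod.smul_mk, smul_eq_mul, mul_zero, mul_one] at h3 h4
      have hi : i = 0 := by
        rcases mul_eq_zero.1 h3.symm with h | h
        · exact h
        · exact absurd h hm0
      rw [hi, zero_mul, neg_zero, zero_add] at h4
      exact Int.natCast_dvd_natCast.1 (Dvd.intro_left j h4.symm)
  · have h1 : q κ = 1 := (QuotientGroup.eq_one_iff κ).2 (mem_zpowers κ)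
    have h2 : κ = (i0 (mk0 (((v * l : ℕ) : ℤ), 0)))⁻¹ *
        SemidirectProduct.inr (Multiplicative.ofAdd (n : ℤ)) := by
      rw [← map_inv]; exact (SemidirectProduct.inl_left_mul_inr_right κ).symm
    replace h1 := (congrArg q h2).symm.trans h1
    rw [map_mul, map_inv, inv_mul_eq_one] at h1
    rw [← zpow_natCast a, hpow]
    change b ^ n = _
    rw [show ((v * l : ℕ) : ℤ) • ((1 : ℤ), (0 : ℤ)) = (((v * l : ℕ) : ℤ), (0 : ℤ)) by simp, h1]
    rw [← map_pow, ← map_pow]
    congr 2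
    rw [← ofAdd_nsmul, nsmul_eq_mul, mul_one]
  · intro i
    constructor
    · intro h
      obtain ⟨j, hj⟩ := mem_zpowers_iff.1 h
      rw [hpow, hpow, eq_comm, ← inv_mul_eq_one, ← map_inv, ← map_inv, ← map_mul, ← map_mul] at hj
      have h2 := (QuotientAddGroup.eq_zero_iff
        (-(i • ((1 : ℤ), (0 : ℤ))) + j • ((0 : ℤ), (1 : ℤ)))).1
        (congrArg Multiplicative.toAdd (hker _ hj))
      obtain ⟨i', j', hij⟩ := (hL _).1 h2
      have h3 := congrArg Prod.fst hij
      simp only [Prod.neg_mk, Prod.smul_mk, Prod.mk_add_mk, smul_eq_mul, mul_one, mul_zero,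
        add_zero] at h3
      exact dvd_neg.1 (Dvd.intro_left i' h3.symm)
    · rintro ⟨e, rfl⟩
      refine mem_zpowers_iff.2 ⟨e * α, ?_⟩
      rw [hpow, hpow]
      congr 2
      refine hmk0_eq _ _ ((hL _).2 ⟨e, 0, ?_⟩)
      ext <;> simp [mul_comm]
  · refine mem_zpowers_iff.2 ⟨β, ?_⟩
    have hconj : b * a * b⁻¹ = q (i0 (θh (mk0 (1, 0)))) := by
      change q _ * q _ * (q _)⁻¹ = _
      rw [← map_inv, ← map_mul, ← map_mul]
      congr 1
      rw [← map_inv, ← SemidirectProduct.inl_aut]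
      simp [φ, θ, i0]
    rw [hconj, hpow, ← zpow_natCast a, hpow, eq_mul_inv_iff_mul_eq, ← map_mul, ← map_mul, hθh]
    congr 2
    refine congrArg Multiplicative.ofAdd ?_
    change QuotientAddGroup.mk (β • ((0 : ℤ), (1 : ℤ)) + ((r : ℤ)) • ((1 : ℤ), (0 : ℤ))) = _
    congr 1
    ext <;> simp [θ0]
  · have hconj : b * a * b⁻¹ = q (i0 (θh (mk0 (1, 0)))) := by
      change q _ * q _ * (q _)⁻¹ = _
      rw [← map_inv, ← map_mul, ← map_mul]
      congr 1
      rw [← map_inv, ← SemidirectProduct.inl_aut]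
      simp [φ, θ, i0]
    rw [commutatorElement_def, hconj, hθh, ← map_inv, ← map_inv, ← map_mul, ← map_mul,
      ← zpow_natCast]
    change q (i0 (mk0 (θ0 (1, 0) + -(1, 0)))) ^ (v : ℤ) = _
    rw [hpow]
    congr 2
    refine hmk0_eq _ _ ((hL _).2 ⟨-(u : ℤ), 0, ?_⟩)
    ext
    · change 0 - (v : ℤ) * ((r : ℤ) * 1 + -1) = _
      rw [hr, hm]; push_cast; ring
    · change 1 - (v : ℤ) * (β * 1 + 0 + -0) = _
      linear_combination -hαβ

/-- lower bound for a group mapping suitably onto the central quotient of the model. -/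
theorem metacyclic_lower {G : Type u} [Group G] [Finite G] {f : FreeGroup Bool →* G}
    (hf : Function.Surjective f) {X : Type v} [Group X] {a b w : X} (hw : w ∈ center X)
    {d u v r : ℕ} (hr : r = d * u + 1) (F : haveI : (zpowers w).Normal := ⟨fun p hp e => by
        rw [mem_center_iff.1 ((zpowers_le.2 hw) hp) e, mul_inv_cancel_right]; exact hp⟩
      G →* X ⧸ zpowers w)
    (hFa : F (f (.of true)) = QuotientGroup.mk a) (hFb : F (f (.of false)) = QuotientGroup.mk b)
    (hm : f (.of true) ^ (d * v) = 1)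
    (hab : f (.of false) * f (.of true) * (f (.of false))⁻¹ = f (.of true) ^ r)
    (hc : ⁅b, a⁆ ^ v = w) : orderOf w ∣ Nat.card (schurM f) := by
  haveI : (zpowers w).Normal := ⟨fun p hp e => by
    rw [mem_center_iff.1 ((zpowers_le.2 hw) hp) e, mul_inv_cancel_right]; exact hp⟩
  let Y : Subgroup (X × G) :=
    MonoidHom.eqLocus ((QuotientGroup.mk' (zpowers w)).comp (MonoidHom.fst X G))
      (F.comp (MonoidHom.snd X G))
  let σ : Y →* G := (MonoidHom.snd X G).comp Y.subtype
  have hs : Function.Surjective σ := fun g => by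
    obtain ⟨x, hx⟩ := QuotientGroup.mk'_surjective (zpowers w) (F g)
    exact ⟨⟨(x, g), hx⟩, rfl⟩
  have hcen : σ.ker ≤ center Y := by
    intro p hp
    have h2 : (p : X × G).2 = 1 := hp
    have h1 : (p : X × G).1 ∈ zpowers w := by
      rw [← QuotientGroup.eq_one_iff]
      exact p.2.trans ((congrArg F h2).trans (map_one F))
    rw [mem_center_iff]
    intro e
    apply Subtype.ext
    apply Prod.ext
    · exact mem_center_iff.1 ((zpowers_le.2 hw) h1) _
    · change (e : X × G).2 * (p : X × G).2 = (p : X × G).2 * (e : X × G).2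
      rw [h2, mul_one, one_mul]
  refine dvd_trans ?_ (kerComm_card_dvd hf σ hcen hs)
  let A' : Y := ⟨(a, f (.of true)), hFa.symm⟩
  let B' : Y := ⟨(b, f (.of false)), hFb.symm⟩
  have h2 : σ (⁅B', A'⁆ ^ v) = 1 := by
    rw [map_pow, map_commutatorElement]
    change ⁅f (.of false), f (.of true)⁆ ^ v = 1
    rw [commutatorElement_def, hab, hr, pow_succ, mul_inv_cancel_right, ← pow_mul,
      show d * u * v = d * v * u by ring, pow_mul, hm, one_pow]
  have hmem : ⁅B', A'⁆ ^ v ∈ kerComm σ :=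
    ⟨h2, pow_mem (commutator_mem_commutator (mem_top _) (mem_top _)) v⟩
  have hfst : ((⁅B', A'⁆ ^ v : Y) : X × G).1 = w := by
    change ((MonoidHom.fst X G).comp Y.subtype) (⁅B', A'⁆ ^ v) = w
    rw [map_pow, map_commutatorElement]
    exact hc
  refine dvd_trans ?_ (orderOf_dvd_natCard (⟨_, hmem⟩ : kerComm σ))
  conv_lhs => rw [← hfst]
  exact orderOf_map_dvd (((MonoidHom.fst X G).comp Y.subtype).comp (kerComm σ).subtype) ⟨_, hmem⟩

end H26
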