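import Cfsg.Agent.H26.SchurCocycle

/-!
# Schur multipliers of metacyclic groups
-/

set_option autoImplicit false
set_option linter.style.haveILetI false
set_option linter.unusedSectionVars false

namespace H26

open Subgroup
open scoped commutatorElement IsMulCommutative

universe u v w

/-- conjugation iterates. -/
lemma conj_pow_formula {E : Type u} [Group E] {A B z : E} {r : ℕ} (hz : z ∈ center E)
    (h : B * A * B⁻¹ = A ^ r * z) (k : ℕ) :
    B ^ k * A * (B ^ k)⁻¹ = A ^ (r ^ k) * z ^ (∑ i ∈ Finset.range k, r ^ i) := by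
  induction k with
  | zero => simp
  | succ k ih =>
    have hcA : Commute A z := mem_center_iff.1 hz A
    have hB : B * z * B⁻¹ = z := by rw [mem_center_iff.1 hz B, mul_inv_cancel_right]
    calc B ^ (k + 1) * A * (B ^ (k + 1))⁻¹ = B * (B ^ k * A * (B ^ k)⁻¹) * B⁻¹ := by
          rw [pow_succ']; group
      _ = (B * A * B⁻¹) ^ (r ^ k) * (B * z * B⁻¹) ^ (∑ i ∈ Finset.range k, r ^ i) := by
          rw [ih, conj_pow, conj_pow]; group
      _ = _ := by
          rw [h, hB, (hcA.pow_left r).mul_pow, ← pow_mul, mul_assoc, ← pow_add,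
            Finset.sum_range_succ, add_comm (∑ i ∈ Finset.range k, r ^ i), pow_succ']

/-- relations among the parameters of a metacyclic presentation. -/
lemma metacyclic_param {m n r : ℕ} (hm : 0 < m) (hr : 0 < r) (hrn : r ^ n ≡ 1 [MOD m]) :
    ∃ d u v k : ℕ, d = Nat.gcd m (r - 1) ∧ 0 < d ∧ 0 < v ∧ m = d * v ∧ r = d * u + 1 ∧
      Nat.Coprime v u ∧ (∑ i ∈ Finset.range n, r ^ i) = v * k ∧
      r ^ n = u * k * m + 1 := by
  obtain ⟨v, u, hvu, hv, hu⟩ := Nat.exists_coprime m (r - 1)
  set d := Nat.gcd m (r - 1) with hd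
  have hd0 : 0 < d := Nat.gcd_pos_of_pos_left _ hm
  have hv0 : 0 < v := Nat.pos_of_ne_zero (fun h => by simp [h] at hv; omega)
  have hr' : r = d * u + 1 := by rw [Nat.mul_comm]; omega
  have hsum : ∀ j, r ^ j = d * u * (∑ i ∈ Finset.range j, r ^ i) + 1 := fun j => by
    induction j with
    | zero => simp
    | succ j ih =>
      have e : r ^ j * r = r ^ j * (d * u) + r ^ j := by
        calc r ^ j * r = r ^ j * (d * u + 1) := by rw [← hr']
          _ = _ := by ring
      rw [Finset.sum_range_succ, Nat.mul_add, pow_succ, e]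
      linarith
  have hdvd : m ∣ d * u * (∑ i ∈ Finset.range n, r ^ i) := by
    have h1 := (Nat.modEq_iff_dvd' (Nat.one_le_pow _ _ hr)).1 hrn.symm
    rwa [hsum n, Nat.add_sub_cancel] at h1
  rw [hv, Nat.mul_comm v, Nat.mul_assoc] at hdvd
  obtain ⟨k, hk⟩ := hvu.dvd_of_dvd_mul_left ((Nat.mul_dvd_mul_iff_left hd0).1 hdvd)
  refine ⟨d, u, v, k, rfl, hd0, hv0, by rw [Nat.mul_comm]; exact hv, hr', hvu, hk, ?_⟩
  rw [hsum n, hk, hv]; ring

lemma commutator_le_of_closure_pair {E : Type u} [Group E] {A B : E} (N : Subgroup E) [N.Normal]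
    (h : ⁅B, A⁆ ∈ N) (hgen : Subgroup.closure {A, B} = ⊤) : commutator E ≤ N := by
  have hc : Commute (QuotientGroup.mk B : E ⧸ N) (QuotientGroup.mk A) := by
    rw [commute_iff_eq, ← commutatorElement_eq_one_iff_mul_comm]
    exact (QuotientGroup.eq_one_iff _).2 h
  have hcomm : ∀ p q : E ⧸ N, p * q = q * p := by
    have htop : Subgroup.closure {(QuotientGroup.mk A : E ⧸ N), QuotientGroup.mk B} = ⊤ := by
      have := congrArg (Subgroup.map (QuotientGroup.mk' N)) hgen
      rwa [MonoidHom.map_closure, Set.image_pair,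
        Subgroup.map_top_of_surjective _ (QuotientGroup.mk'_surjective N)] at this
    haveI : IsMulCommutative (Subgroup.closure {(QuotientGroup.mk A : E ⧸ N), QuotientGroup.mk B}) :=
      Subgroup.isMulCommutative_closure (by
        rintro x (rfl | rfl) y (rfl | rfl) <;> first | rfl | exact hc.symm.eq | exact hc.eq)
    intro p q
    have hp : p ∈ Subgroup.closure {(QuotientGroup.mk A : E ⧸ N), QuotientGroup.mk B} :=
      htop ▸ mem_top _
    have hq : q ∈ Subgroup.closure {(QuotientGroup.mk A : E ⧸ N), QuotientGroup.mk B} :=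
      htop ▸ mem_top _
    exact congrArg Subtype.val (IsMulCommutative.is_comm.comm (⟨p, hp⟩ : Subgroup.closure _) ⟨q, hq⟩)
  rw [commutator_eq_closure, Subgroup.closure_le]
  rintro _ ⟨a, b, rfl⟩
  rw [SetLike.mem_coe, ← QuotientGroup.eq_one_iff]
  change QuotientGroup.mk' N ⁅a, b⁆ = 1
  rw [map_commutatorElement]
  exact commutatorElement_eq_one_iff_mul_comm.2 (hcomm _ _)

section Upper

variable {G : Type u} [Group G]

/-- upper bound: the multiplier of a metacyclic group is cyclic of order dividing three numbers. -/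
theorem metacyclic_upper {f : FreeGroup Bool →* G} (hf : Function.Surjective f)
    {d u v n r l k : ℕ} (hv : 0 < v) (hn : 0 < n) (hd : 0 < d) (hr : r = d * u + 1)
    (hvu : Nat.Coprime v u) (hS : (∑ i ∈ Finset.range n, r ^ i) = v * k)
    (hrn : r ^ n = u * k * (d * v) + 1)
    (ha : orderOf (f (.of true)) = d * v)
    (hb : f (.of false) ^ n = f (.of true) ^ (v * l))
    (hab : f (.of false) * f (.of true) * (f (.of false))⁻¹ = f (.of true) ^ r) :
    IsCyclic (schurM f) ∧ Nat.card (schurM f) ∣ Nat.gcd l (Nat.gcd d k) := by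
  let E := CE f
  let π : E →* G := cePi f
  have hcen : π.ker ≤ center E := cePi_ker_le_center
  let A : E := QuotientGroup.mk (.of true)
  let B : E := QuotientGroup.mk (.of false)
  have hπA : π A = f (.of true) := rfl
  have hπB : π B = f (.of false) := rfl
  let z : E := (A ^ r)⁻¹ * (B * A * B⁻¹)
  have hz : z ∈ center E := hcen (by
    change π ((A ^ r)⁻¹ * (B * A * B⁻¹)) = 1
    rw [map_mul, map_inv, map_pow, map_mul, map_mul, map_inv, hπA, hπB, hab, inv_mul_cancel])
  have hconj : B * A * B⁻¹ = A ^ r * z := by simp only [z]; group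
  have hAz : Commute A z := mem_center_iff.1 hz A
  let y : E := (A ^ (v * l))⁻¹ * B ^ n
  have hy : y ∈ center E := hcen (by
    change π ((A ^ (v * l))⁻¹ * B ^ n) = 1
    rw [map_mul, map_inv, map_pow, map_pow, hπA, hπB, hb, inv_mul_cancel])
  have hBn : B ^ n = A ^ (v * l) * y := by simp only [y]; group
  have hx : A ^ (d * v) ∈ center E := hcen (by
    change π (A ^ (d * v)) = 1
    rw [map_pow, hπA, ← ha, pow_orderOf_eq_one])
  have hBnA : Commute (B ^ n) A := by
    rw [hBn]
    exact ((Commute.refl A).pow_left _).mul_left (mem_center_iff.1 hy A).symm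
  let c : E := ⁅B, A⁆
  have hc : c = A ^ (d * u) * z := by
    change B * A * B⁻¹ * A⁻¹ = _
    rw [hconj, hr, pow_succ, mul_assoc (A ^ (d * u)) A z, hAz.eq]
    group
  have hcA : A * c * A⁻¹ = c := by
    rw [hc, ((Commute.refl A).pow_right (d * u) |>.mul_right hAz).eq, mul_inv_cancel_right]
  have hcB : B * c * B⁻¹ = c ^ r := by
    rw [hc, ← conj_mul, ← conj_pow, hconj, mem_center_iff.1 hz B, mul_inv_cancel_right,
      ((hAz.pow_left (d * u))).mul_pow, (hAz.pow_left r).mul_pow, ← pow_mul, ← pow_mul,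
      mul_assoc, ← pow_succ, Nat.mul_comm (d * u) r, hr]
  have hcBinv : B⁻¹ * c * B ∈ zpowers c := by
    have hconjk : ∀ j : ℕ, B ^ j * c * (B ^ j)⁻¹ = c ^ (r ^ j) := fun j => by
      induction j with
      | zero => simp
      | succ j ih =>
        calc B ^ (j + 1) * c * (B ^ (j + 1))⁻¹ = B * (B ^ j * c * (B ^ j)⁻¹) * B⁻¹ := by
              rw [pow_succ']; group
          _ = _ := by rw [ih, ← conj_pow, hcB, ← pow_mul, pow_succ']
    have hcn : Commute (B ^ n) c := by
      rw [hc]
      exact (hBnA.pow_right _).mul_right (mem_center_iff.1 hz _)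
    obtain ⟨j, rfl⟩ : ∃ j, n = j + 1 := ⟨n - 1, by omega⟩
    have : B⁻¹ * c * B = B ^ j * c * (B ^ j)⁻¹ := by
      calc B⁻¹ * c * B = B⁻¹ * (B ^ (j + 1) * c * (B ^ (j + 1))⁻¹) * B := by
            rw [hcn.eq, mul_inv_cancel_right]
        _ = _ := by rw [pow_succ']; group
    rw [this, hconjk]
    exact pow_mem (mem_zpowers c) _
  have hgen : Subgroup.closure {A, B} = ⊤ := by
    have h1 := congrArg (Subgroup.map (QuotientGroup.mk' ⁅f.ker, (⊤ : Subgroup (FreeGroup Bool))⁆))
      (FreeGroup.closure_range_of Bool)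
    rw [MonoidHom.map_closure, Subgroup.map_top_of_surjective _ (QuotientGroup.mk'_surjective _)]
      at h1
    rw [← h1]
    congr 1
    ext p
    constructor
    · rintro (rfl | rfl)
      · exact ⟨.of true, ⟨true, rfl⟩, rfl⟩
      · exact ⟨.of false, ⟨false, rfl⟩, rfl⟩
    · rintro ⟨_, ⟨t, rfl⟩, rfl⟩
      cases t
      · exact Or.inr rfl
      · exact Or.inl rfl
  have hkey : ∀ g : E, g * c * g⁻¹ ∈ zpowers c → ∀ p ∈ zpowers c, g * p * g⁻¹ ∈ zpowers c := by
    intro g hg p hp
    obtain ⟨i, rfl⟩ := hp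
    rw [← conj_zpow]; exact zpow_mem hg i
  haveI hnormal : (zpowers c).Normal := by
    refine ⟨fun p hp g => ?_⟩
    have hg : g ∈ Subgroup.closure {A, B} := hgen ▸ mem_top g
    induction hg using Subgroup.closure_induction'' generalizing p with
    | one => simpa using hp
    | mem x hx =>
      rcases hx with rfl | rfl
      · exact hkey _ (by rw [hcA]; exact mem_zpowers c) p hp
      · exact hkey _ (by rw [hcB]; exact pow_mem (mem_zpowers c) _) p hp
    | inv_mem x hx =>
      rcases hx with rfl | rfl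
      · refine hkey _ ?_ p hp
        have : A⁻¹ * c * (A⁻¹)⁻¹ = c := by
          conv_lhs => rw [← hcA]
          group
        rw [this]; exact mem_zpowers c
      · refine hkey _ ?_ p hp
        rw [inv_inv]; exact hcBinv
    | mul g₁ g₂ _ _ h₁ h₂ =>
      have : g₁ * g₂ * p * (g₁ * g₂)⁻¹ = g₁ * (g₂ * p * g₂⁻¹) * g₁⁻¹ := by group
      rw [this]; exact h₁ _ (h₂ p hp)
  let w : E := c ^ v
  have hw : w = (A ^ (d * v)) ^ u * z ^ v := by
    simp only [w]
    rw [hc, (hAz.pow_left _).mul_pow, ← pow_mul, ← pow_mul]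
    congr 2; ring
  have hM : schurM f ≤ zpowers w := by
    rintro p ⟨hp1, hp2⟩
    obtain ⟨i, rfl⟩ := commutator_le_of_closure_pair (zpowers c) (mem_zpowers c) hgen hp2
    have h1 : (f (.of true) ^ (d * u)) ^ i = 1 := by
      have hpc : π c = f (.of true) ^ (d * u) := by
        change π ⁅B, A⁆ = _
        rw [map_commutatorElement, hπA, hπB, commutatorElement_def, hab, hr, pow_succ,
          mul_inv_cancel_right]
      rw [← hpc, ← map_zpow]
      exact hp1
    rw [← zpow_natCast, ← zpow_mul, ← orderOf_dvd_iff_zpow_eq_one, ha, Nat.cast_mul, Nat.cast_mul,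
      mul_assoc] at h1
    have h2 : (v : ℤ) ∣ i :=
      (Int.isCoprime_iff_gcd_eq_one.2 (by simpa using hvu)).dvd_of_dvd_mul_left
        (Int.dvd_of_mul_dvd_mul_left (by exact_mod_cast hd.ne') h1)
    obtain ⟨j, rfl⟩ := h2
    exact ⟨j, by simp only [w]; rw [zpow_mul, zpow_natCast]⟩
  -- the three relations
  have hd' : w ^ d = 1 := by
    have h1 : (A ^ r * z) ^ (d * v) = A ^ (d * v) := by
      rw [← hconj, conj_pow, mem_center_iff.1 hx B, mul_inv_cancel_right]
    rw [(hAz.pow_left r).mul_pow, ← pow_mul, hr, Nat.add_mul, pow_add, Nat.one_mul] at h1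
    have h2 : A ^ (d * u * (d * v)) * z ^ (d * v) = 1 := by
      have : A ^ (d * v) * (A ^ (d * u * (d * v)) * z ^ (d * v)) = A ^ (d * v) * 1 := by
        rw [mul_one]
        conv_rhs => rw [← h1]
        rw [← mul_assoc, ((Commute.refl A).pow_pow (d * v) (d * u * (d * v))).eq]
      exact mul_left_cancel this
    rw [← h2, hw, (((hAz.pow_pow (d * v) v)).pow_left u).mul_pow, ← pow_mul, ← pow_mul, ← pow_mul]
    congr 2 <;> ring
  have hl' : w ^ l = 1 := by
    have hBA : Commute B (A ^ (v * l)) := by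
      have : A ^ (v * l) = B ^ n * y⁻¹ := by rw [hBn]; group
      rw [this]
      exact ((Commute.refl B).pow_right n).mul_right
        (mem_center_iff.1 ((center E).inv_mem hy) B)
    have h1 : (A ^ r * z) ^ (v * l) = A ^ (v * l) := by
      rw [← hconj, conj_pow, hBA.eq, mul_inv_cancel_right]
    rw [(hAz.pow_left r).mul_pow, ← pow_mul, hr, Nat.add_mul, pow_add, Nat.one_mul] at h1
    have h2 : A ^ (d * u * (v * l)) * z ^ (v * l) = 1 := by
      have : A ^ (v * l) * (A ^ (d * u * (v * l)) * z ^ (v * l)) = A ^ (v * l) * 1 := by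
        rw [mul_one]
        conv_rhs => rw [← h1]
        rw [← mul_assoc, ((Commute.refl A).pow_pow (v * l) (d * u * (v * l))).eq]
      exact mul_left_cancel this
    rw [← h2, hw, (((hAz.pow_pow (d * v) v)).pow_left u).mul_pow, ← pow_mul, ← pow_mul, ← pow_mul]
    congr 2 <;> ring
  have hk' : w ^ k = 1 := by
    have h1 := conj_pow_formula hz hconj n
    rw [hBnA.eq, mul_inv_cancel_right, hrn, hS, pow_succ'] at h1
    have h2 : A * (A ^ (u * k * (d * v)) * z ^ (v * k)) = A * 1 := by
      rw [← mul_assoc, mul_one]; exact h1.symm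
    rw [← mul_left_cancel h2, hw, (((hAz.pow_pow (d * v) v)).pow_left u).mul_pow, ← pow_mul,
      ← pow_mul, ← pow_mul]
    congr 2 <;> ring
  haveI : IsCyclic (schurM f) :=
    isCyclic_of_injective (Subgroup.inclusion hM) (Subgroup.inclusion_injective _)
  refine ⟨this, (Subgroup.card_dvd_of_le hM).trans ?_⟩
  rw [Nat.card_zpowers]
  exact Nat.dvd_gcd (orderOf_dvd_of_pow_eq_one hl')
    (Nat.dvd_gcd (orderOf_dvd_of_pow_eq_one hd') (orderOf_dvd_of_pow_eq_one hk'))

end Upper

end H26
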