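import Cfsg.Agent.H26.SchurBasic

/-!
# The multiplier of a finitely presented finite group
-/

set_option autoImplicit false
set_option linter.style.haveILetI false
set_option linter.unusedSectionVars false

namespace H26

open Subgroup
open scoped commutatorElement IsMulCommutative

universe u v w

/-- the images of relators generate `R / [R, F]`. -/
lemma cePi_ker_le_closure {α : Type u} {G : Type v} [Group G] {f : FreeGroup α →* G}
    (rels : Set (FreeGroup α)) (hker : f.ker = Subgroup.normalClosure rels) :
    (cePi f).ker ≤ Subgroup.closure ((QuotientGroup.mk : FreeGroup α → CE f) '' rels) := by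
  let S := Subgroup.closure ((QuotientGroup.mk : FreeGroup α → CE f) '' rels)
  have hS : S ≤ center (CE f) := by
    rw [Subgroup.closure_le]
    rintro _ ⟨x, hx, rfl⟩
    exact cePi_ker_le_center (f := f) (show f x = 1 from
      (hker ▸ Subgroup.subset_normalClosure hx : x ∈ f.ker))
  haveI : S.Normal := ⟨fun p hp g => by
    rw [mem_center_iff.1 (hS hp) g, mul_inv_cancel_right]; exact hp⟩
  intro p hp
  induction p using QuotientGroup.induction_on with
  | H x =>
    have hx : x ∈ Subgroup.normalClosure rels := hker ▸ hp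
    have hle : Subgroup.normalClosure rels ≤ S.comap (QuotientGroup.mk' _) :=
      Subgroup.normalClosure_le_normal fun y hy => Subgroup.subset_closure ⟨y, hy, rfl⟩
    exact hle hx

/-- the multiplier of a finite group with `n` generators and `r` relators needs `r - n` generators. -/
theorem exists_generators_schurM {α : Type u} [Fintype α] {G : Type v} [Group G] [Finite G]
    {f : FreeGroup α →* G} (rels : Finset (FreeGroup α))
    (hker : f.ker = Subgroup.normalClosure (rels : Set (FreeGroup α))) :
    ∃ T : Finset (schurM f), T.card ≤ rels.card - Fintype.card α ∧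
      Subgroup.closure (T : Set (schurM f)) = ⊤ := by
  classical
  let C := Additive (center (CE f))
  have hrel : ∀ x ∈ rels, (QuotientGroup.mk x : CE f) ∈ center (CE f) := fun x hx =>
    cePi_ker_le_center (f := f) (show f x = 1 from
      (hker ▸ Subgroup.subset_normalClosure (Finset.mem_coe.2 hx) : x ∈ f.ker))
  let Φ : (rels → ℤ) →ₗ[ℤ] C :=
    Fintype.linearCombination ℤ (fun x : rels => Additive.ofMul
      (⟨QuotientGroup.mk (x : FreeGroup α), hrel _ x.2⟩ : center (CE f)))
  let d : C →ₗ[ℤ] FreeAbelianGroup α :=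
    (MonoidHom.toAdditive ((ceAb f).comp (center (CE f)).subtype)).toIntLinearMap
  have hR : ∀ p : center (CE f), cePi f p = 1 → ∃ c, Φ c = Additive.ofMul p := by
    intro p hp
    have hclos := cePi_ker_le_closure (rels : Set (FreeGroup α)) hker (show (p : CE f) ∈ (cePi f).ker from hp)
    let Rsub : Subgroup (CE f) :=
      (AddSubgroup.toSubgroup' (LinearMap.range Φ).toAddSubgroup).map (center (CE f)).subtype
    have hle : Subgroup.closure ((QuotientGroup.mk : FreeGroup α → CE f) '' (rels : Set (FreeGroup α))) ≤
        Rsub := by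
      rw [Subgroup.closure_le]
      rintro _ ⟨x, hx, rfl⟩
      exact ⟨⟨_, hrel x hx⟩, ⟨Pi.single ⟨x, hx⟩ 1, by simp [Φ]; rfl⟩, rfl⟩
    obtain ⟨q, ⟨c, hc⟩, hq⟩ := hle hclos
    exact ⟨c, hc.trans (congrArg Additive.ofMul (Subtype.ext hq))⟩
  have hΦker : ∀ c, cePi f (Additive.toMul (Φ c) : center (CE f)) = 1 := by
    intro c
    let N : Submodule ℤ C := AddSubgroup.toIntSubmodule
      (Subgroup.toAddSubgroup ((cePi f).ker.subgroupOf (center (CE f))))
    have hmem : ∀ x : rels, Additive.ofMul
        (⟨QuotientGroup.mk (x : FreeGroup α), hrel _ x.2⟩ : center (CE f)) ∈ N := fun x =>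
      (hker ▸ Subgroup.subset_normalClosure (Finset.mem_coe.2 x.2) : (x : FreeGroup α) ∈ f.ker)
    have : Φ c ∈ N := by
      rw [Fintype.linearCombination_apply]
      exact N.sum_mem fun x _ => N.smul_mem _ (hmem x)
    exact this
  let Ψ : (rels → ℤ) →ₗ[ℤ] FreeAbelianGroup α := d.comp Φ
  let N := Nat.card G
  have hN : (N : ℤ) ≠ 0 := by exact_mod_cast Nat.card_pos.ne'
  have hbig : ∀ i : α, (N : ℤ) • FreeAbelianGroup.of i ∈ LinearMap.range Ψ := by
    intro i
    have hp : cePi f (QuotientGroup.mk (FreeGroup.of i ^ N)) = 1 := by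
      rw [cePi_mk, map_pow, pow_card_eq_one']
    obtain ⟨c, hc⟩ := hR ⟨_, cePi_ker_le_center (f := f) hp⟩ hp
    refine ⟨c, ?_⟩
    change d (Φ c) = _
    rw [hc]
    change Additive.ofMul (Abelianization.of (FreeGroup.of i ^ N)) = _
    rw [map_pow, ofMul_pow, natCast_zsmul]
    rfl
  let b := FreeAbelianGroup.basis α
  haveI : Module.Free ℤ (FreeAbelianGroup α) := Module.Free.of_basis b
  haveI : Module.Finite ℤ (FreeAbelianGroup α) := Module.Finite.of_basis b
  have hrank : Fintype.card α ≤ Module.finrank ℤ (LinearMap.range Ψ) := by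
    have hsm : LinearMap.range ((N : ℤ) • (LinearMap.id : FreeAbelianGroup α →ₗ[ℤ] _)) ≤
        LinearMap.range Ψ := by
      rintro _ ⟨x, rfl⟩
      change (N : ℤ) • x ∈ _
      induction x using FreeAbelianGroup.induction_on with
      | zero => simp
      | of i => exact hbig i
      | neg i hi => rw [smul_neg]; exact neg_mem hi
      | add x y hx hy => rw [smul_add]; exact add_mem hx hy
    have hinj : Function.Injective ((N : ℤ) • (LinearMap.id : FreeAbelianGroup α →ₗ[ℤ] _)) :=
      fun x y h => b.repr.injective (Finsupp.ext fun i => by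
        have := congrArg (fun z => b.repr z i) h
        simpa [Nat.card_pos.ne', N] using this)
    have h1 := Submodule.finrank_mono hsm
    rwa [LinearMap.finrank_range_of_inj hinj, Module.finrank_eq_card_basis b] at h1
  have hK : Module.finrank ℤ (LinearMap.ker Ψ) ≤ rels.card - Fintype.card α := by
    have h1 := Submodule.finrank_quotient_add_finrank (LinearMap.ker Ψ)
    rw [Ψ.quotKerEquivRange.finrank_eq, Module.finrank_pi, Fintype.card_coe] at h1
    omega
  let bk := Module.finBasis ℤ (LinearMap.ker Ψ)
  have hmemM : ∀ c : LinearMap.ker Ψ,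
      ((Additive.toMul (Φ c) : center (CE f)) : CE f) ∈ schurM f := fun c =>
    mem_schurM_iff.2 ⟨hΦker _, congrArg Additive.toMul (LinearMap.mem_ker.1 c.2)⟩
  let θ : Multiplicative (LinearMap.ker Ψ) →* schurM f := MonoidHom.mk'
    (fun c => ⟨_, hmemM c.toAdd⟩) (fun c c' => Subtype.ext (by
      change ((Additive.toMul (Φ (c.toAdd + c'.toAdd : LinearMap.ker Ψ)) : center (CE f)) : CE f) = _
      rw [Submodule.coe_add, map_add]
      rfl))
  have hθ : Function.Surjective θ := by
    rintro ⟨p, hp⟩
    obtain ⟨c, hc⟩ := hR ⟨p, cePi_ker_le_center hp.1⟩ hp.1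
    have hcK : c ∈ LinearMap.ker Ψ := by
      rw [LinearMap.mem_ker]
      change d (Φ c) = 0
      rw [hc]
      exact congrArg Additive.ofMul (mem_schurM_iff.1 hp).2
    refine ⟨Multiplicative.ofAdd ⟨c, hcK⟩, Subtype.ext ?_⟩
    change ((Additive.toMul (Φ c) : center (CE f)) : CE f) = p
    rw [hc]; rfl
  haveI : IsMulCommutative (schurM f) := ⟨⟨kerComm_comm cePi_ker_le_center⟩⟩
  refine ⟨Finset.univ.image fun i => θ (Multiplicative.ofAdd (bk i)), ?_, ?_⟩
  · exact Finset.card_image_le.trans (by simpa using hK)
  · rw [eq_top_iff]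
    intro p _
    obtain ⟨c, rfl⟩ := hθ p
    rw [← ofAdd_toAdd c, ← bk.sum_repr c.toAdd, ofAdd_sum, map_prod]
    refine Subgroup.prod_mem _ (fun i _ => ?_)
    rw [ofAdd_zsmul, map_zpow]
    exact zpow_mem (Subgroup.subset_closure
      (Finset.mem_coe.2 (Finset.mem_image_of_mem _ (Finset.mem_univ i)))) _

/-- the rank bound for an abstract multiplier. -/
theorem rank_le_of_hasSchurMultiplier {α : Type u} [Fintype α] {G : Type v} [Group G] [Finite G]
    {f : FreeGroup α →* G} (hf : Function.Surjective f) (rels : Finset (FreeGroup α))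
    (hker : f.ker = Subgroup.normalClosure (rels : Set (FreeGroup α))) {A : Type w} [CommGroup A]
    [Group.FG A] (hA : Cfsg.HasSchurMultiplier G A) :
    Group.rank A ≤ rels.card - Fintype.card α := by
  classical
  obtain ⟨T, hT, hclos⟩ := exists_generators_schurM rels hker
  obtain ⟨e⟩ := (hasSchurMultiplier_of_equiv_schurM hf).1 hA
  have h1 : Subgroup.closure ((T.image e.symm : Finset A) : Set A) = ⊤ := by
    rw [eq_top_iff]
    intro a _
    have h2 : ∀ b ∈ Subgroup.closure (T : Set (schurM f)),
        e.symm b ∈ Subgroup.closure ((T.image e.symm : Finset A) : Set A) := by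
      intro b hb
      induction hb using Subgroup.closure_induction with
      | mem x hx =>
        exact Subgroup.subset_closure (Finset.mem_coe.2 (Finset.mem_image_of_mem _ hx))
      | one => rw [map_one]; exact one_mem _
      | mul x y _ _ hx hy => rw [map_mul]; exact mul_mem hx hy
      | inv x _ hx => rw [map_inv]; exact inv_mem hx
    simpa using h2 (e a) (hclos ▸ mem_top _)
  exact (Group.rank_le h1).trans (Finset.card_image_le.trans hT)

end H26
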