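import Cfsg.Agent.H26.SchurCocycle

/-!
# The multiplier of a direct product
-/

set_option autoImplicit false
set_option linter.style.haveILetI false
set_option linter.unusedSectionVars false

namespace H26

open Subgroup
open scoped commutatorElement IsMulCommutative TensorProduct

universe u v w

lemma ab_of_surjective {Q : Type u} [Group Q] :
    Function.Surjective (Abelianization.of (G := Q)) := QuotientGroup.mk_surjective

/-- the tensor product of the commutator quotients, written multiplicatively. -/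
abbrev AbTensor (Q₁ : Type u) (Q₂ : Type v) [Group Q₁] [Group Q₂] : Type (max u v) :=
  Multiplicative (TensorProduct ℤ (Additive (Abelianization Q₁)) (Additive (Abelianization Q₂)))

theorem schurMul_prod (Q₁ : Type u) (Q₂ : Type v) [Group Q₁] [Group Q₂] [Finite Q₁] [Finite Q₂] :
    Nonempty (SchurMul Q₁ × SchurMul Q₂ × AbTensor Q₁ Q₂ ≃* SchurMul (Q₁ × Q₂)) := by
  classical
  let E := CE (stdPres (Q₁ × Q₂))
  let π : E →* Q₁ × Q₂ := cePi (stdPres (Q₁ × Q₂))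
  have hc : π.ker ≤ center E := cePi_ker_le_center
  have hπ : Function.Surjective π := cePi_surjective (stdPres_surjective _)
  let π₁ : CE (stdPres Q₁) →* Q₁ := cePi (stdPres Q₁)
  let π₂ : CE (stdPres Q₂) →* Q₂ := cePi (stdPres Q₂)
  have hπ₁ : Function.Surjective π₁ := cePi_surjective (stdPres_surjective _)
  have hπ₂ : Function.Surjective π₂ := cePi_surjective (stdPres_surjective _)
  obtain ⟨ι₁, hι₁⟩ := exists_lift_of_le (f := stdPres Q₁) (MonoidHom.inl Q₁ Q₂) π hc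
    (fun g => hπ _)
  obtain ⟨ι₂, hι₂⟩ := exists_lift_of_le (f := stdPres Q₂) (MonoidHom.inr Q₁ Q₂) π hc
    (fun g => hπ _)
  obtain ⟨p₁, hp₁⟩ := exists_lift_of_le (f := stdPres (Q₁ × Q₂)) (MonoidHom.fst Q₁ Q₂) π₁
    cePi_ker_le_center (fun g => hπ₁ _)
  obtain ⟨p₂, hp₂⟩ := exists_lift_of_le (f := stdPres (Q₁ × Q₂)) (MonoidHom.snd Q₁ Q₂) π₂
    cePi_ker_le_center (fun g => hπ₂ _)
  have hi₁ : ∀ e, π (ι₁ e) = (π₁ e, 1) := fun e => DFunLike.congr_fun hι₁ e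
  have hi₂ : ∀ e, π (ι₂ e) = (1, π₂ e) := fun e => DFunLike.congr_fun hι₂ e
  have hq₁ : ∀ e, π₁ (p₁ e) = (π e).1 := fun e => DFunLike.congr_fun hp₁ e
  have hq₂ : ∀ e, π₂ (p₂ e) = (π e).2 := fun e => DFunLike.congr_fun hp₂ e
  choose s₁ hs₁ using hπ₁
  choose s₂ hs₂ using hπ₂
  have hcm : ∀ a b, ⁅ι₁ (s₁ a), ι₂ (s₂ b)⁆ ∈ center E := fun a b => hc (by
    rw [MonoidHom.mem_ker, map_commutatorElement, hi₁, hi₂, commutatorElement_eq_one_iff_mul_comm]
    ext <;> simp)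
  -- bimultiplicativity of the commutator pairing
  have hmul₁ : ∀ a a' b, ⁅ι₁ (s₁ (a * a')), ι₂ (s₂ b)⁆ =
      ⁅ι₁ (s₁ a), ι₂ (s₂ b)⁆ * ⁅ι₁ (s₁ a'), ι₂ (s₂ b)⁆ := by
    intro a a' b
    rw [commutatorElement_eq_of_eq hc (a' := ι₁ (s₁ a) * ι₁ (s₁ a')) (b' := ι₂ (s₂ b))
      (by simp [hi₁, hs₁]) rfl, mem_center_iff.1 (hcm a' b) ⁅ι₁ (s₁ a), ι₂ (s₂ b)⁆]
    have h := mem_center_iff.1 (hcm a' b) (ι₁ (s₁ a))
    calc ⁅ι₁ (s₁ a) * ι₁ (s₁ a'), ι₂ (s₂ b)⁆
        = ι₁ (s₁ a) * ⁅ι₁ (s₁ a'), ι₂ (s₂ b)⁆ *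
            (ι₂ (s₂ b) * (ι₁ (s₁ a))⁻¹ * (ι₂ (s₂ b))⁻¹) := by
          simp only [commutatorElement_def]; group
      _ = ⁅ι₁ (s₁ a'), ι₂ (s₂ b)⁆ * ι₁ (s₁ a) *
            (ι₂ (s₂ b) * (ι₁ (s₁ a))⁻¹ * (ι₂ (s₂ b))⁻¹) := by rw [h]
      _ = _ := by simp only [commutatorElement_def]; group
  have hmul₂ : ∀ a b b', ⁅ι₁ (s₁ a), ι₂ (s₂ (b * b'))⁆ =
      ⁅ι₁ (s₁ a), ι₂ (s₂ b)⁆ * ⁅ι₁ (s₁ a), ι₂ (s₂ b')⁆ := by
    intro a b b'
    rw [commutatorElement_eq_of_eq hc (a' := ι₁ (s₁ a)) (b' := ι₂ (s₂ b) * ι₂ (s₂ b')) rfl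
      (by simp [hi₂, hs₂])]
    have h := mem_center_iff.1 (hcm a b') (ι₂ (s₂ b))
    calc ⁅ι₁ (s₁ a), ι₂ (s₂ b) * ι₂ (s₂ b')⁆
        = ⁅ι₁ (s₁ a), ι₂ (s₂ b)⁆ * (ι₂ (s₂ b) * ⁅ι₁ (s₁ a), ι₂ (s₂ b')⁆ * (ι₂ (s₂ b))⁻¹) := by
          simp only [commutatorElement_def]; group
      _ = _ := by rw [h, mul_inv_cancel_right]
  let κ₀ : Q₁ → Q₂ → center E := fun a b => ⟨_, hcm a b⟩
  let κ₁ : Q₁ → (Additive (Abelianization Q₂) →+ Additive (center E)) := fun a =>
    MonoidHom.toAdditive (Abelianization.lift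
      (MonoidHom.mk' (κ₀ a) (fun b b' => Subtype.ext (hmul₂ a b b'))))
  have hκ₁ : ∀ a b, κ₁ a (Additive.ofMul (Abelianization.of b)) = Additive.ofMul (κ₀ a b) :=
    fun a b => rfl
  let κ₂ : Q₁ →* Multiplicative (Additive (Abelianization Q₂) →+ Additive (center E)) :=
    MonoidHom.mk' (fun a => Multiplicative.ofAdd (κ₁ a)) (fun a a' => by
      apply Multiplicative.toAdd.injective
      ext x
      exact congrArg Subtype.val (Subtype.ext (hmul₁ a a' x) : κ₀ (a * a') x = κ₀ a x * κ₀ a' x))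
  let κ₃ : Additive (Abelianization Q₁) →+ Additive (Abelianization Q₂) →+ Additive (center E) :=
    MonoidHom.toAdditiveLeft (Abelianization.lift κ₂)
  let κ : TensorProduct ℤ (Additive (Abelianization Q₁)) (Additive (Abelianization Q₂)) →+
      Additive (center E) :=
    TensorProduct.liftAddHom κ₃ (fun r m n => by rw [map_zsmul, map_zsmul]; rfl)
  let tmk : Q₁ → Q₂ → TensorProduct ℤ (Additive (Abelianization Q₁))
      (Additive (Abelianization Q₂)) := fun a b =>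
    Additive.ofMul (Abelianization.of a) ⊗ₜ[ℤ] Additive.ofMul (Abelianization.of b)
  have hκ : ∀ a b, κ (tmk a b) = Additive.ofMul (κ₀ a b) := fun a b => rfl
  let K : AbTensor Q₁ Q₂ →* E := (center E).subtype.comp (AddMonoidHom.toMultiplicativeLeft κ)
  have hK : ∀ a b, K (Multiplicative.ofAdd (tmk a b)) = ⁅ι₁ (s₁ a), ι₂ (s₂ b)⁆ := fun a b => rfl
  have hKc : ∀ t, K t ∈ center E := fun t => (Additive.toMul (κ t.toAdd)).2
  have hKM : ∀ t, K t ∈ SchurMul (Q₁ × Q₂) := by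
    intro t
    obtain ⟨t, rfl⟩ := Multiplicative.ofAdd.surjective t
    induction t using TensorProduct.induction_on with
    | zero => rw [ofAdd_zero, map_one]; exact one_mem _
    | tmul x y =>
      obtain ⟨x, rfl⟩ := Additive.ofMul.surjective x
      obtain ⟨y, rfl⟩ := Additive.ofMul.surjective y
      obtain ⟨a, rfl⟩ := ab_of_surjective x
      obtain ⟨b, rfl⟩ := ab_of_surjective y
      change ⁅ι₁ (s₁ a), ι₂ (s₂ b)⁆ ∈ _
      refine ⟨?_, commutator_mem_commutator (mem_top _) (mem_top _)⟩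
      change π _ = 1
      rw [map_commutatorElement, hi₁, hi₂, commutatorElement_eq_one_iff_mul_comm]
      ext <;> simp
    | add x y hx hy => rw [ofAdd_add, map_mul]; exact mul_mem hx hy
  -- cross commutators
  have hcross : ∀ x y, ⁅ι₁ x, ι₂ y⁆ = ⁅ι₁ (s₁ (π₁ x)), ι₂ (s₂ (π₂ y))⁆ := fun x y =>
    commutatorElement_eq_of_eq hc (by simp [hi₁, hs₁]) (by simp [hi₂, hs₂])
  have hcommute : ∀ x, ∀ d ∈ commutator (CE (stdPres Q₂)), Commute (ι₁ x) (ι₂ d) := by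
    intro x d hd
    rw [commute_iff_eq, ← commutatorElement_eq_one_iff_mul_comm, hcross, ← hK]
    have h : (Abelianization.of (π₂ d) : Abelianization Q₂) = 1 := by
      rw [← MonoidHom.mem_ker, Abelianization.ker_of]
      exact commutator_map_le π₂ (mem_map_of_mem π₂ hd)
    simp only [tmk, h, ofMul_one, TensorProduct.tmul_zero, ofAdd_zero, map_one]
  have hcommute' : ∀ d ∈ commutator (CE (stdPres Q₁)), ∀ y, Commute (ι₁ d) (ι₂ y) := by
    intro d hd y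
    rw [commute_iff_eq, ← commutatorElement_eq_one_iff_mul_comm, hcross, ← hK]
    have h : (Abelianization.of (π₁ d) : Abelianization Q₁) = 1 := by
      rw [← MonoidHom.mem_ker, Abelianization.ker_of]
      exact commutator_map_le π₁ (mem_map_of_mem π₁ hd)
    simp only [tmk, h, ofMul_one, TensorProduct.zero_tmul, ofAdd_zero, map_one]
  let Ω : commutator (CE (stdPres Q₁)) × commutator (CE (stdPres Q₂)) × AbTensor Q₁ Q₂ →* E :=
    MonoidHom.mk' (fun p => ι₁ p.1 * (ι₂ p.2.1 * K p.2.2)) (fun p q => by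
      have h1 : Commute (ι₂ (p.2.1 : CE (stdPres Q₂))) (ι₁ (q.1 : CE (stdPres Q₁))) :=
        (hcommute _ _ p.2.1.2).symm
      have h2 : Commute (K p.2.2) (ι₁ (q.1 : CE (stdPres Q₁))) :=
        (mem_center_iff.1 (hKc p.2.2) _).symm
      have h3 : Commute (K p.2.2) (ι₂ (q.2.1 : CE (stdPres Q₂))) :=
        (mem_center_iff.1 (hKc p.2.2) _).symm
      simp only [Prod.fst_mul, Prod.snd_mul, Subgroup.coe_mul, map_mul]
      simp only [mul_assoc]
      rw [← h1.left_comm, h2.left_comm, h3.left_comm])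
  have hcomm_gen : ∀ a a' b b', ⁅ι₁ (s₁ a) * ι₂ (s₂ b), ι₁ (s₁ a') * ι₂ (s₂ b')⁆ ∈ Ω.range := by
    intro a a' b b'
    refine ⟨(⟨⁅s₁ a, s₁ a'⁆, commutator_mem_commutator (mem_top _) (mem_top _)⟩,
      ⟨⁅s₂ b, s₂ b'⁆, commutator_mem_commutator (mem_top _) (mem_top _)⟩,
      Multiplicative.ofAdd (tmk a b') * (Multiplicative.ofAdd (tmk a' b))⁻¹), ?_⟩
    change ι₁ ⁅s₁ a, s₁ a'⁆ * (ι₂ ⁅s₂ b, s₂ b'⁆ * K (_ * _)) = _
    rw [map_mul, map_inv, hK, hK, map_commutatorElement, map_commutatorElement]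
    generalize hA : ι₁ (s₁ a) = A
    generalize hA' : ι₁ (s₁ a') = A'
    generalize hB : ι₂ (s₂ b) = B
    generalize hB' : ι₂ (s₂ b') = B'
    have c1 : ⁅A, B'⁆ ∈ center E := by rw [← hA, ← hB']; exact hcm a b'
    have c2 : ⁅A', B⁆⁻¹ ∈ center E := by rw [← hA', ← hB]; exact inv_mem (hcm a' b)
    have hA'B : Commute A' ⁅B, B'⁆ := by
      rw [← hA', ← hB, ← hB', ← map_commutatorElement]
      exact hcommute _ _ (commutator_mem_commutator (mem_top _) (mem_top _))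
    have hAB : Commute A ⁅B, B'⁆ := by
      rw [← hA, ← hB, ← hB', ← map_commutatorElement]
      exact hcommute _ _ (commutator_mem_commutator (mem_top _) (mem_top _))
    have e1 : ⁅B, A'⁆ = ⁅A', B⁆⁻¹ := by simp only [commutatorElement_def]; group
    have e2 : ⁅B, A' * B'⁆ = ⁅A', B⁆⁻¹ * ⁅B, B'⁆ := by
      calc ⁅B, A' * B'⁆ = ⁅B, A'⁆ * (A' * ⁅B, B'⁆ * A'⁻¹) := by
            simp only [commutatorElement_def]; group
        _ = _ := by rw [e1, hA'B.eq, mul_inv_cancel_right]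
    have e3 : ⁅A, A' * B'⁆ = ⁅A, A'⁆ * ⁅A, B'⁆ := by
      calc ⁅A, A' * B'⁆ = ⁅A, A'⁆ * (A' * ⁅A, B'⁆ * A'⁻¹) := by
            simp only [commutatorElement_def]; group
        _ = _ := by rw [mem_center_iff.1 c1 A', mul_inv_cancel_right]
    symm
    calc ⁅A * B, A' * B'⁆ = A * ⁅B, A' * B'⁆ * A⁻¹ * ⁅A, A' * B'⁆ := by
          simp only [commutatorElement_def]; group
      _ = A * ⁅A', B⁆⁻¹ * (⁅B, B'⁆ * A⁻¹) * (⁅A, A'⁆ * ⁅A, B'⁆) := by rw [e2, e3]; group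
      _ = ⁅A', B⁆⁻¹ * (A * ⁅B, B'⁆) * A⁻¹ * (⁅A, A'⁆ * ⁅A, B'⁆) := by
          rw [mem_center_iff.1 c2 A]; group
      _ = ⁅A', B⁆⁻¹ * ⁅B, B'⁆ * (⁅A, A'⁆ * ⁅A, B'⁆) := by rw [hAB.eq]; group
      _ = _ := by
          have h5 : Commute ⁅B, B'⁆ ⁅A, A'⁆ := by
            rw [← hA, ← hA', ← map_commutatorElement]
            rw [← hB, ← hB', ← map_commutatorElement]
            exact (hcommute _ _ (commutator_mem_commutator (mem_top _) (mem_top _))).symm
          rw [mul_assoc ⁅A', B⁆⁻¹, ← mul_assoc ⁅B, B'⁆, h5.eq,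
            ← mem_center_iff.1 c2 (⁅A, A'⁆ * ⁅B, B'⁆ * ⁅A, B'⁆)]
          group
  have hE' : commutator E ≤ Ω.range := by
    rw [commutator_eq_closure, Subgroup.closure_le]
    rintro _ ⟨x, y, rfl⟩
    rw [commutatorElement_eq_of_eq hc
      (a' := ι₁ (s₁ (π x).1) * ι₂ (s₂ (π x).2)) (b' := ι₁ (s₁ (π y).1) * ι₂ (s₂ (π y).2))
      (by simp [hi₁, hi₂, hs₁, hs₂]) (by simp [hi₁, hi₂, hs₁, hs₂])]
    exact hcomm_gen _ _ _ _
  have hπK : ∀ t, π (K t) = 1 := fun t => (hKM t).1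
  -- the map onto the multiplier
  let Θ : SchurMul Q₁ × SchurMul Q₂ × AbTensor Q₁ Q₂ →* SchurMul (Q₁ × Q₂) :=
    (Ω.comp (MonoidHom.prodMap (Subgroup.inclusion inf_le_right)
      (MonoidHom.prodMap (Subgroup.inclusion inf_le_right) (MonoidHom.id _)))).codRestrict _
      (fun p => by
        change ι₁ (p.1 : CE (stdPres Q₁)) * (ι₂ (p.2.1 : CE (stdPres Q₂)) * K p.2.2) ∈ _
        refine mul_mem ⟨?_, commutator_map_le ι₁ (mem_map_of_mem _ p.1.2.2)⟩
          (mul_mem ⟨?_, commutator_map_le ι₂ (mem_map_of_mem _ p.2.1.2.2)⟩ (hKM _))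
        · change π _ = 1
          rw [hi₁, show π₁ p.1 = 1 from p.1.2.1]; rfl
        · change π _ = 1
          rw [hi₂, show π₂ p.2.1 = 1 from p.2.1.2.1]; rfl)
  have hsur : Function.Surjective Θ := by
    rintro ⟨z, hz⟩
    obtain ⟨⟨d₁, d₂, t⟩, hd⟩ := hE' hz.2
    have h := (congrArg π hd).trans hz.1
    change π (ι₁ d₁ * (ι₂ d₂ * K t)) = 1 at h
    rw [map_mul, map_mul, hi₁, hi₂, hπK, mul_one] at h
    have h₁ : π₁ d₁ = 1 := by simpa using congrArg Prod.fst h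
    have h₂ : π₂ d₂ = 1 := by simpa using congrArg Prod.snd h
    exact ⟨(⟨d₁, h₁, d₁.2⟩, ⟨d₂, h₂, d₂.2⟩, t), Subtype.ext hd⟩
  -- the Heisenberg extension
  let β : Q₁ × Q₂ → Q₁ × Q₂ → AbTensor Q₁ Q₂ := fun g h => Multiplicative.ofAdd (tmk g.1 h.2)
  let z := Cocycle.ofBilin β
    (fun g h k => by simp only [β, tmk, Prod.fst_mul, map_mul, ofMul_mul, TensorProduct.add_tmul, ofAdd_add])
    (fun g h k => by simp only [β, tmk, Prod.snd_mul, map_mul, ofMul_mul, TensorProduct.tmul_add, ofAdd_add])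
  have hzc : ∀ g h, z.c g h = β g h := fun _ _ => rfl
  obtain ⟨φ, hφ⟩ := exists_lift (f := stdPres (Q₁ × Q₂)) z.proj z.proj_ker_le_center z.proj_surjective
  let e₁ : Q₁ →* z.Ext := MonoidHom.mk' (fun a => ⟨1, (a, 1)⟩) (fun a a' => by
    ext
    · rw [Cocycle.mul_val, hzc]
      simp [β, tmk]
    · rfl
    · simp)
  let e₂ : Q₂ →* z.Ext := MonoidHom.mk' (fun b => ⟨1, (1, b)⟩) (fun b b' => by
    ext
    · rw [Cocycle.mul_val, hzc]
      simp [β, tmk]
    · simp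
    · rfl)
  have hz₁ : ∀ d ∈ commutator (CE (stdPres Q₁)), φ (ι₁ d) = e₁ (π₁ d) := fun d hd =>
    eq_on_commutator z.proj_ker_le_center (φ := φ.comp ι₁) (ψ := e₁.comp π₁)
      (MonoidHom.ext fun x => (DFunLike.congr_fun hφ (ι₁ x)).trans (hi₁ x)) hd
  have hz₂ : ∀ d ∈ commutator (CE (stdPres Q₂)), φ (ι₂ d) = e₂ (π₂ d) := fun d hd =>
    eq_on_commutator z.proj_ker_le_center (φ := φ.comp ι₂) (ψ := e₂.comp π₂)
      (MonoidHom.ext fun x => (DFunLike.congr_fun hφ (ι₂ x)).trans (hi₂ x)) hd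
  have hzK : φ.comp K = z.incl := by
    refine MonoidHom.ext fun t => ?_
    obtain ⟨t, rfl⟩ := Multiplicative.ofAdd.surjective t
    induction t using TensorProduct.induction_on with
    | zero => simp
    | tmul x y =>
      obtain ⟨x, rfl⟩ := Additive.ofMul.surjective x
      obtain ⟨y, rfl⟩ := Additive.ofMul.surjective y
      obtain ⟨a, rfl⟩ := ab_of_surjective x
      obtain ⟨b, rfl⟩ := ab_of_surjective y
      change φ ⁅ι₁ (s₁ a), ι₂ (s₂ b)⁆ = z.incl (β (a, 1) (1, b))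
      rw [map_commutatorElement, commutatorElement_eq_of_eq z.proj_ker_le_center
        (a' := ⟨1, (a, 1)⟩) (b' := ⟨1, (1, b)⟩)
        ((DFunLike.congr_fun hφ _).trans (by rw [show cePi (stdPres (Q₁ × Q₂)) (ι₁ (s₁ a)) = (π₁ (s₁ a), 1) from hi₁ _, hs₁]; rfl))
        ((DFunLike.congr_fun hφ _).trans (by rw [show cePi (stdPres (Q₁ × Q₂)) (ι₂ (s₂ b)) = (1, π₂ (s₂ b)) from hi₂ _, hs₂]; rfl))]
      rw [Cocycle.commutator_eq_of_bilin β _ _ (a, 1) (1, b) (by simp)]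
      congr 1
      simp [β, tmk]
    | add x y hx hy => simp only [ofAdd_add, map_mul, hx, hy]
  have hinj : Function.Injective Θ := by
    refine (injective_iff_map_eq_one Θ).2 ?_
    rintro ⟨m₁, m₂, t⟩ h
    have h' : ι₁ (m₁ : CE (stdPres Q₁)) * (ι₂ (m₂ : CE (stdPres Q₂)) * K t) = 1 :=
      congrArg Subtype.val h
    have ht : t = 1 := by
      have h1 := congrArg φ h'
      rw [map_mul, map_mul, map_one, hz₁ _ m₁.2.2, hz₂ _ m₂.2.2, show π₁ m₁ = 1 from m₁.2.1,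
        show π₂ m₂ = 1 from m₂.2.1, map_one, map_one, one_mul, one_mul] at h1
      exact z.incl_injective ((DFunLike.congr_fun hzK t).symm.trans (h1.trans (map_one _).symm))
    subst ht
    rw [map_one, mul_one] at h'
    have k₁ : p₁ (ι₁ (m₁ : CE (stdPres Q₁))) = m₁ :=
      eq_on_commutator cePi_ker_le_center (φ := p₁.comp ι₁) (ψ := MonoidHom.id _)
        (MonoidHom.ext fun x => (hq₁ _).trans (congrArg Prod.fst (hi₁ x))) m₁.2.2
    have k₂ : p₁ (ι₂ (m₂ : CE (stdPres Q₂))) = 1 :=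
      eq_on_commutator cePi_ker_le_center (φ := p₁.comp ι₂) (ψ := 1)
        (MonoidHom.ext fun x => ((hq₁ _).trans (congrArg Prod.fst (hi₂ x))).trans
          (map_one π₁).symm) m₂.2.2
    have k₃ : p₂ (ι₂ (m₂ : CE (stdPres Q₂))) = m₂ :=
      eq_on_commutator cePi_ker_le_center (φ := p₂.comp ι₂) (ψ := MonoidHom.id _)
        (MonoidHom.ext fun x => (hq₂ _).trans (congrArg Prod.snd (hi₂ x))) m₂.2.2
    have k₄ : p₂ (ι₁ (m₁ : CE (stdPres Q₁))) = 1 :=
      eq_on_commutator cePi_ker_le_center (φ := p₂.comp ι₁) (ψ := 1)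
        (MonoidHom.ext fun x => ((hq₂ _).trans (congrArg Prod.snd (hi₁ x))).trans
          (map_one π₂).symm) m₁.2.2
    have j₁ := congrArg p₁ h'
    have j₂ := congrArg p₂ h'
    rw [map_mul, map_one, k₁, k₂, mul_one] at j₁
    rw [map_mul, map_one, k₃, k₄, one_mul] at j₂
    exact Prod.ext (Subtype.ext j₁) (Prod.ext (Subtype.ext j₂) rfl)
  exact ⟨MulEquiv.ofBijective Θ ⟨hinj, hsur⟩⟩

theorem abTensor_subsingleton {Q₁ : Type u} {Q₂ : Type v} [Group Q₁] [Group Q₂]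
    (hcop : Nat.Coprime (Nat.card (Abelianization Q₁)) (Nat.card (Abelianization Q₂))) :
    Subsingleton (AbTensor Q₁ Q₂) := by
  have h : ∀ t : TensorProduct ℤ (Additive (Abelianization Q₁)) (Additive (Abelianization Q₂)),
      t = 0 := by
    intro t
    induction t using TensorProduct.induction_on with
    | zero => rfl
    | tmul x y =>
      have hx : (Nat.card (Abelianization Q₁) : ℤ) • x = 0 := by
        rw [natCast_zsmul]
        exact congrArg Additive.ofMul (pow_card_eq_one' (x := Additive.toMul x))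
      have hy : (Nat.card (Abelianization Q₂) : ℤ) • y = 0 := by
        rw [natCast_zsmul]
        exact congrArg Additive.ofMul (pow_card_eq_one' (x := Additive.toMul y))
      obtain ⟨a, b, hab⟩ : IsCoprime (Nat.card (Abelianization Q₁) : ℤ)
          (Nat.card (Abelianization Q₂) : ℤ) := Nat.isCoprime_iff_coprime.2 hcop
      calc x ⊗ₜ[ℤ] y = (a * (Nat.card (Abelianization Q₁) : ℤ) +
            b * (Nat.card (Abelianization Q₂) : ℤ)) • (x ⊗ₜ[ℤ] y) := by rw [hab, one_smul]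
        _ = 0 := by
          rw [add_smul, mul_smul, mul_smul, TensorProduct.smul_tmul', hx,
            ← TensorProduct.tmul_smul (Nat.card (Abelianization Q₂) : ℤ) x y, hy]
          simp
    | add x y hx hy => rw [hx, hy, add_zero]
  exact ⟨fun a b => Multiplicative.toAdd.injective ((h _).trans (h _).symm)⟩

end H26
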