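import Cfsg.Agent.H26.SchurBasic

/-!
# Projective representations
-/

set_option autoImplicit false
set_option linter.style.haveILetI false
set_option linter.unusedSectionVars false

namespace H26

open Subgroup
open scoped commutatorElement IsMulCommutative

universe u v w

/-- characters of a subgroup meeting the commutator subgroup trivially extend. -/
theorem exists_char_extension {E : Type u} [Group E] (K : Subgroup E)
    (hK : K ⊓ commutator E = ⊥) (χ : K →* ℂˣ) : ∃ ψ : E →* ℂˣ, ∀ k : K, ψ k = χ k := by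
  letI : RootableBy ℂˣ ℕ := rootableByOfPowLeftSurj ℂˣ ℕ (fun {n} hn a => by
    obtain ⟨z, hz⟩ := IsAlgClosed.exists_pow_nat_eq (a : ℂ) (Nat.pos_of_ne_zero hn)
    have hz0 : z ≠ 0 := by
      rintro rfl
      rw [zero_pow hn] at hz
      exact a.ne_zero hz.symm
    exact ⟨Units.mk0 z hz0, Units.ext (by simpa using hz)⟩)
  letI : RootableBy ℂˣ ℤ := Group.rootableByIntOfRootableByNat ℂˣ
  letI : DivisibleBy (Additive ℂˣ) ℤ :=
    { div := fun a n => Additive.ofMul (RootableBy.root (Additive.toMul a) n)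
      div_zero := fun a => congrArg Additive.ofMul (RootableBy.root_zero _)
      div_cancel := fun a h => congrArg Additive.ofMul (RootableBy.root_cancel _ h) }
  let ab : K →* Abelianization E := Abelianization.of.comp K.subtype
  have hinj : Function.Injective ab := (injective_iff_map_eq_one ab).2 (fun k hk => by
    have h : (k : E) ∈ K ⊓ commutator E := ⟨k.2, by
      rw [SetLike.mem_coe, ← Abelianization.ker_of]; exact hk⟩
    rw [hK, mem_bot] at h
    exact Subtype.ext h)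
  let abA : Additive (Abelianization E) := 0
  haveI : IsMulCommutative K := ⟨⟨fun a b => hinj (by rw [map_mul, map_mul, mul_comm])⟩⟩
  obtain ⟨h, hh⟩ := Module.Baer.extension_property_addMonoidHom
    (Module.Baer.of_divisible (A := Additive ℂˣ)) (MonoidHom.toAdditive ab)
    (fun a b hab => Additive.toMul.injective (hinj (congrArg Additive.toMul hab)))
    (MonoidHom.toAdditive χ)
  exact ⟨(MonoidHom.toAdditive.symm h).comp Abelianization.of, fun k =>
    congrArg Additive.toMul (DFunLike.congr_fun hh (Additive.ofMul k))⟩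

/-- scalar matrices. -/
noncomputable def scalarUnit (n : ℕ) : ℂˣ →* GL (Fin n) ℂ :=
  Units.map (Matrix.scalar (Fin n)).toMonoidHom

lemma scalarUnit_mem_center (n : ℕ) (c : ℂˣ) :
    scalarUnit n c ∈ center (GL (Fin n) ℂ) := by
  rw [mem_center_iff]
  intro g
  apply Units.ext
  exact ((Matrix.scalar_commute (n := Fin n) (c : ℂ) (fun _ => mul_comm _ _)
    (g : Matrix (Fin n) (Fin n) ℂ)).eq).symm

/-- every projective representation lifts to `F / [R, F]`. -/
theorem exists_projective_lift {α : Type u} {Q : Type v} [Group Q] {f : FreeGroup α →* Q} (n : ℕ)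
    (γ : Q →* (GL (Fin n) ℂ ⧸ center (GL (Fin n) ℂ))) :
    ∃ ρ : CE f →* GL (Fin n) ℂ,
      (QuotientGroup.mk' (center (GL (Fin n) ℂ))).comp ρ = γ.comp (cePi f) :=
  exists_lift_of_le γ _ (by rw [QuotientGroup.ker_mk'])
    (fun _ => QuotientGroup.mk'_surjective _ _)

/-- lifting to a cover. -/
theorem exists_lift_to_cover {α : Type u} {Q : Type v} [Group Q] {f : FreeGroup α →* Q}
    {Γ : Type w} [Group Γ] (σ : Γ →* Q) (φ : CE f →* Γ) (hφ : σ.comp φ = cePi f)
    (hs : Function.Surjective φ) (hbot : φ.ker ⊓ commutator (CE f) = ⊥) (n : ℕ)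
    (γ : Q →* (GL (Fin n) ℂ ⧸ center (GL (Fin n) ℂ))) :
    ∃ ρ : Γ →* GL (Fin n) ℂ, (QuotientGroup.mk' (center (GL (Fin n) ℂ))).comp ρ = γ.comp σ := by
  obtain ⟨ρ, hρ⟩ := exists_projective_lift (f := f) n γ
  have hker : ∀ k : φ.ker, ρ k ∈ center (GL (Fin n) ℂ) := fun k => by
    rw [← QuotientGroup.eq_one_iff]
    refine (DFunLike.congr_fun hρ (k : CE f)).trans ?_
    rw [← hφ]
    simp [show φ (k : CE f) = 1 from k.2]
  have hscal : ∀ k : φ.ker, ∃ c : ℂˣ, scalarUnit n c = ρ k := by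
    intro k
    have h := hker k
    rw [Matrix.GeneralLinearGroup.center_eq_range_scalar] at h
    obtain ⟨c, hc⟩ := h
    refine ⟨c, Units.ext ?_⟩
    rw [← hc]; rfl
  rcases Nat.eq_zero_or_pos n with rfl | hn
  · refine ⟨1, ?_⟩
    haveI : Subsingleton (GL (Fin 0) ℂ) := ⟨fun a b => Units.ext (Matrix.ext fun i => i.elim0)⟩
    ext g
    obtain ⟨x, hx⟩ := QuotientGroup.mk'_surjective (center (GL (Fin 0) ℂ)) (γ (σ g))
    rw [MonoidHom.comp_apply, MonoidHom.comp_apply, ← hx,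
      Subsingleton.elim ((1 : Γ →* GL (Fin 0) ℂ) g) x]
  have hinj : Function.Injective (scalarUnit n) := fun a b h => by
    have h1 := congrArg (fun g : GL (Fin n) ℂ =>
      (g : Matrix (Fin n) (Fin n) ℂ) ⟨0, hn⟩ ⟨0, hn⟩) h
    exact Units.ext (by simpa [scalarUnit] using h1)
  choose c hc using hscal
  let χ : φ.ker →* ℂˣ := MonoidHom.mk' c (fun k k' => hinj (by
    rw [map_mul, hc, hc, hc, Subgroup.coe_mul, map_mul]))
  obtain ⟨ψ, hψ⟩ := exists_char_extension φ.ker hbot χ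
  let ρ' : CE f →* GL (Fin n) ℂ := MonoidHom.mk' (fun x => ρ x * (scalarUnit n (ψ x))⁻¹)
    (fun x y => by
      have h := mem_center_iff.1 (inv_mem (scalarUnit_mem_center n (ψ x))) (ρ y * (scalarUnit n (ψ y))⁻¹)
      rw [map_mul, map_mul, map_mul, mul_inv_rev]
      calc ρ x * ρ y * ((scalarUnit n (ψ y))⁻¹ * (scalarUnit n (ψ x))⁻¹)
          = ρ x * (ρ y * (scalarUnit n (ψ y))⁻¹ * (scalarUnit n (ψ x))⁻¹) := by group
        _ = ρ x * ((scalarUnit n (ψ x))⁻¹ * (ρ y * (scalarUnit n (ψ y))⁻¹)) := by rw [h]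
        _ = _ := by group)
  have hkill : φ.ker ≤ ρ'.ker := fun k hk => by
    change ρ k * (scalarUnit n (ψ k))⁻¹ = 1
    rw [mul_inv_eq_one, hψ ⟨k, hk⟩]
    exact (hc ⟨k, hk⟩).symm
  refine ⟨MonoidHom.liftOfSurjective φ hs ⟨ρ', hkill⟩, ?_⟩
  ext g
  obtain ⟨x, rfl⟩ := hs g
  rw [MonoidHom.comp_apply, MonoidHom.comp_apply, MonoidHom.liftOfSurjective,
    MonoidHom.liftOfRightInverse_comp_apply, show σ (φ x) = cePi f x from DFunLike.congr_fun hφ x]
  change QuotientGroup.mk' _ (ρ x * (scalarUnit n (ψ x))⁻¹) = _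
  rw [map_mul, show QuotientGroup.mk' (center (GL (Fin n) ℂ)) (scalarUnit n (ψ x))⁻¹ = 1 from
    (QuotientGroup.eq_one_iff _).2 (inv_mem (scalarUnit_mem_center n (ψ x))), mul_one]
  exact DFunLike.congr_fun hρ x

/-- a monomial representation in which a central kernel acts by a given character. -/
theorem exists_monomial {Γ : Type u} {Q : Type v} [Group Γ] [Group Q] [Finite Q] (σ : Γ →* Q)
    (hs : Function.Surjective σ) (hσ : σ.ker ≤ center Γ) (χ : σ.ker →* ℂˣ) :
    ∃ (n : ℕ) (ρ : Γ →* GL (Fin n) ℂ), 0 < n ∧ ∀ z : σ.ker, ρ z = scalarUnit n (χ z) := by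
  classical
  let e : Q ≃ Fin (Nat.card Q) := Finite.equivFin Q
  choose s hs' using hs
  have hmem : ∀ (x : Γ) (j : Fin (Nat.card Q)),
      (s (σ x * e.symm j))⁻¹ * x * s (e.symm j) ∈ σ.ker := fun x j => by
    rw [MonoidHom.mem_ker, map_mul, map_mul, map_inv, hs', hs']; group
  let h : Γ → Fin (Nat.card Q) → ℂ := fun x j => (χ ⟨_, hmem x j⟩ : ℂˣ)
  let P : Γ → Matrix (Fin (Nat.card Q)) (Fin (Nat.card Q)) ℂ := fun x =>
    Matrix.of fun i j => if e.symm i = σ x * e.symm j then h x j else 0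
  have hmul : ∀ x y, P (x * y) = P x * P y := by
    intro x y
    ext i k
    rw [Matrix.mul_apply, Finset.sum_eq_single (e (σ y * e.symm k))]
    · simp only [P, Matrix.of_apply, Equiv.symm_apply_apply, if_true, map_mul, mul_assoc]
      split_ifs with hc
      · simp only [h]
        rw [← Units.val_mul, ← map_mul]
        congr 2
        apply Subtype.ext
        simp only [Subgroup.coe_mul, Equiv.symm_apply_apply, map_mul, mul_assoc]
        group
      · rw [zero_mul]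
    · intro j _ hj
      simp only [P, Matrix.of_apply]
      rw [if_neg (show ¬ e.symm j = σ y * e.symm k from fun hh => hj (by rw [← hh]; simp)), mul_zero]
    · exact fun hh => absurd (Finset.mem_univ _) hh
  have hdiag : ∀ z : σ.ker, P z = Matrix.scalar (Fin (Nat.card Q)) ((χ z : ℂˣ) : ℂ) := by
    intro z
    ext i j
    simp only [P, Matrix.of_apply, Matrix.scalar_apply, show σ z = 1 from z.2, one_mul,
      EmbeddingLike.apply_eq_iff_eq, Matrix.diagonal_apply]
    split_ifs with hc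
    · simp only [h]
      congr 2
      apply Subtype.ext
      simp only [show σ z = 1 from z.2, one_mul]
      rw [mul_assoc, ← mem_center_iff.1 (hσ z.2) (s (e.symm j)), inv_mul_cancel_left]
    · rfl
  have h1 : P 1 = 1 := by
    have := hdiag 1
    rwa [map_one, Units.val_one, map_one] at this
  let ρm : Γ →* Matrix (Fin (Nat.card Q)) (Fin (Nat.card Q)) ℂ :=
    { toFun := P, map_one' := h1, map_mul' := hmul }
  exact ⟨Nat.card Q, ρm.toHomUnits, Nat.card_pos, fun z => Units.ext (hdiag z)⟩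

/-- projective representations detect the whole multiplier. -/
theorem kerComm_injective_of_lifts {Q : Type u} [Group Q] [Finite Q] {Γ : Type v} [Group Γ]
    (σ : Γ →* Q) (φ : CE (stdPres Q) →* Γ) (hφ : σ.comp φ = cePi (stdPres Q))
    (hlift : ∀ (n : ℕ) (γ : Q →* (GL (Fin n) ℂ ⧸ center (GL (Fin n) ℂ))),
      ∃ ρ : Γ →* GL (Fin n) ℂ, (QuotientGroup.mk' (center (GL (Fin n) ℂ))).comp ρ = γ.comp σ)
    {z : CE (stdPres Q)} (hz : z ∈ SchurMul Q) (hz1 : φ z = 1) : z = 1 := by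
  classical
  by_contra hne
  have hf := stdPres_surjective Q
  obtain ⟨S, hSle, hSM, hS⟩ := exists_complement (f := stdPres Q) _ le_rfl le_sup_left
  haveI : S.Normal := ⟨fun y hy g => by
    rw [mem_center_iff.1 (cePi_ker_le_center (hSle hy)) g, mul_inv_cancel_right]; exact hy⟩
  obtain ⟨h0, hfin, hbij⟩ := stem_of_complement hf S hSM hS
  let σ₀ : CE (stdPres Q) ⧸ S →* Q :=
    QuotientGroup.lift S (cePi (stdPres Q)) (hS ▸ le_sup_left)
  haveI : Finite σ₀.ker := inferInstance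
  haveI : IsMulCommutative σ₀.ker := ⟨⟨fun a b => Subtype.ext (mem_center_iff.1 (h0.2.1 b.2) a)⟩⟩
  let z₀ : σ₀.ker := ⟨QuotientGroup.mk z, hz.1⟩
  have hz₀ : z₀ ≠ 1 := fun h => hne (congrArg Subtype.val
    (hbij.1 (a₁ := ⟨z, hz⟩) (a₂ := 1) h))
  haveI : NeZero (Monoid.exponent σ₀.ker : ℂ) :=
    ⟨Nat.cast_ne_zero.2 Monoid.exponent_ne_zero_of_finite⟩
  obtain ⟨χ, hχ⟩ := CommGroup.exists_apply_ne_one_of_hasEnoughRootsOfUnity σ₀.ker ℂ hz₀
  obtain ⟨n, ρ₀, hn, hρ₀⟩ := exists_monomial σ₀ h0.1 h0.2.1 χ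
  have hker : σ₀.ker ≤ ((QuotientGroup.mk' (center (GL (Fin n) ℂ))).comp ρ₀).ker := fun y hy => by
    rw [MonoidHom.mem_ker, MonoidHom.comp_apply, hρ₀ ⟨y, hy⟩]
    exact (QuotientGroup.eq_one_iff _).2 (scalarUnit_mem_center _ _)
  let γ : Q →* (GL (Fin n) ℂ ⧸ center (GL (Fin n) ℂ)) :=
    MonoidHom.liftOfSurjective σ₀ h0.1 ⟨_, hker⟩
  have hγ : ∀ y, γ (σ₀ y) = QuotientGroup.mk' _ (ρ₀ y) := fun y =>
    MonoidHom.liftOfRightInverse_comp_apply _ _ _ _ _
  obtain ⟨ρ, hρ⟩ := hlift n γ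
  have heq := eq_on_commutator (σ := QuotientGroup.mk' (center (GL (Fin n) ℂ)))
    (by rw [QuotientGroup.ker_mk']) (φ := ρ.comp φ) (ψ := ρ₀.comp (QuotientGroup.mk' S))
    (MonoidHom.ext fun x => by
      change QuotientGroup.mk' _ (ρ (φ x)) = QuotientGroup.mk' _ (ρ₀ (QuotientGroup.mk x))
      rw [← hγ, show σ₀ (QuotientGroup.mk x : CE (stdPres Q) ⧸ S) = cePi (stdPres Q) x from rfl,
        ← hφ]
      exact DFunLike.congr_fun hρ (φ x)) hz.2
  have h2 : ρ (φ z) = scalarUnit n (χ z₀) := heq.trans (hρ₀ z₀)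
  rw [hz1, map_one] at h2
  have h1 := congrArg (fun g : GL (Fin n) ℂ =>
      (g : Matrix (Fin n) (Fin n) ℂ) ⟨0, hn⟩ ⟨0, hn⟩) h2
  exact hχ (Units.ext (by simpa [scalarUnit] using h1.symm))

end H26
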