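import Cfsg.Agent.H26.SchurCocycle

/-!
# Consequences of the transfer on Schur multipliers
-/

set_option autoImplicit false
set_option linter.style.haveILetI false
set_option linter.unusedSectionVars false

namespace H26

open Subgroup
open scoped commutatorElement IsMulCommutative

universe u v w

lemma schurM_eq_bot_of_commutator {α : Type u} {G : Type v} [Group G] {f : FreeGroup α →* G}
    (h : commutator (CE f) = ⊥) : schurM f = ⊥ := by
  rw [schurM, kerComm, h, inf_bot_eq]

lemma schurMul_subsingleton (G : Type u) [Group G] [Subsingleton G] : SchurMul G = ⊥ := by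
  refine schurM_eq_bot_of_commutator ?_
  rw [commutator_eq_bot_iff_center_eq_top, eq_top_iff]
  exact fun a _ => cePi_ker_le_center (Subsingleton.elim _ _)

theorem schurMul_pow_card {G : Type u} [Group G] [Finite G] (z : SchurMul G) :
    z ^ Nat.card G = 1 := by
  obtain ⟨f, τ, -, h⟩ := exists_transfer (⊥ : Subgroup G)
  have h1 := h z
  rw [Subgroup.index_bot] at h1
  have h2 : (τ z : CE (stdPres (⊥ : Subgroup G))) ∈ (⊥ : Subgroup _) := by
    rw [← schurMul_subsingleton (⊥ : Subgroup G)]; exact (τ z).2
  rw [Subgroup.mem_bot.1 h2, map_one] at h1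
  exact Subtype.ext h1.symm

theorem multiplier_pow_card {G : Type u} [Group G] [Finite G] {A : Type v} [CommGroup A]
    (hA : Cfsg.HasSchurMultiplier G A) (a : A) : a ^ Nat.card G = 1 := by
  obtain ⟨e⟩ := hasSchurMultiplier_iff.1 hA
  exact e.injective (by rw [map_pow, schurMul_pow_card, map_one])

/-- restriction-corestriction in terms of abstract multipliers. -/
theorem exists_res_cor {G : Type u} [Group G] [Finite G] (U : Subgroup G) {A : Type v}
    {B : Type w} [CommGroup A] [CommGroup B] (hA : Cfsg.HasSchurMultiplier G A)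
    (hB : Cfsg.HasSchurMultiplier U B) :
    ∃ (q : B →* A) (t : A →* B), ∀ a, q (t a) = a ^ U.index := by
  obtain ⟨eA⟩ := hasSchurMultiplier_iff.1 hA
  obtain ⟨eB⟩ := hasSchurMultiplier_iff.1 hB
  obtain ⟨f, τ, hf, h⟩ := exists_transfer U
  let ι : SchurMul U →* SchurMul G :=
    (f.comp (SchurMul U).subtype).codRestrict _ (fun a => hf a a.2)
  refine ⟨eA.symm.toMonoidHom.comp (ι.comp eB.toMonoidHom),
    eB.symm.toMonoidHom.comp (τ.comp eA.toMonoidHom), fun a => ?_⟩
  have h1 : ι (τ (eA a)) = eA a ^ U.index := Subtype.ext (by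
    rw [SubmonoidClass.coe_pow]; exact h (eA a))
  simp [h1]

/-- a quotient of a finite abelian group is isomorphic to a subgroup. -/
theorem exists_injective_of_surjective {B : Type u} {C : Type v} [CommGroup B] [CommGroup C]
    [Finite B] (q : B →* C) (hq : Function.Surjective q) :
    ∃ i : C →* B, Function.Injective i := by
  haveI : Finite C := Finite.of_surjective q hq
  haveI : NeZero (Monoid.exponent C : ℂ) :=
    ⟨Nat.cast_ne_zero.2 Monoid.exponent_ne_zero_of_finite⟩
  haveI : NeZero (Monoid.exponent B : ℂ) :=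
    ⟨Nat.cast_ne_zero.2 Monoid.exponent_ne_zero_of_finite⟩
  obtain ⟨eB⟩ := CommGroup.monoidHom_mulEquiv_of_hasEnoughRootsOfUnity B ℂ
  obtain ⟨eC⟩ := CommGroup.monoidHom_mulEquiv_of_hasEnoughRootsOfUnity C ℂ
  let d : (C →* ℂˣ) →* (B →* ℂˣ) :=
    { toFun := fun χ => χ.comp q, map_one' := rfl, map_mul' := fun _ _ => rfl }
  have hd : Function.Injective d := fun χ ψ h => MonoidHom.ext fun c => by
    obtain ⟨b, rfl⟩ := hq c
    exact DFunLike.congr_fun h b
  exact ⟨eB.toMonoidHom.comp (d.comp eC.symm.toMonoidHom),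
    eB.injective.comp (hd.comp eC.symm.injective)⟩

/-- a section of a finite abelian group is isomorphic to a subgroup. -/
theorem exists_subgroup_equiv {B : Type u} {A : Type v} [CommGroup B] [CommGroup A] [Finite B]
    (q : B →* A) (K : Subgroup A) (hK : K ≤ q.range) :
    ∃ C : Subgroup B, Nonempty (K ≃* C) := by
  let r : K.comap q →* K := q.subgroupComap K
  have hr : Function.Surjective r := fun k => by
    obtain ⟨b, hb⟩ := hK k.2
    exact ⟨⟨b, show q b ∈ K by rw [hb]; exact k.2⟩, Subtype.ext hb⟩
  obtain ⟨i, hi⟩ := exists_injective_of_surjective r hr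
  let j : K →* B := (K.comap q).subtype.comp i
  exact ⟨j.range, ⟨MonoidHom.ofInjective (f := j) (Subtype.val_injective.comp hi)⟩⟩

end H26
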