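import Cfsg.Agent.H26.SuzSixGens
import Cfsg.Agent.H93.SuzOrder
import Cfsg.Agent.H97.SchurSporadic

/-!
The sixfold perfect cover of the presented Suzuki group inside the lattice group: seven lifts of
the generators satisfy the relations modulo a central subgroup of order six.
-/

set_option autoImplicit false
set_option maxRecDepth 100000

namespace H26.SuzSix

open H95 H97.Co0Code H97.M24x H93.Coset

theorem gens_ok : gens.all (fun E => genOK E []) = true := by decide +kernel

/-- The code of a generator. -/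
def cl (k : ℕ) : ℕ := if k < 7 then codeE (gens.getD k []) else one24

theorem exists_lift (k : ℕ) : ∃ g : Cfsg.Co0, code g = cl k := by
  by_cases hk : k < 7
  · obtain ⟨g, hg, -⟩ := genOK_spec (List.all_eq_true.1 gens_ok (gens.getD k []) (by
      rw [List.getD_eq_getElem _ _ (show k < gens.length from hk)]; exact List.getElem_mem _))
    exact ⟨g, by rw [hg, cl, if_pos hk]⟩
  · exact ⟨1, by rw [code_one, cl, if_neg hk]⟩

/-- The lifts. -/
noncomputable def L (k : ℕ) : Cfsg.Co0 := (exists_lift k).choose

theorem code_L (k : ℕ) : code (L k) = cl k := (exists_lift k).choose_spec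

theorem L_big {k : ℕ} (hk : ¬ k < 7) : L k = 1 :=
  code_inj (by rw [code_L, code_one, cl, if_neg hk])

/-- The code of a word. -/
def cev : List ℕ → ℕ
  | [] => one24
  | g :: w => cm (cev w) (cl g)

theorem code_ev : ∀ w, code (ev L w) = cev w
  | [] => code_one
  | g :: w => by rw [ev, code_mul, code_ev w, code_L]; rfl

/-- The cover. -/
def six : Subgroup Cfsg.Co0 := Subgroup.closure (L '' {k | k < 7})

theorem L_mem (k : ℕ) : L k ∈ six := by
  by_cases hk : k < 7
  · exact Subgroup.subset_closure ⟨k, hk, rfl⟩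
  · rw [L_big hk]; exact one_mem _

/-- The lifts in the cover. -/
noncomputable def gS (k : ℕ) : six := ⟨L k, L_mem k⟩

theorem coe_ev : ∀ w, ((ev gS w : six) : Cfsg.Co0) = ev L w
  | [] => rfl
  | g :: w => by rw [ev, ev, Subgroup.coe_mul, coe_ev w]; rfl

theorem ev_eq_of_code {v w : List ℕ} (h : cev v = cev w) : ev gS v = ev gS w :=
  Subtype.ext (code_inj (by rw [coe_ev, coe_ev, code_ev, code_ev, h]))

instance finite_six : Finite six :=
  have : Finite Cfsg.Co0 := co0_finite
  inferInstance

/-- The generator of the kernel. -/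
noncomputable def zS : six := ev gS [4, 4]

theorem zS_pow (n : ℕ) : zS ^ n = ev gS (List.replicate (2 * n) 4) := by
  induction n with
  | zero => rfl
  | succ n ih =>
    rw [pow_succ, ih, show List.replicate (2 * (n + 1)) 4 = [4, 4] ++ List.replicate (2 * n) 4 from rfl,
      ev_append]
    rfl

theorem code_zpow (n : ℕ) : code ((zS ^ n : six) : Cfsg.Co0) = cev (List.replicate (2 * n) 4) := by
  rw [zS_pow, coe_ev, code_ev]

theorem six_checks : cev (List.replicate 12 4) = one24 ∧
    ∀ n : Fin 6, n.val ≠ 0 → cev (List.replicate (2 * n.val) 4) ≠ one24 := by decide +kernel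

theorem orderOf_zS : orderOf zS = 6 := by
  rw [orderOf_eq_iff (by norm_num)]
  refine ⟨?_, fun m hm hpos he => six_checks.2 ⟨m, hm⟩ hpos.ne' ?_⟩
  · refine Subtype.ext (code_inj ?_)
    rw [code_zpow, OneMemClass.coe_one, code_one]
    exact six_checks.1
  · rw [← code_zpow, he, OneMemClass.coe_one, code_one]

theorem central_check : ∀ k : Fin 7, cm (cl k.val) (cev [4, 4]) = cm (cev [4, 4]) (cl k.val) := by
  decide +kernel

theorem zS_central : zS ∈ Subgroup.center six := by
  rw [Subgroup.mem_center_iff]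
  rintro ⟨y, hy⟩
  have h : six ≤ Subgroup.centralizer {(zS : Cfsg.Co0)} := by
    refine (Subgroup.closure_le _).2 ?_
    rintro _ ⟨k, hk, rfl⟩
    rw [SetLike.mem_coe, Subgroup.mem_centralizer_singleton_iff]
    refine code_inj ?_
    rw [zS, coe_ev, code_mul, code_mul, code_ev, code_L]
    exact central_check ⟨k, hk⟩
  exact Subtype.ext (Subgroup.mem_centralizer_singleton_iff.1 (h hy))

/-- The kernel. -/
noncomputable def zker : Subgroup six := Subgroup.zpowers zS

theorem zker_le : zker ≤ Subgroup.center six := Subgroup.zpowers_le.2 zS_central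

instance zker_normal : zker.Normal := ⟨fun n hn g => by
  rw [Subgroup.mem_center_iff.1 (zker_le hn) g, mul_inv_cancel_right]; exact hn⟩

theorem card_zker : Nat.card zker = 6 := by rw [zker, Nat.card_zpowers, orderOf_zS]

/-- The codes of the kernel. -/
def zcodes : List ℕ := (List.range 6).map fun n => cev (List.replicate (2 * n) 4)

theorem ev_mem_zker {w : List ℕ} (h : zcodes.contains (cev w) = true) : ev gS w ∈ zker := by
  rw [List.contains_iff_mem, zcodes, List.mem_map] at h
  obtain ⟨n, -, hn⟩ := h
  rw [← ev_eq_of_code hn, ← zS_pow]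
  exact Subgroup.npow_mem_zpowers _ _

theorem rel_check : ((relList Cfsg.Spor.Suz.edges Cfsg.Spor.Suz.extra).all fun r =>
    zcodes.contains (cev (wordOf H93.SuzLG.ix r))) = true := by decide +kernel

theorem sq_check : ∀ k : Fin 7, zcodes.contains (cev [k.val, k.val]) = true := by decide +kernel

/-- The quotient by the kernel. -/
abbrev Q : Type := six ⧸ zker

/-- The generators of the quotient. -/
noncomputable def gQ (k : ℕ) : Q := QuotientGroup.mk' zker (gS k)

theorem gQ_ev : ∀ w, QuotientGroup.mk' zker (ev gS w) = ev gQ w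
  | [] => map_one _
  | g :: w => by rw [ev, ev, map_mul, gQ_ev w]; rfl

theorem gQ_sq (a : Cfsg.Spor.Suz.Gen) : gQ (H93.SuzLG.ix a) * gQ (H93.SuzLG.ix a) = 1 := by
  have hk : H93.SuzLG.ix a < 7 := by cases a <;> decide
  rw [gQ, ← map_mul, QuotientGroup.mk'_apply, QuotientGroup.eq_one_iff]
  have h := ev_mem_zker (sq_check ⟨_, hk⟩)
  simpa [ev] using h

theorem rels_hold : ∀ r ∈ Cfsg.Spor.coxRelators Cfsg.Spor.Suz.edges ∪ {r | r ∈ Cfsg.Spor.Suz.extra},
    FreeGroup.lift (fun a => gQ (H93.SuzLG.ix a)) r = 1 := by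
  intro r hr
  rw [lift_eq_ev (fun a => gQ (H93.SuzLG.ix a)) gQ H93.SuzLG.ix (fun _ => rfl) gQ_sq r, ← gQ_ev,
    QuotientGroup.mk'_apply, QuotientGroup.eq_one_iff]
  exact ev_mem_zker (List.all_eq_true.1 rel_check r (mem_relList.2 hr))

/-- The map from the presented group. -/
noncomputable def psi : Cfsg.Spor.Suz →* Q := PresentedGroup.toGroup rels_hold

theorem psi_of (a : Cfsg.Spor.Suz.Gen) : psi (PresentedGroup.of a) = gQ (H93.SuzLG.ix a) :=
  PresentedGroup.toGroup.of rels_hold

theorem psi_surjective : Function.Surjective psi := by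
  intro q
  obtain ⟨⟨y, hy⟩, rfl⟩ := QuotientGroup.mk'_surjective zker q
  have key : six ≤ (psi.range.comap (QuotientGroup.mk' zker)).map six.subtype := by
    refine (Subgroup.closure_le _).2 ?_
    rintro _ ⟨k, hk, rfl⟩
    refine ⟨gS k, ?_, rfl⟩
    have : ∃ a, H93.SuzLG.ix a = k := H93.SuzLG.fit.exists_ix hk
    obtain ⟨a, rfl⟩ := this
    exact ⟨PresentedGroup.of a, psi_of a⟩
  obtain ⟨w, hw, hwy⟩ := key hy
  obtain rfl : w = ⟨y, hy⟩ := Subtype.ext hwy
  exact hw

theorem first_not_mem : gS 0 ∉ zker := by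
  intro h
  obtain ⟨n, hn, he⟩ : ∃ n < 6, zS ^ n = gS 0 := by
    obtain ⟨n, hn⟩ := mem_powers_iff_mem_zpowers.2 h
    refine ⟨n % 6, Nat.mod_lt _ (by norm_num), ?_⟩
    rw [← orderOf_zS, pow_mod_orderOf]; exact hn
  have h1 := code_zpow n
  rw [he, show ((gS 0 : six) : Cfsg.Co0) = L 0 from rfl, code_L] at h1
  revert h1
  have : ∀ m : Fin 6, cl 0 ≠ cev (List.replicate (2 * m.val) 4) := by decide +kernel
  exact this ⟨n, hn⟩

theorem psi_injective : Function.Injective psi := by
  haveI : IsSimpleGroup Cfsg.Spor.Suz := H93.SuzOrder.isSuz.1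
  rw [← MonoidHom.ker_eq_bot_iff]
  refine (psi.normal_ker.eq_bot_or_eq_top).resolve_right fun h => first_not_mem ?_
  have ha : PresentedGroup.of Cfsg.Spor.Suz.Gen.a ∈ psi.ker := by rw [h]; trivial
  rw [MonoidHom.mem_ker, psi_of, gQ, QuotientGroup.mk'_apply, QuotientGroup.eq_one_iff] at ha
  exact ha

/-- The projection to the presented group. -/
noncomputable def proj : six →* Cfsg.Spor.Suz :=
  (MulEquiv.ofBijective psi ⟨psi_injective, psi_surjective⟩).symm.toMonoidHom.comp
    (QuotientGroup.mk' zker)

theorem proj_surjective : Function.Surjective proj :=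
  ((MulEquiv.ofBijective psi ⟨psi_injective, psi_surjective⟩).symm.surjective).comp
    (QuotientGroup.mk'_surjective zker)

theorem proj_ker : proj.ker = zker := by
  ext x
  simp [proj, MonoidHom.mem_ker, QuotientGroup.eq_one_iff]

theorem card_suz : Nat.card Cfsg.Spor.Suz = 448345497600 := H93.SuzOrder.isSuz.2

theorem card_six : Nat.card six = 2690072985600 := by
  rw [Subgroup.card_eq_card_quotient_mul_card_subgroup zker, card_zker,
    ← Nat.card_congr (Equiv.ofBijective psi ⟨psi_injective, psi_surjective⟩), card_suz]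

/-- Images in the abelianisation. -/
noncomputable def xA (k : ℕ) : Additive (Abelianization six) :=
  Additive.ofMul (Abelianization.of (gS k))

theorem xA_ev : ∀ w, Additive.ofMul (Abelianization.of (ev gS w)) = (w.map xA).sum
  | [] => by rw [ev, map_one]; rfl
  | g :: w => by
    rw [ev, map_mul, ofMul_mul, xA_ev w, List.map_cons, List.sum_cons, add_comm]
    rfl

theorem row {w : List ℕ} {n : ℕ} (h : cev w = cev (List.replicate (2 * n) 4)) :
    (w.map xA).sum = (2 * n) • xA 4 := by
  rw [← xA_ev, ev_eq_of_code h, xA_ev, List.map_replicate, List.sum_replicate]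

theorem xA_zero : ∀ k < 7, xA k = 0 := by
    have r0 := row (w := [0, 0]) (n := 0) (by decide +kernel)
    simp only [List.map_cons, List.map_nil, List.sum_cons, List.sum_nil] at r0
    have r7 := row (w := [1, 1]) (n := 0) (by decide +kernel)
    simp only [List.map_cons, List.map_nil, List.sum_cons, List.sum_nil] at r7
    have r13 := row (w := [2, 2]) (n := 0) (by decide +kernel)
    simp only [List.map_cons, List.map_nil, List.sum_cons, List.sum_nil] at r13
    have r18 := row (w := [3, 3]) (n := 3) (by decide +kernel)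
    simp only [List.map_cons, List.map_nil, List.sum_cons, List.sum_nil] at r18
    have r25 := row (w := [5, 5]) (n := 0) (by decide +kernel)
    simp only [List.map_cons, List.map_nil, List.sum_cons, List.sum_nil] at r25
    have r27 := row (w := [6, 6]) (n := 0) (by decide +kernel)
    simp only [List.map_cons, List.map_nil, List.sum_cons, List.sum_nil] at r27
    have r29 := row (w := [5, 6, 5, 6, 0]) (n := 0) (by decide +kernel)
    simp only [List.map_cons, List.map_nil, List.sum_cons, List.sum_nil] at r29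
    have r1 := row (w := [1, 0, 1, 0, 1, 0, 1, 0, 1, 0]) (n := 3) (by decide +kernel)
    simp only [List.map_cons, List.map_nil, List.sum_cons, List.sum_nil] at r1
    have r8 := row (w := [2, 1, 2, 1, 2, 1]) (n := 3) (by decide +kernel)
    simp only [List.map_cons, List.map_nil, List.sum_cons, List.sum_nil] at r8
    have r11 := row (w := [5, 1, 5, 1, 5, 1]) (n := 3) (by decide +kernel)
    simp only [List.map_cons, List.map_nil, List.sum_cons, List.sum_nil] at r11
    have r12 := row (w := [6, 1, 6, 1, 6, 1]) (n := 0) (by decide +kernel)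
    simp only [List.map_cons, List.map_nil, List.sum_cons, List.sum_nil] at r12
    have r28 := row (w := [2, 3, 2, 3, 2, 3, 2, 3, 0]) (n := 0) (by decide +kernel)
    simp only [List.map_cons, List.map_nil, List.sum_cons, List.sum_nil] at r28
    have r19 := row (w := [4, 3, 4, 3, 4, 3]) (n := 0) (by decide +kernel)
    simp only [List.map_cons, List.map_nil, List.sum_cons, List.sum_nil] at r19
    have r30 := row (w := [5, 2, 1, 0, 5, 2, 1, 0, 5, 2, 1, 0, 5, 2, 1, 0, 5, 2, 1, 0]) (n := 0) (by decide +kernel)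
    simp only [List.map_cons, List.map_nil, List.sum_cons, List.sum_nil] at r30
    have r31 := row (w := [6, 5, 1, 6, 5, 1, 6, 5, 1, 6, 5, 1, 6, 5, 1]) (n := 4) (by decide +kernel)
    simp only [List.map_cons, List.map_nil, List.sum_cons, List.sum_nil] at r31
    have r32 := row (w := [4, 3, 2, 3, 2, 1, 3, 2, 3, 2, 1, 3, 2, 3, 2, 1, 3, 2, 3, 2, 1, 3, 2, 3, 2, 1, 4, 3, 2, 3, 2, 1, 3, 2, 3, 2, 1, 3, 2, 3, 2, 1, 3, 2, 3, 2, 1, 3, 2, 3, 2, 1, 4, 3, 2, 3, 2, 1, 3, 2, 3, 2, 1, 3, 2, 3, 2, 1, 3, 2, 3, 2, 1, 3, 2, 3, 2, 1]) (n := 3) (by decide +kernel)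
    simp only [List.map_cons, List.map_nil, List.sum_cons, List.sum_nil] at r32
    have ha : xA 0 = 0 := by linear_combination (norm := module) r29 - r25 - r27
    have hb6 : xA 1 = (6 : ℕ) • xA 4 := by
      linear_combination (norm := module) r1 - (2 : ℤ) • r7 - (2 : ℤ) • r0 - ha
    have h12 : (12 : ℕ) • xA 4 = 0 := by linear_combination (norm := module) r7 - (2 : ℤ) • hb6
    have hc : xA 2 = 0 := by
      linear_combination (norm := module) r8 - r13 - (3 : ℤ) • hb6 - h12
    have hf : xA 5 = 0 := by
      linear_combination (norm := module) r11 - r25 - (3 : ℤ) • hb6 - h12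
    have hb : xA 1 = 0 := by
      linear_combination (norm := module) r30 - (2 : ℤ) • r7 - (5 : ℤ) • ha - (5 : ℤ) • hc - (5 : ℤ) • hf
    have hg : xA 6 = 0 := by linear_combination (norm := module) r12 - r27 - (3 : ℤ) • hb
    have h6 : (6 : ℕ) • xA 4 = 0 := by linear_combination (norm := module) hb - hb6
    have h8 : (8 : ℕ) • xA 4 = 0 := by
      linear_combination (norm := module) (5 : ℤ) • hb + (5 : ℤ) • hf + (5 : ℤ) • hg - r31
    have he : xA 4 = 0 := by
      linear_combination (norm := module) r32 - (15 : ℤ) • hb - (30 : ℤ) • hc - (15 : ℤ) • r18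
        - (13 : ℤ) • h6 - h8
    have hd : xA 3 = 0 := by
      linear_combination (norm := module) r19 - r18 - (9 : ℤ) • he
    intro k hk
    interval_cases k <;> assumption

theorem perfect : commutator six = ⊤ := by
  rw [eq_top_iff]
  have key : six ≤ (commutator six).map six.subtype := by
    refine (Subgroup.closure_le _).2 ?_
    rintro _ ⟨k, hk, rfl⟩
    refine ⟨gS k, ?_, rfl⟩
    show gS k ∈ commutator six
    rw [← Abelianization.ker_of, MonoidHom.mem_ker]
    exact Additive.ofMul.injective (xA_zero k hk)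
  rintro ⟨y, hy⟩ -
  obtain ⟨w, hw, hwy⟩ := key hy
  obtain rfl : w = ⟨y, hy⟩ := Subtype.ext hwy
  exact hw

end H26.SuzSix
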