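import Cfsg.Agent.H26.SuzSixSize2

/-! The rules of the certificate at 2. -/

set_option autoImplicit false
set_option maxRecDepth 100000
set_option Elab.async false

namespace H26.SuzSix

open H97.Co0Code H97.M24x H97.SchurCert H26.CertLin

theorem syms2 : (let S := slp (gens.map codeE) prog2; data2.syms.all fun v => S.contains v) = true := by
  decide +kernel

theorem rules2 : rulesOK cm one24 data2 = true := by decide +kernel

theorem defs2 : defsOK data2 = true := by decide +kernel

theorem pc2 : pcOK data2 = true := by decide +kernel

end H26.SuzSix
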