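import Cfsg.Agent.H26.SuzSixCert2
import Cfsg.Agent.H26.SuzSixData3

/-! The certificate at 3. -/

set_option autoImplicit false
set_option maxRecDepth 100000
set_option Elab.async false

namespace H26.SuzSix

open H97.Co0Code H97.M24x H97.SchurCert H26.CertLin

theorem syms3 : (let S := slp (gens.map codeE) prog3; data3.syms.all fun v => S.contains v) = true := by
  decide +kernel

theorem rules3 : rulesOK cm one24 data3 = true := by decide +kernel

theorem defs3 : defsOK data3 = true := by decide +kernel

theorem pc3 : pcOK data3 = true := by decide +kernel

theorem lin3 : combosLOK data3 vecs3 = true := by decide +kernel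

theorem size3 : sizeOK cm one24 data3 = true := by decide +kernel

end H26.SuzSix
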