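import Mathlib.Data.List.Basic

/-! Seven elements of the lattice group lifting the generators of the presented Suzuki group: eight times
the matrices. -/

set_option maxRecDepth 20000

namespace H26.SuzSix

def gen0 : List (List Int) := [
    [-2, 2, 2, 0, 2, 2, 0, -2, 2, -2, 0, 0, -2, 2, -2, 0, -2, -2, -2, -2, 0, -2, 0, 0],
    [2, -2, -2, 0, -2, -2, 0, -2, 2, 2, 0, 0, -2, 2, -2, 0, -2, -2, 2, 2, 0, -2, 0, 0],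
    [2, -2, -2, 0, 2, 2, 0, -2, 2, 2, 0, 0, 2, 2, 2, 0, 2, -2, -2, -2, 0, 2, 0, 0],
    [0, 0, 0, -6, 0, 0, -2, 0, 0, 0, -2, 2, 0, 0, 0, -2, 0, 0, 0, 0, -2, 0, -2, -2],
    [2, -2, 2, 0, -2, 2, 0, -2, -2, -2, 0, 0, 2, -2, -2, 0, -2, -2, -2, 2, 0, 2, 0, 0],
    [2, -2, 2, 0, 2, -2, 0, 2, 2, -2, 0, 0, 2, 2, -2, 0, -2, 2, 2, -2, 0, 2, 0, 0],
    [0, 0, 0, -2, 0, 0, -6, 0, 0, 0, 2, -2, 0, 0, 0, 2, 0, 0, 0, 0, 2, 0, 2, 2],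
    [-2, -2, -2, 0, -2, 2, 0, -2, 2, -2, 0, 0, 2, -2, 2, 0, -2, 2, 2, -2, 0, -2, 0, 0],
    [2, 2, 2, 0, -2, 2, 0, 2, -2, 2, 0, 0, 2, 2, 2, 0, -2, -2, 2, -2, 0, -2, 0, 0],
    [-2, 2, 2, 0, -2, -2, 0, -2, 2, -2, 0, 0, 2, 2, 2, 0, 2, -2, 2, 2, 0, 2, 0, 0],
    [0, 0, 0, -2, 0, 0, 2, 0, 0, 0, -6, -2, 0, 0, 0, 2, 0, 0, 0, 0, 2, 0, 2, 2],
    [0, 0, 0, 2, 0, 0, -2, 0, 0, 0, -2, -6, 0, 0, 0, -2, 0, 0, 0, 0, -2, 0, -2, -2],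
    [-2, -2, 2, 0, 2, 2, 0, 2, 2, 2, 0, 0, -2, -2, 2, 0, -2, -2, 2, 2, 0, 2, 0, 0],
    [2, 2, 2, 0, -2, 2, 0, -2, 2, 2, 0, 0, -2, -2, -2, 0, 2, 2, 2, -2, 0, 2, 0, 0],
    [-2, -2, 2, 0, -2, -2, 0, 2, 2, 2, 0, 0, 2, -2, -2, 0, 2, -2, -2, -2, 0, -2, 0, 0],
    [0, 0, 0, -2, 0, 0, 2, 0, 0, 0, 2, -2, 0, 0, 0, -6, 0, 0, 0, 0, 2, 0, 2, 2],
    [-2, -2, 2, 0, -2, -2, 0, -2, -2, 2, 0, 0, -2, 2, 2, 0, -2, 2, -2, -2, 0, 2, 0, 0],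
    [-2, -2, -2, 0, -2, 2, 0, 2, -2, -2, 0, 0, -2, 2, -2, 0, 2, -2, 2, -2, 0, 2, 0, 0],
    [-2, 2, -2, 0, -2, 2, 0, 2, 2, 2, 0, 0, 2, 2, -2, 0, -2, 2, -2, 2, 0, 2, 0, 0],
    [-2, 2, -2, 0, 2, -2, 0, -2, -2, 2, 0, 0, 2, -2, -2, 0, -2, -2, 2, -2, 0, 2, 0, 0],
    [0, 0, 0, -2, 0, 0, 2, 0, 0, 0, 2, -2, 0, 0, 0, 2, 0, 0, 0, 0, 2, 0, 2, -6],
    [-2, -2, 2, 0, 2, 2, 0, -2, -2, 2, 0, 0, 2, 2, -2, 0, 2, 2, 2, 2, 0, -2, 0, 0],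
    [0, 0, 0, -2, 0, 0, 2, 0, 0, 0, 2, -2, 0, 0, 0, 2, 0, 0, 0, 0, 2, 0, -6, 2],
    [0, 0, 0, -2, 0, 0, 2, 0, 0, 0, 2, -2, 0, 0, 0, 2, 0, 0, 0, 0, -6, 0, 2, 2]]

def gen1 : List (List Int) := [
    [2, -2, 0, 2, 0, 0, 2, 0, -2, -2, 2, 0, 0, -2, 2, 0, -2, -2, 0, -2, -2, 2, -2, -2],
    [-2, 2, 0, 2, 0, 0, 2, 0, 2, -2, 2, 0, 0, -2, 2, 0, 2, 2, 0, -2, 2, -2, -2, 2],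
    [0, 0, -2, 0, 2, 2, 0, 2, 0, 0, 0, -6, 2, 0, 0, -2, 0, 0, 2, 0, 0, 0, 0, 0],
    [2, 2, 0, 2, 0, 0, -2, 0, 2, 2, -2, 0, 0, -2, 2, 0, -2, 2, 0, -2, 2, 2, 2, -2],
    [0, 0, 2, 0, 6, -2, 0, -2, 0, 0, 0, -2, -2, 0, 0, 2, 0, 0, -2, 0, 0, 0, 0, 0],
    [0, 0, 2, 0, -2, 6, 0, -2, 0, 0, 0, -2, -2, 0, 0, 2, 0, 0, -2, 0, 0, 0, 0, 0],
    [2, 2, 0, -2, 0, 0, 2, 0, 2, 2, 2, 0, 0, 2, 2, 0, 2, -2, 0, -2, -2, -2, 2, -2],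
    [0, 0, 2, 0, -2, -2, 0, 6, 0, 0, 0, -2, -2, 0, 0, 2, 0, 0, -2, 0, 0, 0, 0, 0],
    [-2, 2, 0, 2, 0, 0, 2, 0, 2, 2, 2, 0, 0, -2, -2, 0, -2, -2, 0, 2, -2, 2, 2, 2],
    [-2, -2, 0, 2, 0, 0, 2, 0, 2, 2, -2, 0, 0, 2, -2, 0, -2, -2, 0, -2, 2, -2, -2, -2],
    [2, 2, 0, -2, 0, 0, 2, 0, 2, -2, 2, 0, 0, 2, -2, 0, -2, 2, 0, 2, 2, 2, -2, -2],
    [0, 0, -6, 0, -2, -2, 0, -2, 0, 0, 0, -2, -2, 0, 0, 2, 0, 0, -2, 0, 0, 0, 0, 0],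
    [0, 0, 2, 0, -2, -2, 0, -2, 0, 0, 0, -2, 6, 0, 0, 2, 0, 0, -2, 0, 0, 0, 0, 0],
    [-2, -2, 0, -2, 0, 0, 2, 0, -2, 2, 2, 0, 0, 2, 2, 0, -2, 2, 0, -2, 2, 2, 2, 2],
    [2, 2, 0, 2, 0, 0, 2, 0, -2, -2, -2, 0, 0, 2, 2, 0, -2, -2, 0, 2, 2, -2, 2, 2],
    [0, 0, -2, 0, 2, 2, 0, 2, 0, 0, 0, 2, 2, 0, 0, 6, 0, 0, 2, 0, 0, 0, 0, 0],
    [-2, 2, 0, -2, 0, 0, 2, 0, -2, -2, -2, 0, 0, -2, -2, 0, 2, -2, 0, -2, 2, 2, 2, -2],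
    [-2, 2, 0, 2, 0, 0, -2, 0, -2, -2, 2, 0, 0, 2, -2, 0, -2, 2, 0, -2, -2, -2, 2, -2],
    [0, 0, 2, 0, -2, -2, 0, -2, 0, 0, 0, -2, -2, 0, 0, 2, 0, 0, 6, 0, 0, 0, 0, 0],
    [-2, -2, 0, -2, 0, 0, -2, 0, 2, -2, 2, 0, 0, -2, 2, 0, -2, -2, 0, 2, 2, -2, 2, -2],
    [-2, 2, 0, 2, 0, 0, -2, 0, -2, 2, 2, 0, 0, 2, 2, 0, 2, -2, 0, 2, 2, 2, -2, -2],
    [2, -2, 0, 2, 0, 0, -2, 0, 2, -2, 2, 0, 0, 2, -2, 0, 2, -2, 0, -2, 2, 2, 2, 2],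
    [-2, -2, 0, 2, 0, 0, 2, 0, 2, -2, -2, 0, 0, 2, 2, 0, 2, 2, 0, 2, -2, 2, 2, -2],
    [-2, 2, 0, -2, 0, 0, -2, 0, 2, -2, -2, 0, 0, 2, 2, 0, -2, -2, 0, -2, -2, 2, -2, 2]]

def gen2 : List (List Int) := [
    [-4, 0, 0, 0, -2, 0, 2, 2, -4, 2, -2, -2, 2, 0, 0, 0, 0, 0, 0, 0, 0, 0, -2, 0],
    [0, -4, 0, 0, 2, 0, 2, 2, 0, -2, 2, 2, 2, 0, 0, 0, 4, 0, 0, 0, 0, 0, -2, 0],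
    [0, 0, -4, 0, -2, 0, -2, 2, 0, -2, 2, -2, -2, 0, 0, 0, 0, 0, 0, 4, 0, 0, -2, 0],
    [0, 0, 0, -4, -2, 0, 2, -2, 0, -2, 2, -2, 2, 0, 0, -4, 0, 0, 0, 0, 0, 0, 2, 0],
    [-2, 2, -2, -2, 0, -2, 0, 0, 2, 0, 0, 0, 0, 2, 2, 2, 2, 2, 2, -2, -2, -2, 0, -2],
    [0, 0, 0, 0, -2, -4, 2, -2, 0, 2, 2, 2, -2, -4, 0, 0, 0, 0, 0, 0, 0, 0, -2, 0],
    [2, 2, -2, 2, 0, 2, 0, 0, -2, 0, 0, 0, 0, -2, 2, -2, 2, -2, 2, -2, -2, 2, 0, -2],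
    [2, 2, 2, -2, 0, -2, 0, 0, -2, 0, 0, 0, 0, 2, -2, 2, 2, -2, -2, 2, -2, 2, 0, -2],
    [-4, 0, 0, 0, 2, 0, -2, -2, -4, -2, 2, 2, -2, 0, 0, 0, 0, 0, 0, 0, 0, 0, 2, 0],
    [2, -2, -2, -2, 0, 2, 0, 0, -2, 0, 0, 0, 0, -2, -2, 2, -2, 2, -2, -2, -2, -2, 0, -2],
    [-2, 2, 2, 2, 0, 2, 0, 0, 2, 0, 0, 0, 0, -2, -2, -2, 2, 2, -2, 2, -2, -2, 0, -2],
    [-2, 2, -2, -2, 0, 2, 0, 0, 2, 0, 0, 0, 0, -2, -2, 2, 2, -2, -2, -2, 2, 2, 0, 2],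
    [2, 2, -2, 2, 0, -2, 0, 0, -2, 0, 0, 0, 0, 2, -2, -2, 2, 2, -2, -2, 2, -2, 0, 2],
    [0, 0, 0, 0, 2, -4, -2, 2, 0, -2, -2, -2, 2, -4, 0, 0, 0, 0, 0, 0, 0, 0, 2, 0],
    [0, 0, 0, 0, 2, 0, 2, -2, 0, -2, -2, -2, -2, 0, -4, 0, 0, 0, 4, 0, 0, 0, -2, 0],
    [0, 0, 0, -4, 2, 0, -2, 2, 0, 2, -2, 2, -2, 0, 0, -4, 0, 0, 0, 0, 0, 0, -2, 0],
    [0, 4, 0, 0, 2, 0, 2, 2, 0, -2, 2, 2, 2, 0, 0, 0, -4, 0, 0, 0, 0, 0, -2, 0],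
    [0, 0, 0, 0, 2, 0, -2, -2, 0, 2, 2, -2, 2, 0, 0, 0, 0, -4, 0, 0, 0, -4, -2, 0],
    [0, 0, 0, 0, 2, 0, 2, -2, 0, -2, -2, -2, -2, 0, 4, 0, 0, 0, -4, 0, 0, 0, -2, 0],
    [0, 0, 4, 0, -2, 0, -2, 2, 0, -2, 2, -2, -2, 0, 0, 0, 0, 0, 0, -4, 0, 0, -2, 0],
    [0, 0, 0, 0, -2, 0, -2, -2, 0, -2, -2, 2, 2, 0, 0, 0, 0, 0, 0, 0, -4, 0, -2, 4],
    [0, 0, 0, 0, -2, 0, 2, 2, 0, -2, -2, 2, -2, 0, 0, 0, 0, -4, 0, 0, 0, -4, 2, 0],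
    [-2, -2, -2, 2, 0, -2, 0, 0, 2, 0, 0, 0, 0, 2, -2, -2, -2, -2, -2, -2, -2, 2, 0, -2],
    [0, 0, 0, 0, -2, 0, -2, -2, 0, -2, -2, 2, 2, 0, 0, 0, 0, 0, 0, 0, 4, 0, -2, -4]]

def gen3 : List (List Int) := [
    [0, 0, 0, 4, 0, 0, 0, -4, 0, 0, 0, 4, 0, 0, 0, 0, 0, 0, 0, 4, 0, 0, 0, 0],
    [0, 0, 0, 0, 0, 0, 0, 0, 0, 4, 0, 0, 0, 0, 0, 0, 0, 0, 0, 0, 0, 4, -4, 4],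
    [0, 0, 0, 0, 0, 0, 0, 0, 0, -4, 0, 0, 0, 0, 0, 0, 0, 0, 0, 0, 0, 4, -4, -4],
    [-4, 0, 0, 0, 0, 0, -4, 0, 0, 0, 4, 0, 0, 0, 0, 0, -4, 0, 0, 0, 0, 0, 0, 0],
    [0, 0, 0, 0, 0, -4, 0, 0, -4, 0, 0, 0, 0, 0, 0, -4, 0, 0, 0, 0, 4, 0, 0, 0],
    [0, 0, 0, 0, 4, 0, 0, 0, 0, 0, 0, 0, -4, -4, -4, 0, 0, 0, 0, 0, 0, 0, 0, 0],
    [0, 0, 0, 4, 0, 0, 0, -4, 0, 0, 0, -4, 0, 0, 0, 0, 0, 0, 0, -4, 0, 0, 0, 0],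
    [4, 0, 0, 0, 0, 0, 4, 0, 0, 0, 4, 0, 0, 0, 0, 0, -4, 0, 0, 0, 0, 0, 0, 0],
    [0, 0, 0, 0, 4, 0, 0, 0, 0, 0, 0, 0, 4, 4, -4, 0, 0, 0, 0, 0, 0, 0, 0, 0],
    [0, -4, 4, 0, 0, 0, 0, 0, 0, 0, 0, 0, 0, 0, 0, 0, 0, 4, 4, 0, 0, 0, 0, 0],
    [0, 0, 0, -4, 0, 0, 0, -4, 0, 0, 0, 4, 0, 0, 0, 0, 0, 0, 0, -4, 0, 0, 0, 0],
    [-4, 0, 0, 0, 0, 0, 4, 0, 0, 0, -4, 0, 0, 0, 0, 0, -4, 0, 0, 0, 0, 0, 0, 0],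
    [0, 0, 0, 0, 0, 4, 0, 0, -4, 0, 0, 0, 0, 0, 0, 4, 0, 0, 0, 0, 4, 0, 0, 0],
    [0, 0, 0, 0, 0, 4, 0, 0, -4, 0, 0, 0, 0, 0, 0, -4, 0, 0, 0, 0, -4, 0, 0, 0],
    [0, 0, 0, 0, 0, 4, 0, 0, 4, 0, 0, 0, 0, 0, 0, -4, 0, 0, 0, 0, 4, 0, 0, 0],
    [0, 0, 0, 0, 4, 0, 0, 0, 0, 0, 0, 0, -4, 4, 4, 0, 0, 0, 0, 0, 0, 0, 0, 0],
    [0, 0, 0, 4, 0, 0, 0, 4, 0, 0, 0, 4, 0, 0, 0, 0, 0, 0, 0, -4, 0, 0, 0, 0],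
    [0, 0, 0, 0, 0, 0, 0, 0, 0, -4, 0, 0, 0, 0, 0, 0, 0, 0, 0, 0, 0, -4, -4, 4],
    [0, 0, 0, 0, 0, 0, 0, 0, 0, -4, 0, 0, 0, 0, 0, 0, 0, 0, 0, 0, 0, 4, 4, 4],
    [-4, 0, 0, 0, 0, 0, 4, 0, 0, 0, 4, 0, 0, 0, 0, 0, 4, 0, 0, 0, 0, 0, 0, 0],
    [0, 0, 0, 0, -4, 0, 0, 0, 0, 0, 0, 0, -4, 4, -4, 0, 0, 0, 0, 0, 0, 0, 0, 0],
    [0, -4, -4, 0, 0, 0, 0, 0, 0, 0, 0, 0, 0, 0, 0, 0, 0, 4, -4, 0, 0, 0, 0, 0],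
    [0, 4, 4, 0, 0, 0, 0, 0, 0, 0, 0, 0, 0, 0, 0, 0, 0, 4, -4, 0, 0, 0, 0, 0],
    [0, -4, 4, 0, 0, 0, 0, 0, 0, 0, 0, 0, 0, 0, 0, 0, 0, -4, -4, 0, 0, 0, 0, 0]]

def gen4 : List (List Int) := [
    [-1, 1, -1, 1, 1, -1, -3, 3, -1, -1, 1, -1, -1, 1, -3, 1, -3, -1, 3, -1, -1, 1, 1, 1],
    [1, 3, 1, -1, 3, 1, -1, -3, 1, -3, -1, 1, 1, -1, -1, -1, -1, 1, 1, 1, 1, -1, 3, -1],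
    [1, -1, -3, -1, -1, 1, -1, 1, 1, 1, -1, -3, 1, -1, 3, -1, -1, 1, 1, 1, 1, -1, 3, 3],
    [1, -1, 1, 3, -1, 1, -1, 1, 1, -3, -1, -3, 1, -1, -1, 3, 3, 1, 1, 1, 1, -1, -1, -1],
    [-1, 1, -1, 1, -3, 3, 1, -1, 3, -1, 1, 3, -1, 1, 1, 1, 1, -1, 3, -1, -1, 1, 1, 1],
    [-3, -1, 1, -1, -1, 1, -1, 1, 1, 1, -1, 1, 1, -1, -1, -1, -1, 1, 1, 1, -3, -5, -1, -1],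
    [-1, 1, -1, -3, 1, -1, -3, -1, 3, -1, 1, -1, -1, 1, 1, 1, 1, -1, -1, 3, -1, 1, -3, 1],
    [-1, -3, -1, 1, 1, -1, -3, -1, -1, -1, -3, 3, 3, 1, 1, 1, 1, -1, -1, -1, -1, 1, 1, 1],
    [-1, 1, -1, 1, 1, 3, 1, -1, -1, -1, 1, -1, 3, -3, 1, 1, -3, -1, -1, -1, -1, 1, -3, 1],
    [1, -1, 1, -1, -1, 1, -1, 1, 1, 1, 3, 1, 1, -1, -1, 3, -1, -3, -3, 1, 1, -1, 3, -1],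
    [1, -1, 1, 3, -1, -3, -1, -3, 1, 1, 3, 1, 1, -1, -1, -1, -1, 1, 1, 1, 1, -1, -1, 3],
    [1, -1, -3, -1, 3, 1, -1, 1, 1, 1, 3, 1, 1, -1, -1, -1, 3, 1, 1, -3, 1, -1, -1, -1],
    [-1, 1, 3, 1, 1, -1, 1, 3, 3, -1, 1, -1, 3, 1, 1, -3, 1, -1, -1, -1, -1, 1, 1, 1],
    [1, -1, -3, -1, -1, -3, 3, 1, 1, -3, -1, 1, 1, -1, -1, -1, -1, -3, 1, 1, 1, -1, -1, -1],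
    [-1, -3, 3, -3, 1, -1, 1, -1, -1, -1, 1, -1, -1, -3, 1, 1, 1, -1, 3, -1, -1, 1, 1, 1],
    [-1, 1, -1, 1, 1, -1, 1, -1, 3, 3, -3, -1, -1, -3, -3, 1, 1, -1, -1, -1, -1, 1, 1, 1],
    [-5, 1, -1, 1, 1, -1, 1, -1, -1, -1, 1, -1, -1, 1, 1, 1, 1, -1, -1, -1, 3, -3, 1, 1],
    [-1, 1, -1, 1, -3, -1, -3, -1, -1, -1, 1, -1, -1, -3, 1, -3, 1, -1, -1, -1, -1, 1, 1, -3],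
    [1, -1, 1, 3, 3, 1, -1, 1, 1, 1, -1, 1, -3, -1, 3, -1, -1, -3, 1, 1, 1, -1, -1, -1],
    [1, -1, 1, -1, -1, 1, -1, -3, 1, 1, -1, -3, 1, 3, -1, -1, -1, -3, 1, -3, 1, -1, -1, -1],
    [-1, 1, -1, 1, 1, -1, 1, -1, -1, 3, 1, -1, 3, 1, 1, 1, 1, -1, 3, 3, -1, 1, 1, -3],
    [1, 3, 1, -1, -1, -3, -1, 1, 1, 1, -1, 1, 1, -1, 3, 3, -1, 1, 1, -3, 1, -1, -1, -1],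
    [1, 3, 1, -1, -1, 1, -1, 1, -3, 1, -1, 1, 1, -1, -1, -1, 3, -3, 1, 1, 1, -1, -1, 3],
    [3, 1, -1, 1, 1, -1, 1, -1, -1, -1, 1, -1, -1, 1, 1, 1, 1, -1, -1, -1, -5, -3, 1, 1]]

def gen5 : List (List Int) := [
    [0, -2, -2, 0, -2, -2, 0, 0, -2, 2, 0, 0, 2, -2, 2, 2, 0, 2, 2, 0, -2, 2, 2, -2],
    [-2, -4, 0, 2, 4, 0, 2, 2, 0, 0, 2, 2, 0, 0, 0, 0, 2, 0, 0, -2, 0, 0, 0, 0],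
    [-2, 0, -4, 2, 0, 0, -2, 2, 0, 0, 2, -2, -4, 0, 0, 0, -2, 0, 0, 2, 0, 0, 0, 0],
    [0, 2, 2, 0, 2, 2, 0, 0, -2, 2, 0, 0, -2, -2, 2, 2, 0, 2, 2, 0, 2, -2, 2, 2],
    [-2, 4, 0, 2, -4, 0, 2, 2, 0, 0, 2, 2, 0, 0, 0, 0, 2, 0, 0, -2, 0, 0, 0, 0],
    [-2, 0, 0, 2, 0, -4, 2, -2, 0, 0, -2, -2, 0, 0, 0, 0, 2, 0, 0, 2, 0, -4, 0, 0],
    [0, 2, -2, 0, 2, 2, 0, 0, -2, 2, 0, 0, 2, 2, 2, -2, 0, 2, -2, 0, -2, -2, -2, -2],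
    [0, 2, 2, 0, 2, -2, 0, 0, -2, 2, 0, 0, -2, 2, -2, 2, 0, -2, -2, 0, -2, 2, 2, -2],
    [-2, 0, 0, -2, 0, 0, -2, -2, -4, -4, 2, 2, 0, 0, 0, 0, 2, 0, 0, 2, 0, 0, 0, 0],
    [2, 0, 0, 2, 0, 0, 2, 2, -4, -4, -2, -2, 0, 0, 0, 0, -2, 0, 0, -2, 0, 0, 0, 0],
    [0, 2, 2, 0, 2, -2, 0, 0, 2, -2, 0, 0, -2, -2, 2, -2, 0, 2, 2, 0, -2, 2, -2, -2],
    [0, 2, -2, 0, 2, -2, 0, 0, 2, -2, 0, 0, 2, 2, 2, 2, 0, 2, -2, 0, 2, 2, 2, 2],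
    [2, 0, -4, -2, 0, 0, 2, -2, 0, 0, -2, 2, -4, 0, 0, 0, 2, 0, 0, -2, 0, 0, 0, 0],
    [-2, 0, 0, -2, 0, 0, 2, 2, 0, 0, -2, 2, 0, -4, 0, 0, -2, 0, -4, 2, 0, 0, 0, 0],
    [2, 0, 0, 2, 0, 0, 2, -2, 0, 0, 2, 2, 0, 0, -4, 0, -2, 4, 0, 2, 0, 0, 0, 0],
    [2, 0, 0, 2, 0, 0, -2, 2, 0, 0, -2, 2, 0, 0, 0, -4, 2, 0, 0, 2, 0, 0, 4, 0],
    [0, 2, -2, 0, 2, 2, 0, 0, 2, -2, 0, 0, 2, -2, -2, 2, 0, -2, 2, 0, -2, -2, 2, -2],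
    [2, 0, 0, 2, 0, 0, 2, -2, 0, 0, 2, 2, 0, 0, 4, 0, -2, -4, 0, 2, 0, 0, 0, 0],
    [2, 0, 0, 2, 0, 0, -2, -2, 0, 0, 2, -2, 0, -4, 0, 0, 2, 0, -4, -2, 0, 0, 0, 0],
    [0, -2, 2, 0, -2, 2, 0, 0, 2, -2, 0, 0, -2, 2, 2, 2, 0, 2, -2, 0, -2, -2, 2, -2],
    [-2, 0, 0, 2, 0, 0, -2, -2, 0, 0, -2, 2, 0, 0, 0, 0, -2, 0, 0, -2, -4, 0, 0, 4],
    [2, 0, 0, -2, 0, -4, -2, 2, 0, 0, 2, 2, 0, 0, 0, 0, -2, 0, 0, -2, 0, -4, 0, 0],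
    [2, 0, 0, 2, 0, 0, -2, 2, 0, 0, -2, 2, 0, 0, 0, 4, 2, 0, 0, 2, 0, 0, -4, 0],
    [-2, 0, 0, 2, 0, 0, -2, -2, 0, 0, -2, 2, 0, 0, 0, 0, -2, 0, 0, -2, 4, 0, 0, -4]]

def gen6 : List (List Int) := [
    [2, 2, 0, 0, 2, 2, -2, -2, 2, -2, -2, -2, -2, 2, 2, 0, -2, 0, -2, 0, 0, 0, 2, 0],
    [2, 2, 0, 0, -2, -2, -2, -2, 2, 2, 2, 2, -2, -2, -2, 0, -2, 0, 2, 0, 0, 0, 2, 0],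
    [0, 0, 6, 2, 0, 0, 0, 0, 0, 0, 0, 0, 0, 0, 0, -2, 0, -2, 0, -2, 2, 2, 0, 2],
    [0, 0, 2, -2, 0, 0, 0, 0, 0, 0, 0, 0, 0, 0, 0, -6, 0, 2, 0, 2, -2, -2, 0, -2],
    [2, -2, 0, 0, 2, 2, 2, -2, -2, 2, -2, 2, 2, -2, -2, 0, -2, 0, -2, 0, 0, 0, 2, 0],
    [2, -2, 0, 0, 2, 2, -2, 2, 2, -2, 2, 2, 2, 2, -2, 0, 2, 0, 2, 0, 0, 0, 2, 0],
    [-2, -2, 0, 0, 2, -2, 2, 2, 2, 2, 2, -2, -2, 2, -2, 0, -2, 0, -2, 0, 0, 0, 2, 0],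
    [-2, -2, 0, 0, -2, 2, 2, 2, 2, -2, -2, 2, -2, -2, 2, 0, -2, 0, 2, 0, 0, 0, 2, 0],
    [2, 2, 0, 0, -2, 2, 2, 2, 2, 2, 2, 2, 2, 2, 2, 0, -2, 0, -2, 0, 0, 0, -2, 0],
    [-2, 2, 0, 0, 2, -2, 2, -2, 2, 2, -2, 2, 2, 2, 2, 0, 2, 0, 2, 0, 0, 0, 2, 0],
    [-2, 2, 0, 0, -2, 2, 2, -2, 2, -2, 2, -2, 2, -2, -2, 0, 2, 0, -2, 0, 0, 0, 2, 0],
    [-2, 2, 0, 0, 2, 2, -2, 2, 2, 2, -2, 2, -2, -2, -2, 0, 2, 0, -2, 0, 0, 0, -2, 0],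
    [-2, -2, 0, 0, 2, 2, -2, -2, 2, 2, 2, -2, 2, -2, 2, 0, -2, 0, 2, 0, 0, 0, -2, 0],
    [2, -2, 0, 0, -2, 2, 2, -2, 2, 2, -2, -2, -2, 2, -2, 0, 2, 0, 2, 0, 0, 0, -2, 0],
    [2, -2, 0, 0, -2, -2, -2, 2, 2, 2, -2, -2, 2, -2, 2, 0, 2, 0, -2, 0, 0, 0, 2, 0],
    [0, 0, -2, -6, 0, 0, 0, 0, 0, 0, 0, 0, 0, 0, 0, -2, 0, -2, 0, -2, 2, 2, 0, 2],
    [-2, -2, 0, 0, -2, 2, -2, -2, -2, 2, 2, 2, -2, 2, 2, 0, 2, 0, -2, 0, 0, 0, 2, 0],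
    [0, 0, -2, 2, 0, 0, 0, 0, 0, 0, 0, 0, 0, 0, 0, -2, 0, 6, 0, -2, 2, 2, 0, 2],
    [-2, 2, 0, 0, -2, 2, -2, 2, -2, 2, -2, -2, 2, 2, -2, 0, -2, 0, 2, 0, 0, 0, 2, 0],
    [0, 0, -2, 2, 0, 0, 0, 0, 0, 0, 0, 0, 0, 0, 0, -2, 0, -2, 0, 6, 2, 2, 0, 2],
    [0, 0, 2, -2, 0, 0, 0, 0, 0, 0, 0, 0, 0, 0, 0, 2, 0, 2, 0, 2, 6, -2, 0, -2],
    [0, 0, 2, -2, 0, 0, 0, 0, 0, 0, 0, 0, 0, 0, 0, 2, 0, 2, 0, 2, -2, 6, 0, -2],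
    [2, 2, 0, 0, 2, 2, 2, 2, -2, 2, 2, -2, -2, -2, 2, 0, 2, 0, 2, 0, 0, 0, 2, 0],
    [0, 0, 2, -2, 0, 0, 0, 0, 0, 0, 0, 0, 0, 0, 0, 2, 0, 2, 0, 2, -2, -2, 0, 6]]

def gens : List (List (List Int)) := [gen0, gen1, gen2, gen3, gen4, gen5, gen6]

end H26.SuzSix
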