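import Cfsg.Agent.H97.SchurSporadic
import Cfsg.Agent.H26.CertLin
import Cfsg.Agent.H26.SuzSixGens
import Cfsg.Agent.H26.SuzSixData2

/-! The linear part of the certificate at 2. -/

set_option autoImplicit false
set_option maxRecDepth 100000
set_option Elab.async false

namespace H26.SuzSix

open H97.Co0Code H97.M24x H97.SchurCert H26.CertLin

theorem lin2 : combosLOK data2 vecs2 = true := by decide +kernel

end H26.SuzSix
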