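import Cfsg.Agent.H26.SuzSix
import Cfsg.Agent.H26.SuzSixCert5
import Cfsg.Agent.H26.CyclicCoverSchur
import Cfsg.Agent.H97.SchurMathieu

/-! The Schur multiplier of the Suzuki group is cyclic of order six. -/

set_option autoImplicit false
set_option maxRecDepth 100000

namespace H26.SuzSix

open H97.Co0Code H97.M24x H97.SchurCert

theorem seed_mem : ∀ E ∈ gens, ∃ g : six, code (six.subtype g) = codeE E := by
  intro E hE
  obtain ⟨k, hk, rfl⟩ := List.getElem_of_mem hE
  refine ⟨gS k, ?_⟩
  rw [show six.subtype (gS k) = L k from rfl, code_L, cl, if_pos (show k < 7 from hk),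
    List.getD_eq_getElem _ _ hk]

theorem not_dvd {Γ : Type} [Group Γ] [Finite Γ] (D : Data) [Fact D.p.Prime]
    {prog : List (ℕ × ℕ)} {vecs : List (List ℕ)}
    (h1 : (let S := slp (gens.map codeE) prog; D.syms.all fun v => S.contains v) = true)
    (h2 : rulesOK cm one24 D = true) (h3 : defsOK D = true) (h4 : pcOK D = true)
    (h5 : CertLin.combosLOK D vecs = true) (h6 : sizeOK cm one24 D = true) {M : ℕ}
    (hcard : Nat.card six = D.p ^ D.n * M) (hM : ¬ D.p ∣ M)
    (σ : Γ →* six) (hσ : Cfsg.IsStemExtension σ) : ¬ D.p ∣ Nat.card σ.ker := by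
  simp only [List.all_eq_true, List.contains_iff_mem] at h1
  let C := coding six.subtype six.subtype_injective
  refine not_dvd_card_ker_gen C D (fun v hv => ?_) h2 h3 h4 (CertLin.kill_of_lists h5)
    (CertLin.big_of_size C D h6) hcard hM σ hσ
  exact slp_mem C (seeds := gens.map codeE) (fun w hw => by
    obtain ⟨E, hE, rfl⟩ := List.mem_map.1 hw
    exact seed_mem E hE) prog v (h1 v hv)

theorem six_trivial : Cfsg.HasCyclicSchurMultiplier six 1 := by
  refine H97.hasTrivialMultiplier fun Γ _ _ σ hσ => ?_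
  rw [← Subgroup.card_eq_one]
  by_contra hne
  obtain ⟨p, hp, hdvd⟩ := Nat.exists_prime_and_dvd hne
  haveI := Fact.mk hp
  have hsq := sq_dvd_of_dvd_card_ker σ hσ hdvd
  rw [card_six] at hsq
  have hmem : p ∈ Nat.primeFactorsList 2690072985600 :=
    (Nat.mem_primeFactorsList (by norm_num)).2 ⟨hp, (dvd_pow_self p two_ne_zero).trans hsq⟩
  simp only [Nat.primeFactorsList_ofNat, List.mem_cons, List.not_mem_nil, or_false] at hmem
  have h6 : p = 2 ∨ p = 3 ∨ p = 5 ∨ p = 7 ∨ p = 11 ∨ p = 13 := by omega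
  rcases h6 with rfl | rfl | rfl | rfl | rfl | rfl
  · haveI : Fact data2.p.Prime := ⟨Nat.prime_two⟩
    exact not_dvd data2 syms2 rules2 defs2 pc2 lin2 size2 (M := 164189025)
      (by rw [card_six]; rfl) (by decide) σ hσ hdvd
  · haveI : Fact data3.p.Prime := ⟨Nat.prime_three⟩
    exact not_dvd data3 syms3 rules3 defs3 pc3 lin3 size3 (M := 410009600)
      (by rw [card_six]; rfl) (by decide) σ hσ hdvd
  · haveI : Fact data5.p.Prime := ⟨by show Nat.Prime 5; norm_num⟩
    exact not_dvd data5 syms5 rules5 defs5 pc5 lin5 size5 (M := 107602919424)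
      (by rw [card_six]; rfl) (by decide) σ hσ hdvd
  all_goals norm_num at hsq

theorem hasCyclicSchurMultiplier_Suz : Cfsg.HasCyclicSchurMultiplier Cfsg.Spor.Suz 6 := by
  have hk : IsCyclic proj.ker := by rw [proj_ker, zker]; infer_instance
  exact H26.hasCyclicSchurMultiplier_of_cyclic_cover proj proj_surjective
    (proj_ker ▸ zker_le) (by rw [proj_ker, card_zker]) perfect six_trivial

end H26.SuzSix
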