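import Cfsg.Agent.H26.SuzSixLin2

/-! The symbols at 2 generate a group of order 2^14. -/

set_option autoImplicit false
set_option maxRecDepth 100000
set_option Elab.async false

namespace H26.SuzSix

open H97.Co0Code H97.M24x H97.SchurCert H26.CertLin

theorem size2 : sizeOK cm one24 data2 = true := by decide +kernel

end H26.SuzSix
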