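import Cfsg.Agent.H97.SchurCertDefs

/-! Certificates: the multiplier of the Tits group is trivial. -/

set_option maxRecDepth 20000

namespace H26.TitsSchur

open H97.SchurCert

def subIdx : List ℕ := [2, 3, 4, 5, 6, 8, 9, 10, 19, 20, 21, 25, 26, 27, 28, 29, 30, 34, 35, 36, 45, 46, 47, 49, 50, 51]

def genCodes : List ℕ := [
  235146400079537243786943742490034951418647040220455521777774633145459522468546806470545106017901610117838806752021046984597436428027067309138366488842727832562394409541877705711532405555512114393066242049,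
  156764269444989361018342079907365652285464482024559395803652155457507615763903822439792018657574662686365576604496748786881825103071161408152340702608917388190278157982782185158532216582723513284076503041,
  156764267839010270141953051096197737659372107894792340718693868077274743556560586335720760493641766125976805200627190469620544331840374269891599996410663691985028867790199212285382774130368763548751892481,
  156764267109019782200108265599999493292328109839400676622427995184128221140481616401819231047103117966997449631556972934946901246425312963910981849958281798613927696001853440848350374314061722111111626753]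

def data2 : Data where
  p := 2
  n := 11
  syms := [
    235146400079537243786943742490034951418647040220455521777774633145459522468546806470545106017901610117838806752021046984597436428027067309138366488842727832562394409541877705711532405555512114393066242049,
    226118878115114723720078345556084976739248907036896523037517249196123849844489345717476332119629097791015067724984849738706493247642693125509511381837301833433593643089787043761552695603936646716131908353,
    185868640746561318424341166538352556600670571171293978131471080535242785042242039415187999223181159021135233294562695258115881309657534158843651336672423908040392761964588819991547473085494127273237808845,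
    212489064882498794472972991868704693106270521954958323611994699476823065402621301010985242991507533533149828837034548761798526849287711139048957317163725911842127110538914228414464111669471089830970525869,
    161530000164245833023066523026853860234672767925478755298308352874166205550743462642283828764483481961548676934235483702275406653330450182440057000501366518890418433195483102309949041949694079944567554113,
    194380820142889119403778640053337261094882642189554918721589128281946996245601371496748879584703498410371898319776200622573415724442505852449504927308001604140433061321806834404492456743282056815053898449,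
    166563893240341974415968015498396369690127235097212168137387748866921594589065990879497018669217974994358857452123737140203683344882842681350526268980020811720217369921831435886949545544833256915044663301,
    158468347597139152108029321915477555442399868196705419285966361412309562080663343545112714071855986004129256515455115173484062545520340209336125001326634310627846044318728131275997815899865223413272412161,
    157089620956805718550410331834498452755548383730727748655017777215573837694926134472142824450404164949905701918325741301643232573130481774959622679838851839996338040227796875983060829876881100223843139585,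
    156846259642458625709892304911949213421965457434132554483349989095857294818587409198430242689590987708535326529598955525021313636229555643677475243941484425359305153711816967123351239079818933962910203917,
    156764893149446313030693418211417208305791109777469138727969339484282711842493765386695697564833728295396286356716237265962565502717396792166596750155397969643440090248723676150338965488625539563682529285,
    235146401247522041898225718462174882477925668415724817823267516265924593174258590947885931044437010705590734307319609389346968006657936070325814484379944033935331923575830581811177629760867017405467983873,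
    156764267109019764795778387307814642035252558329949129775107893548197031846795837713578952954970748955983042104397113041551856828507029155403548293856541677868076863169212178036656251791411046026219487233]
  rules := [
    ([0, 0], []),
    ([1, 1], [2]),
    ([2, 2], [9]),
    ([3, 3], [4]),
    ([4, 4], []),
    ([5, 5], [8]),
    ([6, 6], []),
    ([7, 7], []),
    ([8, 8], []),
    ([9, 9], []),
    ([10, 10], []),
    ([1, 0], [0, 1, 3]),
    ([2, 0], [0, 2, 5]),
    ([2, 1], [1, 2]),
    ([3, 0], [0, 3, 4]),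
    ([3, 1], [1, 3, 4, 5, 7, 8, 9]),
    ([3, 2], [2, 3, 6, 7]),
    ([4, 0], [0, 4]),
    ([4, 1], [1, 4, 7, 9]),
    ([4, 2], [2, 4, 8]),
    ([4, 3], [3, 4]),
    ([5, 0], [0, 5, 8]),
    ([5, 1], [1, 5, 6]),
    ([5, 2], [2, 5, 8, 10]),
    ([5, 3], [3, 5, 7, 8, 9]),
    ([5, 4], [4, 5]),
    ([6, 0], [0, 6, 7]),
    ([6, 1], [1, 6, 8, 10]),
    ([6, 2], [2, 6, 9]),
    ([6, 3], [3, 6, 8, 10]),
    ([6, 4], [4, 6, 10]),
    ([6, 5], [5, 6, 9]),
    ([7, 0], [0, 7]),
    ([7, 1], [1, 7, 8]),
    ([7, 2], [2, 7, 9]),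
    ([7, 3], [3, 7, 10]),
    ([7, 4], [4, 7]),
    ([7, 5], [5, 7, 10]),
    ([7, 6], [6, 7]),
    ([8, 0], [0, 8]),
    ([8, 1], [1, 8, 9]),
    ([8, 2], [2, 8]),
    ([8, 3], [3, 8, 10]),
    ([8, 4], [4, 8]),
    ([8, 5], [5, 8]),
    ([8, 6], [6, 8]),
    ([8, 7], [7, 8]),
    ([9, 0], [0, 9, 10]),
    ([9, 1], [1, 9]),
    ([9, 2], [2, 9]),
    ([9, 3], [3, 9]),
    ([9, 4], [4, 9]),
    ([9, 5], [5, 9]),
    ([9, 6], [6, 9]),
    ([9, 7], [7, 9]),
    ([9, 8], [8, 9]),
    ([10, 0], [0, 10]),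
    ([10, 1], [1, 10]),
    ([10, 2], [2, 10]),
    ([10, 3], [3, 10]),
    ([10, 4], [4, 10]),
    ([10, 5], [5, 10]),
    ([10, 6], [6, 10]),
    ([10, 7], [7, 10]),
    ([10, 8], [8, 10]),
    ([10, 9], [9, 10]),
    ([11, 1], [1, 3, 4, 5, 8, 10, 11]),
    ([11, 2, 5, 6, 7, 8, 10], [4, 7, 11]),
    ([11, 3], [1, 4, 8, 9, 11]),
    ([11, 4, 7], [2, 6, 8, 10, 11]),
    ([11, 5, 7, 8, 9, 10], [2, 4, 5, 6, 9, 11]),
    ([11, 7, 9], [6, 7, 8, 9, 11]),
    ([11, 8, 9], [8, 9, 10, 11]),
    ([11, 9], [9, 10, 11]),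
    ([12, 0], [0, 12]),
    ([12, 3], [0, 6, 7, 10, 12]),
    ([12, 4, 7], [4, 7, 12]),
    ([12, 5, 7, 8, 9, 10], [3, 5, 6, 7, 8, 10, 12]),
    ([12, 7, 9], [8, 9, 10, 12]),
    ([12, 9], [4, 8, 9, 10, 12]),
    ([12, 10], [10, 12])]
  defs := [(1, 2), (11, 3), (3, 4), (12, 5), (22, 6), (26, 7), (33, 8), (40, 9), (47, 10)]
  targets := [0, 2, 4, 5, 6, 7, 8, 9, 10, 13, 14, 15, 16, 17, 18, 19, 20, 21, 23, 24, 25, 27, 28, 29, 30, 31, 32, 34, 35, 36, 37, 38, 39, 41, 42, 43, 44, 45, 46, 48, 49, 50, 51, 52, 53, 54, 55, 56, 57, 58, 59, 60, 61, 62, 63, 64, 65]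
  paths := [
    ([2, 1, 0], [(0, 13, true), (1, 12, true), (0, 11, true), (2, 16, true), (5, 37, true), (4, 31, true), (6, 54, true), (7, 8, false), (8, 55, false), (5, 38, false), (6, 45, false), (7, 53, false), (3, 24, false), (4, 29, false), (1, 13, false), (2, 22, false), (0, 12, false), (1, 11, false)]),
    ([3, 1, 0], [(0, 15, true), (6, 47, true), (5, 39, true), (4, 32, true), (3, 21, true), (2, 17, true), (1, 14, true), (0, 11, true), (2, 3, true), (2, 4, true), (4, 46, true), (5, 8, true), (5, 8, false), (6, 55, false), (2, 3, false), (3, 24, false), (4, 42, false), (5, 9, false), (4, 7, false), (5, 46, false), (6, 54, false), (3, 4, false), (4, 25, false), (5, 36, false), (6, 43, false), (7, 51, false), (1, 15, false), (2, 18, false), (0, 14, false), (1, 11, false)]),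
    ([3, 2, 0], [(0, 16, true), (3, 32, true), (2, 26, true), (1, 14, true), (0, 12, true), (2, 24, true), (6, 51, true), (5, 43, true), (4, 36, true), (3, 25, true), (7, 53, true), (6, 45, true), (5, 38, true), (8, 54, true), (7, 46, true), (6, 7, true), (7, 54, true), (6, 46, true), (9, 10, false), (7, 55, false), (8, 64, false), (6, 54, false), (4, 31, false), (5, 37, false), (6, 44, false), (7, 61, false), (6, 64, false), (5, 63, false), (3, 30, false), (4, 36, false), (1, 16, false), (2, 19, false), (0, 14, false), (1, 12, false)]),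
    ([3, 2, 1], [(0, 16, true), (3, 33, true), (2, 27, true), (1, 15, true), (0, 13, true), (7, 53, true), (6, 45, true), (5, 38, true), (8, 55, true), (7, 8, true), (8, 63, true), (7, 54, true), (6, 7, true), (7, 64, true), (6, 55, true), (7, 65, false), (6, 64, false), (6, 9, false), (7, 65, false), (6, 7, false), (7, 54, false), (8, 63, false), (7, 8, false), (8, 55, false), (9, 10, false), (7, 55, false), (8, 64, false), (6, 54, false), (4, 31, false), (5, 37, false), (6, 44, false), (7, 61, false), (6, 64, false), (5, 63, false), (3, 30, false), (4, 36, false), (1, 16, false), (2, 19, false), (3, 23, false), (4, 34, false), (5, 41, false), (6, 49, false), (0, 15, false), (1, 13, false)]),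
    ([4, 1, 0], [(0, 18, true), (3, 47, true), (2, 32, true), (1, 17, true), (0, 11, true), (5, 65, false), (2, 20, false), (3, 35, false), (4, 50, false), (1, 18, false), (0, 17, false), (1, 11, false)]),
    ([4, 2, 0], [(0, 19, true), (2, 39, true), (1, 17, true), (0, 12, true), (2, 25, true), (3, 44, false), (1, 19, false), (0, 17, false), (1, 12, false)]),
    ([4, 2, 1], [(0, 19, true), (2, 40, true), (1, 18, true), (0, 13, true), (4, 55, true), (5, 9, true), (5, 9, false), (3, 46, false), (1, 19, false), (2, 34, false), (3, 49, false), (0, 18, false), (1, 13, false)]),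
    ([4, 3, 1], [(0, 20, true), (1, 18, true), (0, 15, true), (6, 51, true), (5, 43, true), (4, 36, true), (3, 25, true), (2, 4, true), (5, 54, true), (4, 46, true), (3, 7, true), (4, 9, true), (4, 9, false), (3, 55, false), (3, 7, false), (4, 54, false), (5, 10, false), (4, 65, false), (2, 37, false), (3, 52, false), (4, 61, false), (2, 4, false), (3, 36, false), (4, 51, false), (5, 60, false), (4, 65, false), (1, 20, false), (2, 35, false), (3, 50, false), (0, 18, false), (1, 15, false)]),
    ([4, 3, 2], [(0, 20, true), (1, 19, true), (0, 16, true), (3, 36, true), (2, 30, true), (4, 63, true), (5, 64, true), (4, 46, false), (5, 63, false), (3, 45, false), (4, 62, false), (1, 20, false), (2, 42, false), (0, 19, false), (1, 16, false)]),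
    ([5, 1, 0], [(0, 22, true), (2, 26, true), (1, 21, true), (0, 11, true), (4, 45, true), (5, 46, true), (7, 9, false), (8, 10, false), (6, 55, false), (7, 64, false), (6, 8, false), (7, 55, false), (4, 38, false), (5, 45, false), (6, 53, false), (2, 24, false), (3, 29, false), (4, 42, false), (5, 50, false), (1, 22, false), (2, 40, false), (0, 21, false), (1, 11, false)]),
    ([5, 2, 0], [(0, 23, true), (3, 56, true), (2, 39, true), (1, 21, true), (0, 12, true), (2, 5, true), (2, 8, true), (2, 5, false), (3, 61, false), (3, 8, false), (4, 64, false), (1, 23, false), (2, 41, false), (0, 21, false), (1, 12, false)]),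
    ([5, 2, 1], [(0, 23, true), (3, 57, true), (2, 40, true), (1, 22, true), (0, 13, true), (5, 65, false), (3, 45, false), (4, 62, false), (1, 23, false), (2, 28, false), (0, 22, false), (1, 13, false)]),
    ([5, 3, 0], [(0, 24, true), (4, 47, true), (3, 39, true), (2, 32, true), (1, 21, true), (0, 14, true), (4, 46, true), (5, 8, true), (2, 25, false), (3, 36, false), (4, 51, false), (5, 60, false), (4, 8, false), (5, 55, false), (1, 24, false), (2, 42, false), (0, 21, false), (1, 14, false)]),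
    ([5, 3, 1], [(0, 24, true), (4, 48, true), (3, 40, true), (2, 33, true), (1, 22, true), (0, 15, true), (6, 52, true), (5, 44, true), (4, 37, true), (3, 5, true), (3, 46, true), (5, 64, true), (4, 8, true), (4, 65, true), (5, 62, true), (4, 53, true), (3, 38, true), (6, 63, true), (5, 54, true), (4, 7, true), (5, 64, true), (4, 55, true), (6, 64, true), (5, 55, true), (4, 8, true), (5, 65, true), (4, 9, true), (4, 65, true), (4, 65, false), (4, 8, false), (5, 64, false), (4, 7, false), (5, 46, false), (6, 63, false), (6, 9, false), (7, 65, false), (4, 46, false), (5, 54, false), (3, 45, false), (3, 5, false), (4, 31, false), (5, 37, false), (6, 52, false), (7, 10, false), (6, 65, false), (5, 63, false), (2, 25, false), (3, 30, false), (4, 36, false), (5, 51, false), (6, 60, false), (5, 8, false), (6, 55, false), (3, 38, false), (4, 45, false), (5, 53, false), (1, 24, false), (2, 29, false), (0, 22, false), (1, 15, false)]),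
    ([5, 3, 2], [(0, 24, true), (4, 49, true), (3, 41, true), (2, 34, true), (1, 23, true), (0, 16, true), (3, 37, true), (2, 31, true), (4, 54, true), (6, 64, true), (5, 55, true), (7, 10, true), (6, 54, true), (5, 46, true), (4, 7, true), (5, 9, true), (4, 8, true), (4, 7, false), (5, 54, false), (3, 38, false), (4, 53, false), (5, 10, false), (4, 8, false), (5, 55, false), (1, 24, false), (2, 42, false), (3, 59, false), (0, 23, false), (1, 16, false)]),
    ([5, 4, 0], [(0, 25, true), (1, 21, true), (0, 17, true), (1, 25, false), (2, 43, false), (0, 21, false), (1, 17, false)]),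
    ([5, 4, 1], [(0, 25, true), (1, 22, true), (0, 18, true), (3, 52, true), (2, 37, true), (4, 65, true), (5, 62, true), (4, 53, true), (3, 38, true), (5, 65, false), (4, 63, false), (1, 25, false), (2, 30, false), (0, 22, false), (1, 18, false)]),
    ([5, 4, 2], [(0, 25, true), (1, 23, true), (0, 19, true), (2, 44, true), (3, 8, true), (3, 8, false), (4, 64, false), (1, 25, false), (2, 43, false), (3, 60, false), (0, 23, false), (1, 19, false)]),
    ([5, 4, 3], [(0, 25, true), (1, 24, true), (0, 20, true), (1, 25, false), (2, 36, false), (3, 43, false), (4, 51, false), (0, 24, false), (1, 20, false)]),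
    ([6, 1, 0], [(0, 27, true), (3, 56, true), (2, 39, true), (1, 26, true), (0, 11, true), (6, 10, false), (4, 46, false), (5, 63, false), (2, 29, false), (3, 35, false), (4, 59, false), (4, 8, false), (5, 64, false), (3, 46, false), (4, 63, false), (1, 27, false), (2, 33, false), (0, 26, false), (1, 11, false)]),
    ([6, 2, 0], [(0, 28, true), (2, 47, true), (1, 26, true), (0, 12, true), (4, 54, false), (2, 31, false), (3, 37, false), (4, 9, false), (3, 54, false), (1, 28, false), (2, 34, false), (0, 26, false), (1, 12, false)]),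
    ([6, 2, 1], [(0, 28, true), (2, 48, true), (1, 27, true), (0, 13, true), (4, 65, true), (3, 55, false), (1, 28, false), (2, 41, false), (3, 58, false), (0, 27, false), (1, 13, false)]),
    ([6, 3, 0], [(0, 29, true), (3, 56, true), (2, 39, true), (1, 26, true), (0, 14, true), (5, 64, false), (4, 63, false), (2, 30, false), (3, 36, false), (4, 43, false), (5, 10, false), (3, 46, false), (4, 63, false), (1, 29, false), (2, 35, false), (0, 26, false), (1, 14, false)]),
    ([6, 3, 1], [(0, 29, true), (3, 57, true), (2, 40, true), (1, 27, true), (0, 15, true), (6, 53, true), (5, 45, true), (4, 38, true), (7, 55, true), (6, 8, true), (7, 64, true), (6, 55, true), (8, 65, true), (7, 9, true), (7, 10, true), (7, 9, false), (6, 55, false), (5, 54, false), (3, 31, false), (4, 10, false), (2, 30, false), (3, 60, false), (3, 10, false), (3, 8, false), (4, 64, false), (1, 29, false), (2, 42, false), (3, 59, false), (0, 27, false), (1, 15, false)]),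
    ([6, 3, 2], [(0, 29, true), (3, 58, true), (2, 41, true), (1, 28, true), (0, 16, true), (3, 38, true), (2, 6, true), (3, 55, true), (2, 46, false), (3, 54, false), (4, 63, false), (2, 6, false), (3, 45, false), (4, 53, false), (5, 62, false), (4, 65, false), (1, 29, false), (2, 50, false), (0, 28, false), (1, 16, false)]),
    ([6, 4, 0], [(0, 30, true), (2, 56, true), (1, 26, true), (0, 17, true), (3, 63, false), (1, 30, false), (2, 36, false), (0, 26, false), (1, 17, false)]),
    ([6, 4, 1], [(0, 30, true), (2, 57, true), (1, 27, true), (0, 18, true), (3, 53, true), (2, 38, true), (4, 55, true), (6, 10, true), (3, 46, false), (4, 10, false), (3, 64, false), (1, 30, false), (2, 43, false), (3, 60, false), (0, 27, false), (1, 18, false)]),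
    ([6, 4, 2], [(0, 30, true), (2, 58, true), (1, 28, true), (0, 19, true), (2, 45, true), (3, 55, false), (4, 64, false), (3, 65, false), (1, 30, false), (2, 51, false), (0, 28, false), (1, 19, false)]),
    ([6, 4, 3], [(0, 30, true), (2, 59, true), (1, 29, true), (0, 20, true), (4, 10, true), (4, 10, false), (3, 64, false), (1, 30, false), (2, 43, false), (3, 60, false), (0, 29, false), (1, 20, false)]),
    ([6, 5, 0], [(0, 31, true), (2, 47, true), (1, 26, true), (0, 21, true), (2, 45, true), (3, 46, true), (4, 55, false), (5, 64, false), (3, 54, false), (1, 31, false), (2, 37, false), (0, 26, false), (1, 21, false)]),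
    ([6, 5, 1], [(0, 31, true), (2, 48, true), (1, 27, true), (0, 22, true), (2, 6, true), (3, 65, true), (2, 6, false), (3, 45, false), (4, 53, false), (5, 62, false), (3, 55, false), (1, 31, false), (2, 44, false), (3, 61, false), (0, 27, false), (1, 22, false)]),
    ([6, 5, 2], [(0, 31, true), (2, 49, true), (1, 28, true), (0, 23, true), (3, 62, true), (2, 45, true), (4, 65, true), (5, 65, true), (4, 9, true), (3, 9, false), (1, 31, false), (2, 52, false), (0, 28, false), (1, 23, false)]),
    ([6, 5, 3], [(0, 31, true), (2, 50, true), (1, 29, true), (0, 24, true), (4, 53, true), (3, 45, true), (2, 38, true), (5, 55, true), (4, 8, true), (5, 65, true), (4, 9, true), (4, 9, false), (5, 65, false), (4, 8, false), (5, 55, false), (6, 64, false), (3, 46, false), (4, 54, false), (5, 63, false), (3, 55, false), (1, 31, false), (2, 44, false), (3, 61, false), (0, 29, false), (1, 24, false)]),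
    ([6, 5, 4], [(0, 31, true), (2, 51, true), (1, 30, true), (0, 25, true), (3, 65, true), (1, 31, false), (2, 61, false), (0, 30, false), (1, 25, false)]),
    ([7, 1, 0], [(0, 33, true), (2, 39, true), (1, 32, true), (0, 11, true), (5, 10, false), (4, 64, false), (2, 35, false), (3, 42, false), (1, 33, false), (0, 32, false), (1, 11, false)]),
    ([7, 2, 0], [(0, 34, true), (2, 47, true), (1, 32, true), (0, 12, true), (4, 65, false), (2, 37, false), (3, 52, false), (1, 34, false), (0, 32, false), (1, 12, false)]),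
    ([7, 2, 1], [(0, 34, true), (2, 48, true), (1, 33, true), (0, 13, true), (3, 55, false), (1, 34, false), (2, 41, false), (0, 33, false), (1, 13, false)]),
    ([7, 3, 0], [(0, 35, true), (2, 56, true), (1, 32, true), (0, 14, true), (2, 36, false), (3, 60, false), (1, 35, false), (0, 32, false), (1, 14, false)]),
    ([7, 3, 1], [(0, 35, true), (2, 57, true), (1, 33, true), (0, 15, true), (6, 54, true), (5, 46, true), (4, 7, true), (5, 55, true), (4, 8, true), (4, 65, false), (4, 8, false), (5, 64, false), (4, 7, false), (5, 46, false), (6, 63, false), (5, 64, false), (3, 37, false), (4, 44, false), (2, 36, false), (3, 43, false), (4, 10, false), (3, 64, false), (1, 35, false), (2, 42, false), (0, 33, false), (1, 15, false)]),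
    ([7, 3, 2], [(0, 35, true), (2, 58, true), (1, 34, true), (0, 16, true), (3, 7, true), (3, 7, false), (4, 54, false), (5, 63, false), (2, 38, false), (3, 53, false), (4, 62, false), (3, 65, false), (1, 35, false), (2, 50, false), (0, 34, false), (1, 16, false)]),
    ([7, 4, 1], [(0, 36, true), (1, 33, true), (0, 18, true), (3, 54, true), (2, 7, true), (2, 55, true), (2, 7, false), (3, 46, false), (1, 36, false), (2, 43, false), (0, 33, false), (1, 18, false)]),
    ([7, 4, 2], [(0, 36, true), (1, 34, true), (0, 19, true), (2, 46, true), (3, 55, false), (1, 36, false), (2, 51, false), (0, 34, false), (1, 19, false)]),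
    ([7, 4, 3], [(0, 36, true), (1, 35, true), (0, 20, true), (1, 36, false), (2, 60, false), (0, 35, false), (1, 20, false)]),
    ([7, 5, 0], [(0, 37, true), (2, 56, true), (1, 32, true), (0, 21, true), (2, 46, true), (3, 64, false), (1, 37, false), (0, 32, false), (1, 21, false)]),
    ([1, 1, 0], [(0, 1, true), (0, 12, true), (3, 9, false), (4, 10, false), (3, 8, false), (4, 55, false), (5, 64, false), (3, 7, false), (4, 46, false), (5, 54, false), (2, 4, false), (2, 3, false), (3, 20, false), (4, 24, false), (5, 35, false), (6, 42, false), (7, 50, false), (1, 1, false), (2, 15, false), (0, 11, false), (1, 11, false)]),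
    ([1, 0, 0], [(0, 11, true), (2, 14, true), (1, 11, true), (0, 0, true), (1, 3, true), (1, 4, true), (1, 0, false)]),
    ([1, 1, 1], [(0, 1, true), (0, 13, true), (1, 1, false)]),
    ([2, 2, 0], [(0, 2, true), (0, 47, true), (1, 8, false), (1, 5, false), (2, 44, false), (3, 52, false), (4, 61, false), (2, 55, false), (1, 52, false), (1, 2, false), (2, 23, false), (0, 12, false), (1, 12, false)]),
    ([2, 0, 0], [(0, 12, true), (2, 21, true), (1, 12, true), (0, 0, true), (1, 5, true), (1, 8, true), (1, 0, false)]),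
    ([3, 3, 0], [(0, 3, true), (0, 17, true), (1, 4, false), (1, 3, false), (2, 20, false), (0, 14, false), (1, 14, false)]),
    ([3, 0, 0], [(0, 14, true), (2, 17, true), (1, 14, true), (0, 0, true), (1, 4, true), (1, 0, false)]),
    ([3, 3, 2], [(0, 3, true), (0, 19, true), (2, 7, false), (3, 46, false), (2, 6, false), (3, 38, false), (4, 45, false), (5, 10, false), (3, 46, false), (4, 63, false), (1, 3, false), (2, 29, false), (3, 35, false), (0, 16, false), (1, 16, false)]),
    ([3, 2, 2], [(0, 16, true), (3, 34, true), (2, 28, true), (1, 16, true), (0, 2, true), (0, 50, true), (1, 53, true), (2, 54, true), (3, 53, true), (2, 38, true), (1, 6, true), (2, 9, true), (1, 7, true), (1, 2, false)]),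
    ([11, 2, 5, 6, 7, 8, 10, 2, 5, 6, 7, 8, 10], [(0, 67, true), (2, 67, true), (1, 36, true), (0, 4, true), (0, 7, true), (1, 10, false), (1, 8, false), (2, 64, false), (1, 7, false), (2, 46, false), (3, 63, false), (1, 6, false), (2, 38, false), (3, 45, false), (4, 62, false), (4, 9, false), (5, 65, false), (2, 46, false), (3, 54, false), (1, 45, false), (1, 5, false), (2, 31, false), (3, 37, false), (4, 52, false), (5, 10, false), (4, 8, false), (5, 55, false), (6, 64, false), (5, 65, false), (3, 46, false), (4, 63, false), (4, 9, false), (5, 65, false), (2, 45, false), (3, 53, false), (4, 62, false), (2, 55, false), (1, 52, false), (1, 2, false), (2, 23, false), (3, 28, false), (4, 34, false), (5, 41, false), (6, 58, false)]),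
    ([11, 4, 7, 1], [(0, 69, true), (4, 66, true), (3, 57, true), (2, 40, true), (1, 27, true), (0, 13, true), (4, 64, true), (3, 8, true), (3, 65, true), (4, 10, true), (3, 50, true), (2, 29, true), (5, 65, true), (6, 60, true), (5, 51, true), (4, 43, true), (3, 30, true), (5, 64, true), (6, 65, true), (7, 10, true), (6, 52, true), (5, 44, true), (4, 31, true), (6, 55, true), (7, 9, true), (6, 8, true), (6, 9, false), (7, 10, false), (6, 65, false), (6, 8, false), (7, 64, false), (7, 9, false), (8, 65, false), (6, 55, false), (7, 64, false), (6, 7, false), (7, 54, false), (8, 63, false), (5, 38, false), (6, 53, false), (7, 62, false), (6, 8, false), (7, 55, false), (5, 6, false), (6, 38, false), (7, 45, false), (8, 53, false), (9, 10, false), (7, 55, false), (8, 64, false), (7, 8, false), (8, 55, false), (9, 10, false), (7, 55, false), (8, 64, false), (6, 54, false), (4, 31, false), (5, 37, false), (6, 44, false), (7, 61, false), (6, 64, false), (5, 63, false), (3, 30, false), (4, 36, false),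 (1, 16, false), (2, 19, false), (3, 23, false), (4, 41, false), (5, 58, false), (17, 73, false), (14, 72, false), (10, 71, false), (6, 69, false), (0, 66, false), (3, 7, true), (3, 55, true), (4, 9, true), (3, 55, false), (3, 7, false), (4, 54, false), (1, 18, false), (2, 33, false)]),
    ([11, 5, 7, 8, 9, 10, 3], [(0, 70, true), (5, 68, true), (4, 48, true), (3, 27, true), (2, 22, true), (1, 18, true), (0, 13, true), (4, 52, true), (3, 37, true), (5, 65, true), (6, 62, true), (5, 53, true), (4, 38, true), (7, 62, true), (6, 53, true), (5, 38, true), (4, 6, true), (6, 64, true), (5, 55, true), (7, 10, true), (6, 9, true), (5, 43, true), (4, 36, true), (3, 25, true), (2, 4, true), (4, 8, true), (5, 10, false), (4, 65, false), (4, 9, false), (4, 8, false), (5, 55, false), (3, 6, false), (4, 9, false), (3, 53, false), (2, 52, false), (2, 4, false), (3, 51, false), (3, 8, false), (1, 19, false), (2, 41, false), (3, 49, false), (16, 73, false), (13, 72, false), (9, 71, false), (4, 70, false),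 (0, 68, false), (6, 63, true), (5, 54, true), (4, 46, true), (3, 7, true), (5, 65, true), (4, 9, true), (4, 64, true), (3, 8, true), (3, 65, true), (4, 65, true), (3, 9, true), (3, 9, false), (4, 10, false), (3, 8, false), (4, 55, false), (5, 64, false), (3, 7, false), (4, 46, false), (5, 54, false), (1, 24, false), (2, 35, false), (3, 42, false), (4, 50, false), (5, 59, false)]),
    ([12, 3, 0], [(0, 75, true), (4, 74, true), (3, 56, true), (2, 32, true), (1, 26, true), (0, 0, true), (1, 7, true), (1, 9, false), (1, 8, false), (2, 55, false), (3, 10, false), (2, 65, false), (1, 64, false), (0, 4, false), (1, 30, false), (2, 43, false), (3, 51, false), (4, 60, false), (2, 7, false), (3, 10, false), (2, 63, false), (0, 30, false), (1, 36, false), (2, 60, false), (0, 0, false), (10, 79, false), (7, 78, false), (5, 76, false), (1, 75, false), (0, 74, false), (4, 7, true), (4, 9, true), (1, 14, false)]),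
    ([12, 3, 3], [(0, 75, true), (4, 75, true), (3, 56, true), (2, 32, true), (1, 26, true), (0, 0, true), (1, 7, true), (1, 62, true), (0, 6, true), (0, 63, true), (1, 10, true), (1, 10, false), (1, 9, false), (2, 65, false), (1, 8, false), (2, 55, false), (3, 64, false), (0, 4, false), (1, 36, false), (2, 43, false), (3, 51, false), (4, 60, false), (5, 79, false), (2, 78, false), (0, 76, false), (2, 7, true), (2, 9, true), (1, 3, false)]),
    ([12, 4, 7, 3], [(0, 76, true), (2, 75, true), (1, 32, true), (0, 17, true), (2, 38, true), (3, 7, true), (3, 7, false), (4, 10, false), (3, 63, false), (1, 30, false), (2, 36, false), (3, 60, false), (6, 80, false), (4, 76, false), (0, 75, false), (1, 20, false), (2, 35, false)]),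
    ([12, 5, 7, 8, 9, 10, 4, 7], [(0, 77, true), (6, 76, true), (5, 60, true), (4, 43, true), (3, 36, true), (2, 30, true), (1, 25, true), (4, 63, true), (5, 64, true), (6, 10, true), (5, 46, true), (4, 7, true), (5, 10, false), (4, 7, false), (3, 38, false), (4, 10, false), (2, 37, false), (3, 61, false), (0, 20, false), (1, 35, false), (8, 80, false), (2, 77, false), (0, 76, false), (2, 37, true), (4, 63, true), (3, 7, true), (3, 64, true), (4, 65, true), (5, 10, true), (3, 7, false), (4, 46, false), (5, 54, false), (6, 63, false), (1, 25, false), (2, 36, false), (3, 43, false), (4, 51, false), (5, 60, false)])]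
  combos := [
    [(7, 1), (8, 1), (11, 1), (12, 1), (14, 1), (15, 1), (16, 1), (17, 1), (21, 1), (22, 1), (23, 1), (25, 1), (27, 1), (30, 1), (31, 1), (33, 1), (35, 1), (37, 1), (42, 1), (43, 1), (45, 1), (50, 1), (52, 1), (56, 1), (57, 1), (58, 1), (59, 1)],
    [(2, 1), (4, 1), (5, 1), (7, 1), (9, 1), (10, 1), (11, 1), (12, 1), (16, 1), (17, 1), (18, 1), (20, 1), (21, 1), (22, 1), (23, 1), (24, 1), (25, 1), (26, 1), (27, 1), (28, 1), (30, 1), (37, 1), (38, 1), (41, 1), (47, 1), (49, 1), (51, 1), (53, 1), (58, 1), (59, 1)],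
    [(4, 1), (5, 1), (7, 1), (10, 1), (17, 1), (18, 1), (21, 1), (24, 1), (27, 1), (33, 1), (35, 1), (36, 1), (39, 1), (40, 1), (42, 1), (43, 1), (49, 1), (58, 1), (59, 1)],
    [(0, 1), (4, 1), (8, 1), (10, 1), (11, 1), (12, 1), (17, 1), (20, 1), (22, 1), (25, 1), (27, 1), (28, 1), (31, 1), (33, 1), (34, 1), (36, 1), (40, 1), (41, 1), (43, 1), (47, 1), (49, 1), (50, 1), (52, 1), (54, 1), (55, 1)],
    [(2, 1), (6, 1), (7, 1), (8, 1), (9, 1), (10, 1), (12, 1), (13, 1), (15, 1), (16, 1), (19, 1), (20, 1), (22, 1), (23, 1), (24, 1), (26, 1), (27, 1), (29, 1), (30, 1), (31, 1), (32, 1), (33, 1), (35, 1), (40, 1), (41, 1), (42, 1), (43, 1), (51, 1)],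
    [(2, 1), (4, 1), (6, 1), (9, 1), (11, 1), (13, 1), (19, 1), (24, 1), (26, 1), (27, 1), (28, 1), (31, 1), (33, 1), (34, 1), (35, 1), (36, 1), (37, 1), (40, 1), (49, 1), (50, 1), (51, 1), (52, 1)],
    [(5, 1), (8, 1), (10, 1), (13, 1), (14, 1), (16, 1), (18, 1), (19, 1), (20, 1), (21, 1), (23, 1), (24, 1), (26, 1), (27, 1), (28, 1), (29, 1), (31, 1), (33, 1), (34, 1), (37, 1), (39, 1), (40, 1), (42, 1), (43, 1)],
    [(5, 1), (6, 1), (7, 1), (8, 1), (17, 1), (20, 1), (21, 1), (23, 1), (27, 1), (28, 1), (29, 1), (31, 1), (32, 1), (34, 1), (36, 1), (38, 1), (41, 1)],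
    [(8, 1), (14, 1), (17, 1), (18, 1), (20, 1), (21, 1), (22, 1), (24, 1), (25, 1), (26, 1), (27, 1), (28, 1), (31, 1), (34, 1), (35, 1), (36, 1), (37, 1), (38, 1), (39, 1), (43, 1)],
    [(46, 1)],
    [(4, 1), (5, 1), (7, 1), (10, 1), (17, 1), (18, 1), (21, 1), (24, 1), (27, 1), (33, 1), (35, 1), (36, 1), (39, 1), (40, 1), (42, 1), (43, 1), (45, 1), (49, 1), (58, 1), (59, 1)],
    [(2, 1), (4, 1), (5, 1), (6, 1), (7, 1), (8, 1), (11, 1), (12, 1), (17, 1), (18, 1), (19, 1), (22, 1), (23, 1), (27, 1), (31, 1), (32, 1), (37, 1), (39, 1), (40, 1), (41, 1), (43, 1), (44, 1), (50, 1), (51, 1), (52, 1), (58, 1), (59, 1)],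
    [(0, 1), (6, 1), (9, 1), (14, 1), (15, 1), (16, 1), (17, 1), (18, 1), (22, 1), (24, 1), (25, 1), (26, 1), (27, 1), (28, 1), (29, 1), (34, 1), (35, 1), (38, 1), (40, 1), (42, 1)],
    [(4, 1), (5, 1), (7, 1), (10, 1), (17, 1), (18, 1), (21, 1), (24, 1), (27, 1), (33, 1), (35, 1), (36, 1), (39, 1), (40, 1), (42, 1), (43, 1), (49, 1), (50, 1), (58, 1), (59, 1)],
    [(0, 1), (1, 1), (2, 1), (4, 1), (6, 1), (7, 1), (10, 1), (14, 1), (15, 1), (17, 1), (18, 1), (19, 1), (23, 1), (24, 1), (26, 1), (27, 1), (31, 1), (34, 1), (35, 1), (36, 1), (38, 1), (39, 1), (41, 1), (47, 1), (48, 1), (49, 1), (50, 1), (51, 1), (54, 1), (55, 1), (58, 1), (59, 1)],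
    [(5, 1), (8, 1), (11, 1), (13, 1), (15, 1), (16, 1), (20, 1), (21, 1), (22, 1), (24, 1), (25, 1), (27, 1), (32, 1), (33, 1), (35, 1), (37, 1), (38, 1), (39, 1), (40, 1), (41, 1), (43, 1), (51, 1), (52, 1)],
    [(49, 1), (50, 1)],
    [(0, 1), (4, 1), (5, 1), (11, 1), (12, 1), (13, 1), (14, 1), (16, 1), (17, 1), (18, 1), (19, 1), (21, 1), (22, 1), (23, 1), (24, 1), (25, 1), (26, 1), (29, 1), (36, 1), (37, 1), (39, 1), (41, 1), (42, 1), (47, 1), (48, 1), (49, 1), (50, 1), (52, 1), (54, 1), (55, 1)],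
    [(0, 1), (4, 1), (7, 1), (11, 1), (12, 1), (13, 1), (16, 1), (17, 1), (19, 1), (20, 1), (21, 1), (22, 1), (23, 1), (26, 1), (27, 1), (28, 1), (31, 1), (34, 1), (36, 1), (37, 1), (39, 1), (40, 1), (41, 1), (42, 1), (43, 1), (49, 1), (50, 1), (52, 1), (54, 1), (55, 1)],
    [(6, 1), (9, 1), (14, 1), (15, 1), (16, 1), (18, 1), (19, 1), (23, 1), (24, 1), (26, 1), (27, 1), (28, 1), (29, 1), (34, 1), (35, 1), (37, 1)],
    [(5, 1), (8, 1), (10, 1), (14, 1), (15, 1), (16, 1), (20, 1), (21, 1), (25, 1), (28, 1), (29, 1), (31, 1), (32, 1), (36, 1), (39, 1), (42, 1)],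
    [(0, 1), (3, 1), (4, 1), (5, 1), (7, 1), (8, 1), (12, 1), (15, 1), (19, 1), (20, 1), (21, 1), (22, 1), (23, 1), (25, 1), (28, 1), (33, 1), (37, 1), (49, 1), (50, 1), (51, 1), (54, 1), (55, 1)],
    [(4, 1), (5, 1), (10, 1), (11, 1), (12, 1), (15, 1), (16, 1), (17, 1), (18, 1), (22, 1), (24, 1), (25, 1), (29, 1), (32, 1), (35, 1), (37, 1), (38, 1), (39, 1), (40, 1), (42, 1), (49, 1), (50, 1)],
    [(4, 1), (5, 1), (7, 1), (12, 1), (13, 1), (16, 1), (17, 1), (21, 1), (22, 1), (23, 1), (24, 1), (25, 1), (27, 1), (28, 1), (29, 1), (33, 1), (34, 1), (37, 1), (38, 1), (39, 1), (40, 1), (42, 1), (43, 1), (49, 1), (50, 1)],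
    [(4, 1), (7, 1), (8, 1), (10, 1), (12, 1), (14, 1), (17, 1), (18, 1), (20, 1), (25, 1), (26, 1), (28, 1), (31, 1), (37, 1), (38, 1), (43, 1), (49, 1), (50, 1)],
    [(15, 1), (16, 1), (23, 1), (27, 1), (28, 1), (29, 1), (32, 1), (33, 1), (35, 1), (37, 1), (38, 1), (39, 1), (40, 1), (42, 1), (43, 1)],
    [(4, 1), (5, 1), (7, 1), (8, 1), (10, 1), (14, 1), (18, 1), (20, 1), (22, 1), (25, 1), (26, 1), (28, 1), (31, 1), (34, 1), (37, 1), (38, 1), (41, 1), (49, 1), (50, 1)],
    [(5, 1), (6, 1), (7, 1), (8, 1), (14, 1), (17, 1), (20, 1), (21, 1), (22, 1), (24, 1), (25, 1), (28, 1), (33, 1), (35, 1), (36, 1), (37, 1), (41, 1), (43, 1)],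
    [(4, 1), (7, 1), (8, 1), (12, 1), (15, 1), (17, 1), (21, 1), (22, 1), (32, 1), (35, 1), (36, 1), (37, 1), (39, 1), (41, 1), (49, 1), (50, 1)],
    [(5, 1), (7, 1), (8, 1), (15, 1), (16, 1), (18, 1), (32, 1), (34, 1), (37, 1), (40, 1), (41, 1), (43, 1)],
    [(14, 1), (15, 1), (16, 1), (20, 1), (22, 1), (24, 1), (25, 1), (28, 1), (31, 1), (34, 1), (39, 1), (40, 1), (42, 1)],
    [(4, 1), (5, 1), (8, 1), (10, 1), (12, 1), (14, 1), (17, 1), (20, 1), (21, 1), (22, 1), (24, 1), (26, 1), (28, 1), (30, 1), (31, 1), (35, 1), (38, 1), (40, 1), (41, 1), (49, 1), (50, 1)],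
    [(5, 1), (7, 1), (10, 1), (15, 1), (16, 1), (17, 1), (18, 1), (22, 1), (24, 1), (27, 1), (40, 1)],
    [(15, 1), (18, 1), (21, 1), (24, 1), (27, 1), (36, 1), (37, 1), (39, 1), (42, 1), (43, 1)],
    [(4, 1), (7, 1), (8, 1), (10, 1), (12, 1), (15, 1), (16, 1), (17, 1), (18, 1), (21, 1), (24, 1), (26, 1), (27, 1), (29, 1), (36, 1), (38, 1), (39, 1), (41, 1), (43, 1), (49, 1), (50, 1)],
    [(15, 1)],
    [(5, 1), (7, 1), (8, 1), (14, 1), (17, 1), (18, 1), (20, 1), (21, 1), (22, 1), (24, 1), (25, 1), (27, 1), (28, 1), (29, 1), (31, 1), (32, 1), (36, 1), (39, 1), (40, 1), (42, 1)],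
    [(5, 1), (7, 1), (8, 1), (15, 1), (16, 1), (18, 1), (21, 1), (27, 1), (32, 1), (34, 1), (36, 1), (40, 1), (42, 1)],
    [(14, 1), (16, 1), (20, 1), (21, 1), (22, 1), (24, 1), (25, 1), (27, 1), (28, 1), (29, 1), (31, 1), (34, 1), (36, 1), (39, 1), (41, 1), (42, 1)],
    [(5, 1), (7, 1), (8, 1), (14, 1), (15, 1), (18, 1), (20, 1), (22, 1), (25, 1), (28, 1), (29, 1), (31, 1), (32, 1), (36, 1), (40, 1), (41, 1)],
    [(14, 1), (16, 1), (17, 1), (20, 1), (21, 1), (22, 1), (24, 1), (25, 1), (28, 1), (32, 1), (33, 1), (34, 1), (35, 1), (36, 1), (40, 1), (41, 1)],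
    [(4, 1), (5, 1), (8, 1), (10, 1), (12, 1), (15, 1), (16, 1), (18, 1), (21, 1), (24, 1), (26, 1), (27, 1), (29, 1), (33, 1), (34, 1), (35, 1), (36, 1), (38, 1), (39, 1), (43, 1), (49, 1), (50, 1)],
    [(5, 1), (7, 1), (8, 1), (16, 1), (32, 1), (34, 1), (37, 1), (40, 1), (41, 1), (43, 1)],
    [(8, 1), (15, 1), (17, 1), (22, 1), (27, 1), (29, 1), (32, 1), (33, 1), (34, 1), (35, 1), (39, 1), (40, 1), (42, 1), (43, 1)],
    [(8, 1), (17, 1), (21, 1), (22, 1), (24, 1), (27, 1), (30, 1), (33, 1), (34, 1), (39, 1), (42, 1), (43, 1)],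
    [(5, 1), (7, 1), (8, 1), (15, 1), (16, 1), (32, 1), (34, 1), (37, 1), (43, 1)],
    [(5, 1), (7, 1), (8, 1), (14, 1), (20, 1), (21, 1), (22, 1), (24, 1), (25, 1), (27, 1), (28, 1), (29, 1), (31, 1), (32, 1), (36, 1), (37, 1), (39, 1), (40, 1), (41, 1), (42, 1), (43, 1)],
    [(5, 1), (7, 1), (8, 1), (15, 1), (16, 1), (18, 1), (32, 1), (34, 1), (40, 1), (41, 1), (42, 1), (43, 1)],
    [(4, 1), (5, 1), (10, 1), (12, 1), (16, 1), (18, 1), (21, 1), (22, 1), (24, 1), (25, 1), (29, 1), (33, 1), (35, 1), (36, 1), (37, 1), (38, 1), (40, 1), (41, 1), (49, 1), (50, 1)],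
    [(8, 1), (14, 1), (16, 1), (17, 1), (20, 1), (21, 1), (24, 1), (25, 1), (27, 1), (28, 1), (29, 1), (31, 1), (32, 1), (33, 1), (36, 1), (43, 1)],
    [(5, 1), (7, 1), (8, 1), (14, 1), (18, 1), (20, 1), (21, 1), (22, 1), (24, 1), (25, 1), (27, 1), (29, 1), (31, 1), (32, 1), (36, 1), (39, 1), (40, 1), (42, 1)],
    [(42, 1)],
    [(5, 1), (7, 1), (14, 1), (17, 1), (20, 1), (24, 1), (25, 1), (27, 1), (28, 1), (29, 1), (31, 1), (34, 1), (37, 1), (40, 1), (41, 1)],
    [(5, 1), (7, 1), (14, 1), (18, 1), (20, 1), (24, 1), (25, 1), (28, 1), (29, 1), (31, 1), (32, 1), (34, 1), (39, 1), (40, 1), (41, 1), (43, 1)],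
    [(25, 1), (37, 1), (42, 1)],
    [(5, 1), (7, 1), (8, 1), (14, 1), (15, 1), (18, 1), (20, 1), (21, 1), (22, 1), (24, 1), (25, 1), (27, 1), (28, 1), (29, 1), (31, 1), (32, 1), (36, 1), (39, 1), (40, 1)],
    [(8, 1), (14, 1), (16, 1), (17, 1), (20, 1), (24, 1), (25, 1), (27, 1), (28, 1), (29, 1), (31, 1), (32, 1), (33, 1), (43, 1)]]
  sorted := [
    0, 1508, 1024, 484, 1536, 996, 512, 2020, 256, 1252, 1280, 228, 1792, 740, 768, 1764, 384, 1124, 1408, 100, 1920, 612, 896, 1636, 1152, 356, 128, 1380, 640, 1892, 1664, 868, 144, 372, 1168, 1396, 656, 884, 1680, 1908, 400, 116, 1424, 1140, 912, 628, 1936, 1652, 272, 244, 1296, 1268, 784, 756, 1808, 1780, 1040, 1524, 16, 500, 1552, 2036, 528, 1012, 1386, 1102, 362, 78, 874, 590, 1898, 1614, 1130, 1358, 106, 334, 618, 846, 1642, 1870, 1258, 1486, 234, 462, 746, 974, 1770, 1998, 490, 206, 1514, 1230, 2026, 1742, 1002, 718, 506, 222, 1530, 1246, 1018, 734, 2042, 1758, 250, 478, 1274, 1502, 762, 990, 1786, 2014, 122, 350, 1146, 1374, 634, 862,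 1658, 1886, 1402, 1118, 378, 94, 1914, 1630, 890, 606, 1088, 420, 64, 1444, 576, 1956, 1600, 932, 1344, 164, 320, 1188, 832, 1700, 1856, 676, 1472, 36, 448, 1060, 960, 1572, 1984, 548, 1216, 292, 192, 1316, 704, 1828, 1728, 804, 208, 308, 1232, 1332, 1744, 1844, 720, 820, 464, 52, 1488, 1076, 2000, 1588, 976, 564, 336, 180, 1360, 1204, 1872, 1716, 848, 692, 80, 436, 1104, 1460, 1616, 1972, 592, 948, 1322, 1038, 298, 14, 1834, 1550, 810, 526, 1066, 1294, 42, 270, 1578, 1806, 554, 782, 1194, 1422, 170, 398, 1706, 1934, 682, 910, 1450, 1166, 426, 142, 1962, 1678, 938, 654, 1466, 1182, 442, 158, 1978, 1694, 954, 670, 1210, 1438, 186, 414, 1722, 1950, 698, 926, 1082, 1310, 58, 286, 1594, 1822, 570, 798, 1338, 1054, 314, 30, 1850, 1566, 826, 542, 1178, 1214, 154, 190, 666, 702, 1690, 1726, 1434, 1470, 410, 446, 922, 958, 1946, 1982, 1306, 1342, 282, 318, 794, 830, 1818, 1854, 1050, 1086, 26, 62, 538, 574, 1562, 1598, 1034, 1070, 10, 46, 522, 558, 1546, 1582, 1290, 1326, 266, 302, 778, 814, 1802,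 1838, 1418, 1454, 394, 430, 906, 942, 1930, 1966, 1162, 1198, 138, 174, 650, 686, 1674, 1710, 1776, 20, 752, 1044, 240, 1556, 1264, 532, 1008, 1300, 2032, 276, 1520, 788, 496, 1812, 1904, 404, 880, 1428, 368, 1940, 1392, 916, 624, 1172, 1648, 148, 1136, 660, 112, 1684, 608, 132, 1632, 1156, 1120, 1668, 96, 644, 1888, 1412, 864, 388, 352, 900, 1376, 1924, 992, 260, 2016, 1284, 1504, 1796, 480, 772, 1760, 1028, 736, 4, 224, 516, 1248, 1540, 218, 254, 1242, 1278, 1754, 1790, 730, 766, 474, 510, 1498, 1534, 2010, 2046, 986, 1022, 1370, 1406, 346, 382, 858, 894, 1882, 1918, 1114, 1150, 90, 126, 602, 638, 1626, 1662, 1098, 1134, 74, 110, 586, 622, 1610, 1646, 1354, 1390, 330, 366, 842, 878, 1866, 1902, 458, 494, 1482, 1518, 1994, 2030, 970, 1006, 202, 238, 1226, 1262, 1738, 1774, 714, 750, 688, 1108, 1712, 84, 1200, 596, 176, 1620, 1968, 340, 944, 1364, 432, 1876, 1456, 852, 1840, 468, 816, 1492, 304, 2004, 1328, 980, 560, 1236, 1584, 212, 1072, 724, 48, 1748, 544, 196, 1568, 1220, 1056, 1732,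 32, 708, 1824, 1476, 800, 452, 288, 964, 1312, 1988, 1952, 1348, 928, 324, 416, 836, 1440, 1860, 672, 68, 1696, 1092, 1184, 1604, 160, 580, 1074, 662, 50, 1686, 562, 1174, 1586, 150, 1330, 918, 306, 1942, 818, 1430, 1842, 406, 1458, 790, 434, 1814, 946, 1302, 1970, 278, 1202, 534, 178, 1558, 690, 1046, 1714, 22, 1186, 518, 162, 1542, 674, 1030, 1698, 6, 1442, 774, 418, 1798, 930, 1286, 1954, 262, 1314, 902, 290, 1926, 802, 1414, 1826, 390, 1058, 646, 34, 1670, 546, 1158, 1570, 134, 968, 172, 1992, 1196, 1480, 1708, 456, 684, 712, 428, 1736, 1452, 1224, 1964, 200, 940, 1608, 1324, 584, 300, 72, 812, 1096, 1836, 1864, 1068, 840, 44, 328, 556, 1352, 1580, 1880, 60, 856, 1084, 344, 1596, 1368, 572, 1624, 316, 600, 1340, 88, 1852, 1112, 828, 728, 1468, 1752, 444, 1240, 956, 216, 1980, 984, 1212, 2008, 188, 1496, 700, 472, 1724, 626, 1238, 1650, 214, 1138, 726, 114, 1750, 882, 1494, 1906, 470, 1394, 982, 370, 2006, 1010, 1366, 2034, 342, 1522, 854, 498, 1878, 754, 1110, 1778, 86, 1266, 598, 242,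 1622, 738, 1094, 1762, 70, 1250, 582, 226, 1606, 994, 1350, 2018, 326, 1506, 838, 482, 1862, 866, 1478, 1890, 454, 1378, 966, 354, 1990, 610, 1222, 1634, 198, 1122, 710, 98, 1734, 1416, 1772, 392, 748, 904, 236, 1928, 1260, 1160, 2028, 136, 1004, 648, 492, 1672, 1516, 8, 876, 1032, 1900, 1544, 1388, 520, 364, 264, 620, 1288, 1644, 1800, 1132, 776, 108, 280, 1660, 1304, 636, 1816, 124, 792, 1148, 24, 1916, 1048, 892, 1560, 380, 536, 1404, 1176, 1020, 152, 2044, 664, 1532, 1688, 508, 1432, 764, 408, 1788, 920, 1276, 1944, 252, 1602, 1510, 578, 486, 66, 998, 1090, 2022, 1858, 1254, 834, 230, 322, 742, 1346, 1766, 1986, 1126, 962, 102, 450, 614, 1474, 1638, 1730, 1382, 706, 358, 194, 870, 1218, 1894, 722, 374, 1746, 1398, 1234, 1910, 210, 886, 978, 118, 2002, 1142, 1490, 1654, 466, 630, 850, 246, 1874, 1270, 1362, 1782, 338, 758, 594, 502, 1618, 1526, 1106, 2038, 82, 1014, 1720, 732, 696, 1756, 184, 1244, 1208, 220, 1976, 988, 952, 2012, 440, 1500, 1464, 476, 824, 1884, 1848, 860, 1336, 348,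 312, 1372, 568, 1628, 1592, 604, 1080, 92, 56, 1116, 1576, 1612, 552, 588, 40, 76, 1064, 1100, 1832, 1868, 808, 844, 296, 332, 1320, 1356, 936, 972, 1960, 1996, 1448, 1484, 424, 460, 680, 716, 1704, 1740, 1192, 1228, 168, 204, 2, 934, 1026, 1958, 1538, 1446, 514, 422, 258, 678, 1282, 1702, 1794, 1190, 770, 166, 386, 550, 1410, 1574, 1922, 1062, 898, 38, 130, 806, 1154, 1830, 1666, 1318, 642, 294, 1170, 1846, 146, 822, 658, 310, 1682, 1334, 1426, 1590, 402, 566, 914, 54, 1938, 1078, 1298, 1718, 274, 694, 786, 182, 1810, 1206, 1042, 1974, 18, 950, 530, 438, 1554, 1462, 248, 1180, 1272, 156, 1784, 668, 760, 1692, 504, 1436, 1528, 412, 2040, 924, 1016, 1948, 1400, 284, 376, 1308, 888, 1820, 1912, 796, 1144, 28, 120, 1052, 632, 1564, 1656, 540, 104, 12, 1128, 1036, 1640, 1548, 616, 524, 360, 268, 1384, 1292, 1896, 1804, 872, 780, 1512, 1420, 488, 396, 1000, 908, 2024, 1932, 1256, 1164, 232, 140, 744, 652, 1768, 1676, 1, 1349, 1025, 325, 1537, 837, 513, 1861, 257, 1093, 1281, 69, 1793, 581, 769,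 1605, 385, 1221, 1409, 197, 1921, 709, 897, 1733, 129, 1477, 1153, 453, 1665, 965, 641, 1989, 145, 469, 1169, 1493, 1681, 2005, 657, 981, 401, 213, 1425, 1237, 1937, 1749, 913, 725, 273, 85, 1297, 1109, 1809, 1621, 785, 597, 17, 341, 1041, 1365, 1553, 1877, 529, 853, 227, 167, 1251, 1191, 1763, 1703, 739, 679, 483, 423, 1507, 1447, 2019, 1959, 995, 935, 355, 295, 1379, 1319, 1891, 1831, 867, 807, 99, 39, 1123, 1063, 1635, 1575, 611, 551, 115, 1079, 1139, 55, 1651, 567, 627, 1591, 371, 1335, 1395, 311, 1907, 823, 883, 1847, 499, 1463, 1523, 439, 2035, 951, 1011, 1975, 243, 1207, 1267, 183, 1779, 695, 755, 1719, 1443, 1511, 419, 487, 931, 999, 1955, 2023, 1187, 1255, 163, 231, 675, 743, 1699, 1767, 1059, 1127, 35, 103, 547, 615, 1571, 1639, 1315, 1383, 291, 359, 803, 871, 1827, 1895, 1331, 375, 307, 1399, 819, 1911, 1843, 887, 1075, 119, 51, 1143, 563, 1655, 1587, 631, 1203, 247, 179, 1271, 691, 1783, 1715, 759, 1459, 503, 435, 1527, 947, 2039, 1971, 1015, 1345, 5, 321, 1029, 833, 1541, 1857,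 517, 1089, 261, 65, 1285, 577, 1797, 1601, 773, 1217, 389, 193, 1413, 705, 1925, 1729, 901, 1473, 133, 449, 1157, 961, 1669, 1985, 645, 1489, 1173, 465, 149, 977, 661, 2001, 1685, 1233, 1429, 209, 405, 721, 917, 1745, 1941, 1105, 1301, 81, 277, 593, 789, 1617, 1813, 1361, 1045, 337, 21, 849, 533, 1873, 1557, 3, 583, 1027, 1607, 1539, 1095, 515, 71, 259, 839, 1283, 1863, 1795, 1351, 771, 327, 387, 967, 1411, 1991, 1923, 1479, 899, 455, 131, 711, 1155, 1735, 1667, 1223, 643, 199, 1171, 727, 147, 1751, 659, 1239, 1683, 215, 1427, 983, 403, 2007, 915, 1495, 1939, 471, 1299, 855, 275, 1879, 787, 1367, 1811, 343, 1043, 599, 19, 1623, 531, 1111, 1555, 87, 2017, 165, 993, 1189, 481, 1701, 1505, 677, 1761, 421, 737, 1445, 225, 1957, 1249, 933, 1633, 293, 609, 1317, 97, 1829, 1121, 805, 1889, 37, 865, 1061, 353, 1573, 1377, 549, 881, 53, 1905, 1077, 1393, 1589, 369, 565, 625, 309, 1649, 1333, 1137, 1845, 113, 821, 753, 437, 1777, 1461, 1265, 1973, 241, 949, 1009, 181, 2033, 1205, 1521, 1717, 497,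 693, 673, 1509, 1697, 485, 1185, 997, 161, 2021, 929, 1253, 1953, 229, 1441, 741, 417, 1765, 801, 1125, 1825, 101, 1313, 613, 289, 1637, 545, 1381, 1569, 357, 1057, 869, 33, 1893, 1585, 1397, 561, 373, 49, 885, 1073, 1909, 1841, 1141, 817, 117, 305, 629, 1329, 1653, 1969, 1269, 945, 245, 433, 757, 1457, 1781, 1713, 1525, 689, 501, 177, 1013, 1201, 2037, 1347, 1799, 323, 775, 835, 263, 1859, 1287, 1091, 1543, 67, 519, 579, 7, 1603, 1031, 1219, 1671, 195, 647, 707, 135, 1731, 1159, 1475, 1927, 451, 903, 963, 391, 1987, 1415, 467, 1943, 1491, 919, 2003, 407, 979, 1431, 211, 1687, 1235, 663, 1747, 151, 723, 1175, 83, 1559, 1107, 535, 1619, 23, 595, 1047, 339, 1815, 1363, 791, 1875, 279, 851, 1303, 1339, 1151, 315, 127, 827, 639, 1851, 1663, 1083, 1407, 59, 383, 571, 895, 1595, 1919, 187, 511, 1211, 1535, 1723, 2047, 699, 1023, 443, 255, 1467, 1279, 1979, 1791, 955, 767, 1451, 239, 427, 1263, 939, 1775, 1963, 751, 1195, 495, 171, 1519, 683, 2031, 1707, 1007, 43, 1391, 1067, 367, 1579, 879, 555,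 1903, 299, 1135, 1323, 111, 1835, 623, 811, 1647, 857, 797, 1881, 1821, 1369, 1309, 345, 285, 601, 541, 1625, 1565, 1113, 1053, 89, 29, 1753, 1693, 729, 669, 217, 157, 1241, 1181, 2009, 1949, 985, 925, 473, 413, 1497, 1437, 969, 1933, 1993, 909, 1481, 397, 457, 1421, 713, 1677, 1737, 653, 1225, 141, 201, 1165, 1609, 525, 585, 1549, 73, 1037, 1097, 13, 1865, 781, 841, 1805, 329, 1293, 1353, 269, 25, 93, 1049, 1117, 1561, 1629, 537, 605, 281, 349, 1305, 1373, 1817, 1885, 793, 861, 1433, 1501, 409, 477, 921, 989, 1945, 2013, 1177, 1245, 153, 221, 665, 733, 1689, 1757, 137, 1229, 1161, 205, 1673, 717, 649, 1741, 393, 1485, 1417, 461, 1929, 973, 905, 1997, 1289, 333, 265, 1357, 777, 1869, 1801, 845, 1033, 77, 9, 1101, 521, 1613, 1545, 589, 1659, 1855, 635, 831, 123, 319, 1147, 1343, 1915, 1599, 891, 575, 379, 63, 1403, 1087, 1019, 703, 2043, 1727, 1531, 1215, 507, 191, 763, 959, 1787, 1983, 1275, 1471, 251, 447, 1771, 943, 747, 1967, 235, 1455, 1259, 431, 2027, 687, 1003, 1711, 491, 1199, 1515,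 175, 875, 1583, 1899, 559, 1387, 47, 363, 1071, 619, 1839, 1643, 815, 1131, 303, 107, 1327, 603, 287, 1627, 1311, 1115, 1823, 91, 799, 859, 31, 1883, 1055, 1371, 1567, 347, 543, 2011, 1183, 987, 159, 475, 671, 1499, 1695, 1755, 1439, 731, 415, 219, 927, 1243, 1951, 715, 1423, 1739, 399, 1227, 911, 203, 1935, 971, 1167, 1995, 143, 1483, 655, 459, 1679, 1867, 15, 843, 1039, 331, 1551, 1355, 527, 1611, 271, 587, 1295, 75, 1807, 1099, 783, 1849, 1405, 825, 381, 313, 893, 1337, 1917, 1593, 1149, 569, 125, 57, 637, 1081, 1661, 697, 253, 1721, 1277, 1209, 1789, 185, 765, 953, 509, 1977, 1533, 1465, 2045, 441, 1021, 1961, 493, 937, 1517, 425, 2029, 1449, 1005, 1705, 237, 681, 1261, 169, 1773, 1193, 749, 553, 1133, 1577, 109, 1065, 621, 41, 1645, 809, 1389, 1833, 365, 1321, 877, 297, 1901, 1145, 1597, 121, 573, 633, 61, 1657, 1085, 1401, 1853, 377, 829, 889, 317, 1913, 1341, 505, 957, 1529, 1981, 2041, 1469, 1017, 445, 249, 701, 1273, 1725, 1785, 1213, 761, 189, 1257, 685, 233, 1709, 745, 1197, 1769,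 173, 1513, 941, 489, 1965, 1001, 1453, 2025, 429, 361, 1837, 1385, 813, 1897, 301, 873, 1325, 105, 1581, 1129, 557, 1641, 45, 617, 1069, 283, 607, 1307, 1631, 1819, 1119, 795, 95, 27, 863, 1051, 1887, 1563, 1375, 539, 351, 1179, 2015, 155, 991, 667, 479, 1691, 1503, 1435, 1759, 411, 735, 923, 223, 1947, 1247, 395, 1743, 1419, 719, 1931, 207, 907, 1231, 139, 1999, 1163, 975, 1675, 463, 651, 1487, 1035, 847, 11, 1871, 523, 1359, 1547, 335, 1291, 591, 267, 1615, 779, 1103, 1803, 79]

def words2 : List (List (Fin 4)) := [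
    [0],
    [0, 1, 0, 2, 0, 1, 0, 2],
    [0, 1, 0, 2, 0, 1, 0, 2, 0, 1, 0, 2, 0, 1, 0, 2],
    [2, 2, 2, 0, 2, 0],
    [0, 1, 0, 2, 2, 0, 1, 0, 2, 2, 0, 2, 0, 1, 0, 2, 0, 1, 0, 2, 0, 1, 0, 2, 0, 1],
    [2, 2, 0, 2, 0, 1, 0, 2, 2, 0, 1, 0, 2, 0, 1, 0, 2, 2, 0, 1],
    [2, 0, 1, 0, 2, 0, 1, 0, 2, 0, 2, 2, 0, 1, 0, 2, 0, 1],
    [2, 2, 0, 2, 0, 1, 0, 2, 0, 1, 0, 2, 0, 1, 0, 2, 0, 1],
    [0, 1, 0, 2, 0, 1, 0, 2, 0, 1, 0, 2, 2, 0, 1, 0, 2, 0, 1, 0, 2, 2, 0, 1, 2, 0, 1, 0, 2, 0, 1, 0, 2, 0],
    [0, 1, 0, 2, 0, 1, 0, 2, 0, 1, 0, 2, 0, 1, 0, 2, 0, 1, 0, 2, 0, 1, 0, 2, 0, 1, 0, 2, 0, 1, 0, 2],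
    [0, 1, 0, 2, 2, 0, 1, 0, 2, 0, 1, 0, 2, 2, 2, 0, 1, 0, 2, 0, 1, 0, 2, 0, 1, 2, 2, 0],
    [1, 0],
    [3, 3]]

def data3 : Data where
  p := 3
  n := 3
  syms := [
    128016125886872483183480402943164438225402842518074024097583328603706189353721645501743061232456599193089967553816321244760908329129725172104351846431200014602879784138916230643724826194130640760923328607,
    292785338730688857612527767406725265591982645763576661681357017683962152285100869974442454392125406386236450861277209988834997246292676862224262983920662106710636722492909375081500174363993798628438501035,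
    312472863876549210176535379681159646029019111787178203800367095529608970610043648724950816353536894491833255823664756795651809880382963789715574942379581386816081162360334606770181342911894329496907168910,
    770245824876956220660075141163015557987876837635117882349244298378782574928598829775960694003276488828902992473769545169224171160029303339989890017803945753305103131608759928497010376382270483780895851,
    284135234354095507602987444589992104158293789391657240310923932387947577012341336155596914032950455101566551401839581056383809479162663852129756188032401348677813688420411138001428537246704708349522007043,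
    235146400079537278595603628746773065171393546480191678562675840735753826924172615001326696120662557926313333759270005882258848522443350372999303266681844390380842878911830698388292731224172854090289577985]
  rules := [
    ([0, 0, 0], []),
    ([1, 1, 1], []),
    ([2, 2, 2], []),
    ([1, 0], [0, 1, 2]),
    ([2, 0], [0, 2]),
    ([2, 1], [1, 2]),
    ([3, 0], [0, 0, 1, 2, 2, 3]),
    ([3, 2], [2, 2, 3]),
    ([4, 1, 2], [0, 1, 1, 2, 4]),
    ([5, 0, 1, 2, 2], [0, 0, 1, 2, 2, 5])]
  defs := [(3, 2)]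
  targets := [0, 1, 2, 4, 5]
  paths := [
    ([1, 1, 1, 0], [(0, 1, true), (1, 2, false), (1, 1, false), (3, 5, false), (4, 5, false), (2, 5, false), (0, 3, false), (1, 3, false), (2, 3, false)]),
    ([3, 0, 0, 0], [(0, 6, true), (5, 6, true), (10, 6, true), (4, 4, true), (3, 4, true), (2, 3, true), (0, 0, true), (1, 2, true), (0, 3, true), (2, 5, true), (3, 2, true), (2, 3, true), (1, 3, true), (3, 5, true), (5, 4, true), (4, 4, true), (3, 3, true), (2, 3, true), (0, 0, true), (1, 5, true), (2, 2, true), (2, 5, true), (0, 1, true), (0, 2, true), (1, 0, false)]),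
    ([3, 2, 0], [(0, 7, true), (2, 6, true), (1, 4, true), (0, 4, true), (2, 4, true), (1, 4, true), (3, 5, true), (2, 5, true), (3, 2, true), (3, 2, false), (5, 7, false), (0, 6, false), (1, 4, false)]),
    ([4, 1, 2, 1, 2, 1, 2], [(0, 8, true), (4, 8, true), (8, 8, true), (3, 4, true), (2, 3, true), (1, 3, true), (3, 5, true), (4, 2, true), (2, 1, true), (3, 4, true), (2, 3, true), (0, 0, true), (2, 5, true), (1, 5, true), (3, 5, true), (2, 5, true), (0, 1, true), (0, 2, true), (1, 2, false), (1, 1, false), (3, 5, false), (4, 5, false), (2, 5, false)]),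
    ([5, 0, 1, 2, 2, 0, 1, 2, 2, 0, 1, 2, 2], [(0, 9, true), (5, 9, true), (10, 9, true), (4, 4, true), (3, 4, true), (2, 3, true), (0, 0, true), (1, 2, true), (0, 3, true), (2, 5, true), (3, 2, true), (2, 3, true), (1, 3, true), (3, 5, true), (5, 4, true), (4, 4, true), (3, 3, true), (2, 3, true), (0, 0, true), (1, 5, true), (2, 2, true), (2, 5, true), (0, 1, true), (0, 2, true), (1, 2, false), (1, 1, false), (3, 5, false), (3, 2, false), (2, 5, false), (1, 0, false), (3, 3, false), (4, 3, false), (5, 4, false), (6, 4, false), (4, 2, false), (2, 3, false), (3, 4, false), (4, 4, false)])]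
  combos := [
    [(0, 1), (2, 2), (4, 1)],
    [(1, 2), (2, 1), (3, 2), (4, 2)],
    [(0, 2)],
    [(1, 2), (2, 1), (3, 1)],
    [(2, 2)]]
  sorted := [
    16, 4, 21, 6, 8, 25, 1, 24, 20, 2, 5, 0, 13, 15, 22, 17, 11, 19, 14, 7, 12, 18, 3, 23, 10, 9, 26]

def words3 : List (List (Fin 4)) := [
    [2, 2, 2, 3, 0, 2, 2, 0, 3, 0, 1, 2, 2, 1, 2, 2, 0, 2, 2, 2, 1, 0, 2, 2, 2, 3, 0, 2, 2, 0, 3, 0, 1, 2, 2, 1, 2, 2, 0, 2, 2, 2, 1, 0, 2, 2, 2, 3, 0, 2, 2, 0, 3, 0, 1, 2, 2, 1, 2, 2, 0, 2, 2, 2, 1, 0, 2, 2, 2, 3, 0, 2, 2, 0, 3, 0, 1, 2, 2, 1, 2, 2, 0, 2, 2, 2, 1, 0],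
    [3, 3, 2, 1, 0, 1, 0, 2, 3, 2, 0, 2, 1, 3, 3, 1, 3, 2, 1, 0, 2, 2, 1, 2, 1, 3, 1, 2, 0, 2, 0, 3, 0, 2, 1, 2, 1, 3, 1, 2, 0, 2, 0, 3, 0, 2, 1, 2, 1, 3, 1, 2, 0, 2, 0, 3, 0, 2, 1, 2, 1, 3, 1, 2, 0, 2, 0, 3, 0, 2, 2, 2, 0, 1, 2, 2, 2, 3, 3, 3, 1, 3, 3, 1, 2, 2, 2, 0, 2, 2, 2, 3, 3, 3, 2, 2, 2, 0, 1, 0, 1, 2, 2, 2, 3, 3],
    [1, 3, 1, 3, 1, 0, 2, 1, 2, 2, 1, 0, 2, 2, 3, 2, 3, 2, 3, 2, 1, 3, 2, 2, 1, 2, 3, 2, 0, 3, 1, 3, 2, 2, 0, 3, 2, 3, 2, 3, 2, 1, 3, 2, 2, 1, 2, 3, 2, 0, 3, 1, 3, 2, 2, 0, 3, 2, 3, 2, 3, 2, 1, 3, 2, 2, 1, 2, 3, 2, 0, 3, 1, 3, 2, 2, 0, 3, 2, 3, 2, 3, 2, 1, 3, 2, 2, 1, 2, 3, 2, 0, 3, 1, 3, 2, 2, 0, 3, 2, 3, 2, 3, 2, 1, 3, 2, 2, 1, 2, 3, 2, 0, 3, 1, 3, 2, 2, 0, 3, 2, 3, 2, 3, 2, 1, 3, 2, 2, 1, 2, 3, 2, 0, 3, 1, 3, 2, 2, 0, 3, 2, 3, 2, 3, 2, 1, 3, 2, 2, 1, 2, 3, 2, 0, 3, 1, 3, 2, 2, 0, 3, 2, 3, 2, 3, 2, 1, 3, 2, 2, 1, 2, 3, 2, 0, 3, 1, 3, 2, 2, 0, 2, 2, 0, 1, 2, 2, 1, 2, 2, 2, 0, 1, 3, 3, 3, 1, 3, 3, 3, 1, 2, 2, 2, 3, 0, 2, 2, 0, 3, 0, 1, 2, 2, 1, 2, 2, 0, 2, 2, 2, 1, 0, 2,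 2, 2, 3, 0, 2, 2, 0, 3, 0, 1, 2, 2, 1, 2, 2, 0, 2, 2, 2, 1, 0, 2, 2, 2, 3, 0, 2, 2, 0, 3, 0, 1, 2, 2, 1, 2, 2, 0, 2, 2, 2, 1, 0, 2, 2, 2, 3, 0, 2, 2, 0, 3, 0, 1, 2, 2, 1, 2, 2, 0, 2, 2, 2, 1, 0, 2, 2, 2, 3, 0, 2, 2, 0, 3, 0, 1, 2, 2, 1, 2, 2, 0, 2, 2, 2, 1, 0, 2, 2, 2, 3, 0, 2, 2, 0, 3, 0, 1, 2, 2, 1, 2, 2, 0, 2, 2, 2, 1, 0, 2, 2, 2, 3, 0, 2, 2, 0, 3, 0, 1, 2, 2, 1, 2, 2, 0, 2, 2, 2, 1, 0, 2, 2, 2, 3, 0, 2, 2, 0, 3, 0, 1, 2, 2, 1, 2, 2, 0, 2, 2, 2, 1, 0],
    [2, 1, 3, 2, 3, 0, 2, 1, 2, 2, 3, 0, 1, 2, 2, 1, 2, 2, 1, 3, 2],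
    [0, 2, 3, 1, 3, 3, 3, 2, 2, 2, 0, 3, 2, 1],
    [1, 2, 2, 2, 0, 1, 3, 1, 0, 2, 3, 0]]

def data5 : Data where
  p := 5
  n := 2
  syms := [
    222770275395264975550965157944289207884171520206470643752801830700571879384607787348716608244609561801526726435329330075367895466530903508740408855568879641034150039579197237889962022437604590915979820076,
    159826069178180603954842120602956722152840761272389987280755422971912411903930479934150538753190563503119391238429196126995177912374611326822783745348020320194266251611584891707235845005490545848562092034,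
    156764268131006474020856047080374387326716089095089051583017503187577888130471961949534731714668214111018418192347609373089782715506108776199978327552828833800627718591516735263200816331150930111933583363,
    277399268633956865952415307012279196523679265551193975086548032466997699161149242035615317986717253110205922914083418954041654429386903993834262719131244354918376625455085110046570902727548628048241362946]
  rules := [
    ([0, 0, 0, 0, 0], []),
    ([1, 1, 1, 1, 1], []),
    ([1, 0], [0, 1]),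
    ([2, 0], [0, 0, 1, 2]),
    ([2, 1], [0, 0, 1, 1, 1, 2]),
    ([3, 0], [0, 0, 0, 0, 3])]
  defs := []
  targets := [0, 1, 2]
  paths := [
    ([2, 0, 0, 0, 0, 0], [(0, 3, true), (3, 3, true), (6, 3, true), (9, 3, true), (12, 3, true), (2, 2, true), (3, 2, true), (5, 2, true), (4, 2, true), (0, 0, true), (1, 2, true), (0, 2, true), (3, 2, true), (2, 2, true), (1, 2, true), (4, 2, true), (3, 2, true), (2, 2, true), (6, 2, true), (5, 2, true), (4, 2, true), (3, 2, true), (7, 2, true), (6, 2, true), (5, 2, true), (4, 2, true), (0, 0, true), (0, 1, true), (1, 0, false)]),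
    ([2, 1, 0], [(0, 4, true), (5, 3, true), (4, 2, true), (3, 2, true), (2, 2, true), (5, 2, true), (4, 2, true), (3, 2, true), (3, 2, false), (2, 2, false), (3, 4, false), (0, 3, false), (1, 2, false)]),
    ([3, 0, 0, 0, 0, 0], [(0, 5, true), (4, 5, true), (8, 5, true), (12, 5, true), (16, 5, true), (0, 0, true), (0, 0, true), (0, 0, true), (0, 0, true), (1, 0, false)])]
  combos := [
    [(2, 2)],
    [(0, 1), (2, 3)],
    [(1, 2)]]
  sorted := [
    15, 21, 23, 14, 4, 19, 2, 0, 5, 17, 11, 3, 18, 9, 13, 1, 8, 24, 16, 12, 22, 10, 20, 7, 6]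

def words5 : List (List (Fin 4)) := [
    [0, 1, 0, 1, 2, 3, 1, 3, 1, 0, 1, 3, 0, 2, 3, 0, 1, 0, 1, 2, 3, 1, 3, 1, 0, 1, 3, 0, 2, 3],
    [3, 2, 1, 2, 3, 3, 2, 0, 2, 1, 2, 3, 2, 2, 2, 0, 2, 3, 2, 0, 2, 2, 2, 0, 3, 0, 2, 3, 2, 1, 3, 3, 2, 2, 0, 3, 0, 2, 3, 2, 1, 3, 3, 2, 2, 2, 0, 2, 2, 2, 3, 3, 3, 2, 2, 2, 0, 2, 3, 3, 3, 2, 2, 2, 1, 2, 2, 2, 0, 2, 2, 2, 3, 3, 2, 2, 2, 1, 2, 2, 2, 3, 3, 3],
    [2, 3],
    [1, 0, 3, 3, 2, 2, 1, 3, 3, 0, 1]]

end H26.TitsSchur
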