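import Cfsg.Agent.H53.TitsMain
import Cfsg.Agent.H26.TitsSchurData
import Cfsg.Agent.H97.SchurCert

/-!
Codes for elements of the Tits group: the action on an invariant space of 26 coordinates, packed
row by row into one number.
-/

set_option autoImplicit false
set_option maxRecDepth 20000

namespace H26.TitsSchur

open Cfsg.Lie H52 H53 H53.F4T H53.BitMat H53.TitsData H53.Tits

/-- Pack rows. -/
def pk : List ℕ → ℕ
  | [] => 0
  | a :: l => a + 2 ^ 26 * pk l

theorem testBit_pk : ∀ (l : List ℕ), (∀ a ∈ l, a < 2 ^ 26) → ∀ i k, k < 26 →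
    (pk l).testBit (26 * i + k) = (l.getD i 0).testBit k
  | [], _, i, k, _ => by simp [pk]
  | a :: l, h, i, k, hk => by
    have ha := h a List.mem_cons_self
    rw [pk, add_comm a, Nat.testBit_two_pow_mul_add _ ha]
    cases i with
    | zero => simp [hk]
    | succ i =>
      rw [if_neg (by omega), show 26 * (i + 1) + k - 26 = 26 * i + k by omega,
        testBit_pk l (fun b hb => h b (List.mem_cons_of_mem _ hb)) i k hk]
      simp

theorem pk_lt : ∀ (l : List ℕ), (∀ a ∈ l, a < 2 ^ 26) → pk l < 2 ^ (26 * l.length)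
  | [], _ => by simp [pk]
  | a :: l, h => by
    have ha := h a List.mem_cons_self
    have hl := pk_lt l fun b hb => h b (List.mem_cons_of_mem _ hb)
    have h1 : pk l + 1 ≤ 2 ^ (26 * l.length) := hl
    calc pk (a :: l) < 2 ^ 26 + 2 ^ 26 * pk l := by rw [pk]; omega
      _ = 2 ^ 26 * (pk l + 1) := by ring
      _ ≤ 2 ^ 26 * 2 ^ (26 * l.length) := Nat.mul_le_mul_left _ h1
      _ = 2 ^ (26 * (a :: l).length) := by rw [← pow_add, List.length_cons]; ring_nf

theorem pk_mul : ∀ (l : List ℕ) (c : ℕ), pk (l.map (· * c)) = pk l * c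
  | [], c => by simp [pk]
  | a :: l, c => by simp only [List.map_cons, pk, pk_mul l c]; ring

/-- The lowest bit of every row. -/
def onesMask : ℕ := pk (List.replicate 26 1)

/-- One row of a code. -/
def rowC (b j : ℕ) : ℕ := (b >>> (26 * j)) % 2 ^ 26

/-- Multiply codes. -/
noncomputable def mulC (a b : ℕ) : ℕ :=
  Nat.rec (motive := fun _ => ℕ) 0
    (fun j acc => Nat.xor acc (((a >>> j) &&& onesMask) * rowC b j)) 26

/-- Bits of a code. -/
def cbit (c : ℕ) (i k : ℕ) : Bool := c.testBit (26 * i + k)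

theorem cbit_rowC (b j k : ℕ) (hk : k < 26) : (rowC b j).testBit k = cbit b j k := by
  rw [rowC, Nat.testBit_mod_two_pow, Nat.testBit_shiftRight]
  simp [hk, cbit]

theorem replicate_lt : ∀ a ∈ List.replicate 26 1, a < 2 ^ 26 := fun a ha => by
  rw [List.eq_of_mem_replicate ha]; norm_num

theorem shift_mask (a j : ℕ) (hj : j < 26) :
    (a >>> j) &&& onesMask = pk ((List.range 26).map fun i => (cbit a i j).toNat) := by
  have hl : ∀ x ∈ (List.range 26).map (fun i => (cbit a i j).toNat), x < 2 ^ 26 := fun x hx => by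
    obtain ⟨i, -, rfl⟩ := List.mem_map.1 hx
    exact (Bool.toNat_lt _).trans_le (by norm_num)
  apply Nat.eq_of_testBit_eq
  intro n
  by_cases hn : n < 676
  · obtain ⟨i, k, hk, rfl⟩ : ∃ i k, k < 26 ∧ n = 26 * i + k :=
      ⟨n / 26, n % 26, Nat.mod_lt _ (by norm_num), (Nat.div_add_mod n 26).symm⟩
    have hi : i < 26 := by omega
    rw [Nat.testBit_and, Nat.testBit_shiftRight, onesMask, testBit_pk _ replicate_lt _ _ hk,
      testBit_pk _ hl _ _ hk, List.getD_eq_getElem _ _ (by simpa using hi),
      List.getD_eq_getElem _ _ (by simpa using hi), List.getElem_map, List.getElem_range,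
      List.getElem_replicate]
    cases k with
    | zero =>
      rw [show j + (26 * i + 0) = 26 * i + j by omega]
      show (cbit a i j && _) = _
      cases cbit a i j <;> simp
    | succ k =>
      cases cbit a i j <;> simp [Nat.testBit_succ]
  · have h1 : onesMask < 2 ^ n := lt_of_lt_of_le (pk_lt _ replicate_lt)
      (Nat.pow_le_pow_right (by norm_num) (by simp; omega))
    have h2 := lt_of_lt_of_le (pk_lt _ hl) (Nat.pow_le_pow_right (n := 2) (by norm_num)
      (show 26 * ((List.range 26).map fun i => (cbit a i j).toNat).length ≤ n by simp; omega))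
    rw [Nat.testBit_lt_two_pow (lt_of_le_of_lt Nat.and_le_right h1), Nat.testBit_lt_two_pow h2]

theorem summand_bit (a b j : ℕ) (hj : j < 26) (i k : ℕ) (hi : i < 26) (hk : k < 26) :
    (((a >>> j) &&& onesMask) * rowC b j).testBit (26 * i + k) = (cbit a i j && cbit b j k) := by
  rw [shift_mask a j hj, ← pk_mul, List.map_map, testBit_pk _ ?_ _ _ hk,
    List.getD_eq_getElem _ _ (by simpa using hi), List.getElem_map, List.getElem_range]
  · simp only [Function.comp]
    cases cbit a i j <;> simp [cbit_rowC b j k hk]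
  · intro x hx
    obtain ⟨i', -, rfl⟩ := List.mem_map.1 hx
    simp only [Function.comp]
    cases cbit a i' j <;> simp [rowC, Nat.mod_lt]

theorem summand_lt (a b j : ℕ) (hj : j < 26) :
    ((a >>> j) &&& onesMask) * rowC b j < 2 ^ 676 := by
  rw [shift_mask a j hj, ← pk_mul]
  refine (pk_lt _ fun x hx => ?_).trans_le (Nat.pow_le_pow_right (by norm_num) (by simp))
  simp only [List.mem_map] at hx
  obtain ⟨y, ⟨i', -, rfl⟩, rfl⟩ := hx
  cases cbit a i' j <;> simp [rowC, Nat.mod_lt]

variable (K : Type*) [Field K]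

theorem mulC_spec (h2 : (2 : K) = 0) (a b : ℕ) (i k : ℕ) (hi : i < 26) (hk : k < 26) :
    bit K (cbit (mulC a b) i k) = ∑ j : Fin 26, bit K (cbit a i j.val) * bit K (cbit b j.val k) := by
  have key : ∀ n ≤ 26, bit K ((Nat.rec (motive := fun _ => ℕ) 0
      (fun j acc => Nat.xor acc (((a >>> j) &&& onesMask) * rowC b j)) n).testBit (26 * i + k)) =
      ∑ j : Fin n, bit K (cbit a i j.val) * bit K (cbit b j.val k) := by
    intro n
    induction n with
    | zero => intro _; simp [bit]
    | succ n ih =>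
      intro hn
      rw [Fin.sum_univ_castSucc]
      simp only [Fin.val_castSucc, Fin.val_last]
      rw [← ih (by omega)]
      show bit K (Nat.testBit (_ ^^^ _) _) = _
      rw [Nat.testBit_xor, bit_bne h2, summand_bit a b n (by omega) i k hi hk]
      cases cbit a i n <;> simp [bit]
  exact key 26 le_rfl

theorem mulC_lt (a b : ℕ) : mulC a b < 2 ^ 676 := by
  have key : ∀ n ≤ 26, (Nat.rec (motive := fun _ => ℕ) 0
      (fun j acc => Nat.xor acc (((a >>> j) &&& onesMask) * rowC b j)) n) < 2 ^ 676 := by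
    intro n
    induction n with
    | zero => intro _; positivity
    | succ n ih => intro hn; exact Nat.xor_lt_two_pow (ih (by omega)) (summand_lt a b n (by omega))
  exact key 26 le_rfl

/-! ### The invariant coordinates -/

/-- The coordinates of the invariant space. -/
def sU (i : Fin 26) : Fin 52 := ⟨subIdx.getD i.val 0 % 52, Nat.mod_lt _ (by norm_num)⟩

/-- Membership in the invariant coordinates. -/
def inU (j : Fin 52) : Bool := subIdx.contains j.val

theorem sU_inj : Function.Injective sU := by decide +kernel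

theorem inU_iff : ∀ j : Fin 52, inU j = true ↔ ∃ i, sU i = j := by decide +kernel

/-- An entry of an element. -/
noncomputable def ent (g : ↥G2') (i j : Fin 52) : K2 :=
  ((g : GL chevF4.Idx K2) : Matrix chevF4.Idx chevF4.Idx K2) (finSumFinEquiv.symm i)
    (finSumFinEquiv.symm j)

theorem ent_mul (g h : ↥G2') (i j : Fin 52) : ent (g * h) i j = ∑ l, ent g i l * ent h l j := by
  rw [ent, Subgroup.coe_mul, Units.val_mul, Matrix.mul_apply]
  exact (Equiv.sum_comp finSumFinEquiv.symm fun x =>
    ((g : GL chevF4.Idx K2) : Matrix chevF4.Idx chevF4.Idx K2) (finSumFinEquiv.symm i) x *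
      ((h : GL chevF4.Idx K2) : Matrix chevF4.Idx chevF4.Idx K2) x (finSumFinEquiv.symm j)).symm

theorem ent_one (i j : Fin 52) : ent 1 i j = if i = j then 1 else 0 := by
  rw [ent, OneMemClass.coe_one, Units.val_one, Matrix.one_apply]
  exact if_congr finSumFinEquiv.symm.injective.eq_iff rfl rfl

theorem ent_gel (k : Fin 4) (i j : Fin 52) :
    ent (gel k) i j = bit K2 (((bword chevF4 (gw k.val)).getD i.val 0).testBit j.val) := by
  show (gmat k.val : Matrix chevF4.Idx chevF4.Idx K2) _ _ = _
  rw [gmat, checkedF4.coe_wordRt, ones, ← evalB_bword chevF4 two_zero, evalB, Matrix.of_apply]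
  erw [Equiv.apply_symm_apply, Equiv.apply_symm_apply]

/-- The space is invariant. -/
def Inv' (g : ↥G2') : Prop := ∀ (a : Fin 26) (j : Fin 52), inU j = false → ent g (sU a) j = 0

theorem inv_gel_check : ∀ k : Fin 4, ∀ a : Fin 26, ∀ j : Fin 52, inU j = false →
    ((bword chevF4 (gw k.val)).getD (sU a).val 0).testBit j.val = false := by decide +kernel

theorem inv_all (g : ↥G2') : Inv' g := by
  have hg : g ∈ Submonoid.closure (Set.range gel) := by
    have h1 : g ∈ (Subgroup.closure (Set.range gel)).toSubmonoid := by rw [gen_top]; trivial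
    have : Finite ↥G2' := inferInstance
    rwa [Subgroup.closure_toSubmonoid_of_finite] at h1
  induction hg using Submonoid.closure_induction with
  | mem x hx =>
    obtain ⟨k, rfl⟩ := hx
    intro a j hj
    rw [ent_gel, inv_gel_check k a j hj]
    rfl
  | one =>
    intro a j hj
    rw [ent_one, if_neg]
    rintro rfl
    rw [(inU_iff _).2 ⟨a, rfl⟩] at hj
    cases hj
  | mul x y _ _ hx hy =>
    intro a j hj
    rw [ent_mul]
    refine Finset.sum_eq_zero fun l _ => ?_
    by_cases hl : inU l = true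
    · obtain ⟨b, rfl⟩ := (inU_iff l).1 hl
      rw [hy b j hj, mul_zero]
    · rw [hx a l (eq_false_of_ne_true hl), zero_mul]

theorem ent_mul_sub (g h : ↥G2') (a c : Fin 26) :
    ent (g * h) (sU a) (sU c) = ∑ b, ent g (sU a) (sU b) * ent h (sU b) (sU c) := by
  classical
  rw [ent_mul, ← Finset.sum_image (f := fun l => ent g (sU a) l * ent h l (sU c))
    fun x _ y _ e => sU_inj e]
  refine (Finset.sum_subset (Finset.subset_univ _) fun l _ hl => ?_).symm
  rw [inv_all g a l, zero_mul]
  by_contra hc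
  obtain ⟨b, rfl⟩ := (inU_iff l).1 (eq_true_of_ne_false hc)
  exact hl (Finset.mem_image_of_mem _ (Finset.mem_univ b))

/-- The rows of an element on the invariant coordinates. -/
noncomputable def codeRows (g : ↥G2') : List ℕ :=
  List.ofFn fun a : Fin 26 => Nat.ofBits fun c : Fin 26 => decide (ent g (sU a) (sU c) = 1)

/-- The code of an element. -/
noncomputable def codeG (g : ↥G2') : ℕ := pk (codeRows g)

theorem codeRows_lt (g : ↥G2') : ∀ x ∈ codeRows g, x < 2 ^ 26 := fun x hx => by
  obtain ⟨a, rfl⟩ := List.mem_ofFn.1 hx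
  exact Nat.ofBits_lt_two_pow _

theorem cbit_codeG (g : ↥G2') (a c : Fin 26) :
    bit K2 (cbit (codeG g) a.val c.val) = ent g (sU a) (sU c) := by
  rw [cbit, codeG, testBit_pk _ (codeRows_lt g) _ _ c.isLt, codeRows,
    List.getD_eq_getElem _ _ (by simp), List.getElem_ofFn, Nat.testBit_ofBits_lt _ _ c.isLt]
  have : ∀ x : K2, bit K2 (decide (x = 1)) = x := by decide
  exact this _

theorem codeG_lt (g : ↥G2') : codeG g < 2 ^ 676 :=
  (pk_lt _ (codeRows_lt g)).trans_le (Nat.pow_le_pow_right (by norm_num) (by simp [codeRows]))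

theorem code_ext {x y : ℕ} (hx : x < 2 ^ 676) (hy : y < 2 ^ 676)
    (h : ∀ a c : Fin 26, bit K2 (cbit x a.val c.val) = bit K2 (cbit y a.val c.val)) : x = y := by
  apply Nat.eq_of_testBit_eq
  intro n
  by_cases hn : n < 676
  · obtain ⟨i, k, hk, rfl⟩ : ∃ i k, k < 26 ∧ n = 26 * i + k :=
      ⟨n / 26, n % 26, Nat.mod_lt _ (by norm_num), (Nat.div_add_mod n 26).symm⟩
    have := h ⟨i, by omega⟩ ⟨k, hk⟩
    simp only [cbit] at this
    revert this
    cases x.testBit (26 * i + k) <;> cases y.testBit (26 * i + k) <;> simp [bit]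
  · have hle : 2 ^ 676 ≤ 2 ^ n := Nat.pow_le_pow_right (by norm_num) (by omega)
    rw [Nat.testBit_lt_two_pow (hx.trans_le hle), Nat.testBit_lt_two_pow (hy.trans_le hle)]

theorem codeG_mul (g h : ↥G2') : codeG (g * h) = mulC (codeG g) (codeG h) := by
  refine code_ext (codeG_lt _) (mulC_lt _ _) fun a c => ?_
  rw [cbit_codeG, ent_mul_sub, mulC_spec K2 two_zero _ _ _ _ a.isLt c.isLt]
  exact Finset.sum_congr rfl fun b _ => by rw [cbit_codeG, cbit_codeG]

/-- The code of the identity. -/
def oneC : ℕ := pk ((List.range 26).map fun i => 2 ^ i)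

theorem oneC_lt : oneC < 2 ^ 676 := by decide +kernel

theorem oneC_spec : ∀ a c : Fin 26, bit K2 (cbit oneC a.val c.val) = if sU a = sU c then 1 else 0 := by
  decide +kernel

theorem codeG_one : codeG 1 = oneC :=
  code_ext (codeG_lt _) oneC_lt fun a c => by rw [cbit_codeG, ent_one, oneC_spec]

theorem gen_codes : ∀ k : Fin 4, ∀ a c : Fin 26,
    cbit (genCodes.getD k.val 0) a.val c.val =
      ((bword chevF4 (gw k.val)).getD (sU a).val 0).testBit (sU c).val := by decide +kernel

theorem genCodes_lt : ∀ k : Fin 4, genCodes.getD k.val 0 < 2 ^ 676 := by decide +kernel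

theorem codeG_gel (k : Fin 4) : codeG (gel k) = genCodes.getD k.val 0 :=
  code_ext (codeG_lt _) (genCodes_lt k) fun a c => by rw [cbit_codeG, ent_gel, gen_codes]

/-- The code of a word. -/
noncomputable def wordC (w : List (Fin 4)) : ℕ :=
  w.foldr (fun k acc => mulC (genCodes.getD k.val 0) acc) oneC

theorem codeG_gprod : ∀ w : List (Fin 4), codeG (gprod w) = wordC w
  | [] => by simp [gprod, wordC, codeG_one]
  | k :: w => by
    rw [show gprod (k :: w) = gel k * gprod w by simp [gprod], codeG_mul, codeG_gel, codeG_gprod w]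
    rfl

/-! ### The derived subgroup -/

/-- The parity of the colour-changing letters is even. -/
def evenW (w : List (Fin 4)) : Bool := w.countP (fun k => decide (2 ≤ k.val)) % 2 == 0

theorem gel_mem_iff : ∀ k : Fin 4, gel k ∈ commutator ↥G2' ↔ k.val < 2 := by
  obtain ⟨e1, e2, e3, e4⟩ := ab_words
  have rel : ∀ w w' : List (Fin 4),
      bword chevF4 (cat (w.map Fin.val)) = bword chevF4 (cat (w'.map Fin.val)) →
      (gprod w ∈ commutator ↥G2' ↔ gprod w' ∈ commutator ↥G2') := fun w w' h => by
    rw [show gprod w = gprod w' from Subtype.ext (by rw [coe_gprod, coe_gprod, wordRt_eq_of_bword h])]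
  have r1 := rel [0, 1, 0, 2, 0, 1, 3] [3, 1, 0, 2, 0, 1] e1
  have r2 := rel [0, 1, 2, 0, 1, 3, 1] [1, 3, 1, 0, 2, 0] e2
  have r3 := rel [3, 3, 2] [2, 2, 3] e3
  simp only [gprod, List.map_cons, List.map_nil, List.prod_cons, List.prod_nil, mul_one,
    Subgroup.mul_mem_iff_of_index_two index_eq_two] at r1 r2 r3
  have h2 := gel_two_not_mem
  generalize hP0 : (gel 0 ∈ commutator ↥G2') = P0 at r1 r2 r3 h2
  generalize hP1 : (gel 1 ∈ commutator ↥G2') = P1 at r1 r2 r3 h2
  generalize hP2 : (gel 2 ∈ commutator ↥G2') = P2 at r1 r2 r3 h2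
  generalize hP3 : (gel 3 ∈ commutator ↥G2') = P3 at r1 r2 r3 h2
  have key : P0 ∧ P1 ∧ ¬ P2 ∧ ¬ P3 := by
    clear hP0 hP1 hP2 hP3 rel e1 e2 e3 e4
    by_cases P0 <;> by_cases P1 <;> by_cases P2 <;> by_cases P3 <;> simp_all
  obtain ⟨k0, k1, k2, k3⟩ := key
  intro k
  fin_cases k
  · simp only [Fin.zero_eta, show (0 : ℕ) < 2 by norm_num, iff_true]
    exact hP0 ▸ k0
  · simp only [Fin.mk_one, show (1 : ℕ) < 2 by norm_num, iff_true]
    exact hP1 ▸ k1
  · exact iff_of_false (hP2 ▸ k2) (by norm_num)
  · exact iff_of_false (hP3 ▸ k3) (by norm_num)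

theorem gprod_mem_iff : ∀ w : List (Fin 4), gprod w ∈ commutator ↥G2' ↔ evenW w = true
  | [] => by simp [gprod, evenW]
  | k :: w => by
    rw [show gprod (k :: w) = gel k * gprod w by simp [gprod],
      Subgroup.mul_mem_iff_of_index_two index_eq_two, gel_mem_iff, gprod_mem_iff w, evenW, evenW,
      List.countP_cons]
    by_cases hk : 2 ≤ k.val <;> simp [hk] <;> omega

/-- An element of the Tits group with a given code. -/
theorem exists_code {w : List (Fin 4)} (h : evenW w = true) :
    ∃ g : TitsGroup, codeG g.1 = wordC w :=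
  ⟨⟨gprod w, (gprod_mem_iff w).2 h⟩, codeG_gprod w⟩

theorem card_tits : Nat.card TitsGroup = 2 ^ 11 * 3 ^ 3 * 5 ^ 2 * 13 := card_derived

theorem tits_witness : evenW [0] = true ∧ wordC [0] ≠ oneC := by decide +kernel

theorem codeT_inj : Function.Injective fun g : TitsGroup => codeG g.1 := by
  let Kr : Subgroup TitsGroup :=
    { carrier := {g | codeG g.1 = oneC}
      one_mem' := codeG_one
      mul_mem' := fun {a b} (ha : codeG a.1 = oneC) (hb : codeG b.1 = oneC) => by
        show codeG (a.1 * b.1) = oneC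
        rw [codeG_mul, ha, hb, ← codeG_one, ← codeG_mul, one_mul]
      inv_mem' := fun {a} (ha : codeG a.1 = oneC) => by
        show codeG a.1⁻¹ = oneC
        have h : codeG (a.1⁻¹ * a.1) = oneC := by rw [inv_mul_cancel, codeG_one]
        rwa [codeG_mul, ha, ← codeG_one, ← codeG_mul, mul_one, codeG_one] at h }
  haveI hn : Kr.Normal := ⟨fun n (hn : codeG n.1 = oneC) g => by
    show codeG (g.1 * n.1 * g.1⁻¹) = oneC
    rw [codeG_mul, codeG_mul, hn, ← codeG_one, ← codeG_mul, mul_one, ← codeG_mul, mul_inv_cancel]⟩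
  haveI := tits_facts.1
  have hbot : Kr = ⊥ := hn.eq_bot_or_eq_top.resolve_right fun htop => by
    obtain ⟨g, hg⟩ := exists_code tits_witness.1
    have : g ∈ Kr := by rw [htop]; trivial
    exact tits_witness.2 (hg.symm.trans this)
  intro a b h
  have : a⁻¹ * b ∈ Kr := by
    show codeG (a.1⁻¹ * b.1) = oneC
    rw [codeG_mul, ← show codeG a.1 = codeG b.1 from h, ← codeG_mul, inv_mul_cancel, codeG_one]
  rw [hbot, Subgroup.mem_bot, inv_mul_eq_one] at this
  exact this

/-- The coding of the Tits group. -/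
noncomputable def coding : H97.SchurCert.Coding TitsGroup mulC oneC where
  code g := codeG g.1
  inj := codeT_inj
  map_one := codeG_one
  map_mul a b := codeG_mul a.1 b.1

end H26.TitsSchur
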