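import Cfsg.Agent.H26.TitsCoding
import Cfsg.Agent.H97.SchurMathieu

/-! The Schur multiplier of the Tits group is trivial. -/

set_option autoImplicit false
set_option maxRecDepth 100000

namespace H26.TitsSchur

open Cfsg.Lie H97.SchurCert

/-- all parts of one certificate -/
noncomputable def certOK (D : Data) (W : List (List (Fin 4))) : Bool :=
  (W.all evenW) && decide (W.map wordC = D.syms) && rulesOK mulC oneC D && defsOK D && pcOK D &&
    sizeOK mulC oneC D && combosOK D

theorem cert2 : certOK data2 words2 = true := by decide +kernel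
theorem cert3 : certOK data3 words3 = true := by decide +kernel
theorem cert5 : certOK data5 words5 = true := by decide +kernel

theorem not_dvd {Γ : Type} [Group Γ] [Finite Γ] (D : Data) [Fact D.p.Prime]
    (W : List (List (Fin 4))) (h : certOK D W = true) {M : ℕ}
    (hcard : 17971200 = D.p ^ D.n * M) (hM : ¬ D.p ∣ M)
    (σ : Γ →* TitsGroup) (hσ : Cfsg.IsStemExtension σ) : ¬ D.p ∣ Nat.card σ.ker := by
  simp only [certOK, Bool.and_eq_true, List.all_eq_true, decide_eq_true_eq] at h
  obtain ⟨⟨⟨⟨⟨⟨h0, h1⟩, h2⟩, h3⟩, h4⟩, h5⟩, h6⟩ := h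
  refine not_dvd_card_ker coding D (fun v hv => ?_) h2 h3 h4 h5 h6
    (by rw [card_tits]; exact hcard) hM σ hσ
  rw [← h1, List.mem_map] at hv
  obtain ⟨w, hw, rfl⟩ := hv
  exact exists_code (h0 w hw)

theorem hasTrivialMultiplier_Tits : Cfsg.HasCyclicSchurMultiplier TitsGroup 1 := by
  refine H97.hasTrivialMultiplier fun Γ _ _ σ hσ => ?_
  rw [← Subgroup.card_eq_one]
  by_contra hne
  obtain ⟨p, hp, hdvd⟩ := Nat.exists_prime_and_dvd hne
  haveI := Fact.mk hp
  have hsq := sq_dvd_of_dvd_card_ker σ hσ hdvd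
  rw [card_tits] at hsq
  norm_num at hsq
  have hmem : p ∈ Nat.primeFactorsList 17971200 :=
    (Nat.mem_primeFactorsList (by norm_num)).2 ⟨hp, (dvd_pow_self p two_ne_zero).trans hsq⟩
  simp only [Nat.primeFactorsList_ofNat, List.mem_cons, List.not_mem_nil, or_false] at hmem
  have h4 : p = 2 ∨ p = 3 ∨ p = 5 ∨ p = 13 := by omega
  rcases h4 with rfl | rfl | rfl | rfl
  · haveI : Fact data2.p.Prime := ⟨Nat.prime_two⟩
    exact not_dvd data2 words2 cert2 (M := 8775) (by decide) (by decide) σ hσ hdvd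
  · haveI : Fact data3.p.Prime := ⟨Nat.prime_three⟩
    exact not_dvd data3 words3 cert3 (M := 665600) (by decide) (by decide) σ hσ hdvd
  · haveI : Fact data5.p.Prime := ⟨Nat.prime_five⟩
    exact not_dvd data5 words5 cert5 (M := 718848) (by decide) (by decide) σ hσ hdvd
  · norm_num at hsq

end H26.TitsSchur
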