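import Mathlib

/-!
Fixed points of a 2-subgroup permuting the weights of a normal abelian subgroup of odd order.
-/

set_option autoImplicit false
set_option linter.all false

open scoped Pointwise

namespace H26

variable {S : Type*} [Group S] [Finite S] {K : Type*} [Field K] {V : Type*} [AddCommGroup V] [Module K V]
  (σ : S →* Module.End K V) (A : Subgroup S) [A.Normal] [Fintype A]

/-- The twist of a character of a normal subgroup. -/
noncomputable def ctw (h : S) (χ : A →* Kˣ) : A →* Kˣ := χ.comp (MulAut.conjNormal h⁻¹).toMonoidHom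

omit [Finite S] [Fintype A] in
theorem ctw_apply (h : S) (χ : A →* Kˣ) (a : A) : ctw A h χ a = χ (MulAut.conjNormal h⁻¹ a) := rfl

/-- The action of `S` on characters of `A`. -/
@[reducible] noncomputable def ctwAction : MulAction S (A →* Kˣ) where
  smul h χ := ctw A h χ
  one_smul χ := by
    refine MonoidHom.ext fun a => ?_
    show χ (MulAut.conjNormal (1 : S)⁻¹ a) = χ a
    simp
  mul_smul g h χ := by
    refine MonoidHom.ext fun a => ?_
    show χ (MulAut.conjNormal (g * h)⁻¹ a) = χ (MulAut.conjNormal h⁻¹ (MulAut.conjNormal g⁻¹ a))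
    rw [mul_inv_rev, map_mul, MulAut.mul_apply]

/-- Projection on a weight space. -/
noncomputable def wproj (χ : A →* Kˣ) : Module.End K V :=
  (Fintype.card A : K)⁻¹ • ∑ a : A, ((χ a)⁻¹ : Kˣ).1 • σ (a : S)

omit [Finite S] [A.Normal] in
theorem sigma_wproj (χ : A →* Kˣ) (a : A) (v : V) :
    σ (a : S) (wproj σ A χ v) = (χ a : K) • wproj σ A χ v := by
  simp only [wproj, LinearMap.smul_apply, LinearMap.sum_apply, map_smul, map_sum]
  rw [smul_comm (χ a : K) ((Fintype.card A : K)⁻¹)]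
  congr 1
  rw [Finset.smul_sum]
  refine Fintype.sum_equiv (Equiv.mulLeft a) _ _ fun b => ?_
  simp only [Equiv.coe_mulLeft, Subgroup.coe_mul, map_mul, Module.End.mul_apply, smul_smul,
    mul_inv_rev, Units.val_mul]
  rw [mul_comm ((χ b)⁻¹ : Kˣ).1, ← mul_assoc, Units.mul_inv, one_mul]

omit [Finite S] [A.Normal] in
theorem sum_char_eq_zero {χ : A →* Kˣ} (h : χ ≠ 1) : ∑ a : A, (χ a : K) = 0 := by
  obtain ⟨b, hb⟩ : ∃ b, χ b ≠ 1 := by
    by_contra hc; push Not at hc; exact h (MonoidHom.ext hc)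
  have h1 : ∑ a : A, (χ a : K) = (χ b : K) * ∑ a : A, (χ a : K) := by
    rw [Finset.mul_sum]
    refine (Fintype.sum_equiv (Equiv.mulLeft b) _ _ fun a => ?_).symm
    rw [Equiv.coe_mulLeft, map_mul, Units.val_mul]
  have h2 : ((χ b : K) - 1) * ∑ a : A, (χ a : K) = 0 := by rw [sub_mul, one_mul, ← h1, sub_self]
  rcases mul_eq_zero.1 h2 with h3 | h3
  · exact absurd (Units.ext (sub_eq_zero.1 h3)) hb
  · exact h3

omit [Finite S] [A.Normal] in
theorem wproj_orth {χ ψ : A →* Kˣ} (hne : χ ≠ ψ) (v : V) :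
    wproj σ A χ (wproj σ A ψ v) = 0 := by
  rw [wproj]
  simp only [LinearMap.smul_apply, LinearMap.sum_apply, sigma_wproj, smul_smul, ← Finset.sum_smul]
  have : ∑ a : A, ((χ a)⁻¹ : Kˣ).1 * (ψ a : K) = 0 := by
    have h1 : (ψ * χ⁻¹ : A →* Kˣ) ≠ 1 := fun e => hne (by
      ext a
      have := congrArg (fun f : A →* Kˣ => (f a).1) e
      have h2 : ψ a * (χ a)⁻¹ = 1 := Units.ext this
      rw [mul_inv_eq_one.1 h2])
    rw [← sum_char_eq_zero A h1]
    exact Finset.sum_congr rfl fun a _ => by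
      rw [MonoidHom.mul_apply, MonoidHom.inv_apply, Units.val_mul, mul_comm]
  rw [this]
  simp

omit [Finite S] [A.Normal] in
theorem wproj_idem (hcard : (Fintype.card A : K) ≠ 0) (χ : A →* Kˣ) (v : V) :
    wproj σ A χ (wproj σ A χ v) = wproj σ A χ v := by
  show ((Fintype.card A : K)⁻¹ • ∑ a : A, ((χ a)⁻¹ : Kˣ).1 • σ (a : S)) (wproj σ A χ v) = _
  simp only [LinearMap.smul_apply, LinearMap.sum_apply, sigma_wproj, smul_smul, Units.inv_mul, one_smul,
    Finset.sum_const, Finset.card_univ, ← Nat.cast_smul_eq_nsmul K, smul_smul, inv_mul_cancel₀ hcard, one_smul]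

omit [Finite S] in
theorem sigma_comm_wproj (h : S) (χ : A →* Kˣ) (v : V) :
    σ h (wproj σ A χ v) = wproj σ A (ctw A h χ) (σ h v) := by
  simp only [wproj, LinearMap.smul_apply, LinearMap.sum_apply, map_smul, map_sum]
  congr 1
  refine Fintype.sum_equiv (MulAut.conjNormal h).toEquiv _ _ fun a => ?_
  rw [MulEquiv.toEquiv_eq_coe, MulEquiv.coe_toEquiv, ctw_apply, ← MulAut.mul_apply, ← map_mul,
    inv_mul_cancel, map_one, MulAut.one_apply, ← Module.End.mul_apply, ← Module.End.mul_apply, ← map_mul,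
    ← map_mul, MulAut.conjNormal_apply]
  congr 3
  group

omit [Finite S] [A.Normal] in
theorem sum_wproj [Fintype (A →* Kˣ)] (hcard : (Fintype.card A : K) ≠ 0)
    (hsep : ∀ a : A, a ≠ 1 → ∃ χ : A →* Kˣ, χ a ≠ 1) (hnum : Fintype.card (A →* Kˣ) = Fintype.card A)
    (v : V) : ∑ χ : A →* Kˣ, wproj σ A χ v = v := by
  classical
  simp only [wproj, LinearMap.smul_apply, LinearMap.sum_apply, ← Finset.smul_sum]
  rw [Finset.sum_comm]
  simp only [← Finset.sum_smul]
  rw [Fintype.sum_eq_single (1 : A)]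
  · simp [hnum, smul_smul, inv_mul_cancel₀ hcard]
  · intro a ha
    have hz : ∑ χ : A →* Kˣ, ((χ a)⁻¹ : Kˣ).1 = 0 := by
      obtain ⟨ψ, hψ⟩ := hsep a ha
      have h1 : ∑ χ : A →* Kˣ, ((χ a)⁻¹ : Kˣ).1 =
          ((ψ a)⁻¹ : Kˣ).1 * ∑ χ : A →* Kˣ, ((χ a)⁻¹ : Kˣ).1 := by
        rw [Finset.mul_sum]
        refine (Fintype.sum_equiv (Equiv.mulLeft ψ) _ _ fun χ => ?_).symm
        rw [Equiv.coe_mulLeft, MonoidHom.mul_apply, mul_inv_rev, Units.val_mul, mul_comm]
      have h2 : (((ψ a)⁻¹ : Kˣ).1 - 1) * ∑ χ : A →* Kˣ, ((χ a)⁻¹ : Kˣ).1 = 0 := by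
        rw [sub_mul, one_mul, ← h1, sub_self]
      rcases mul_eq_zero.1 h2 with h3 | h3
      · exact absurd (inv_eq_one.1 (Units.ext (sub_eq_zero.1 h3))) hψ
      · exact h3
    rw [hz, zero_smul]

/-- A `2`-group on a nonzero finite group of exponent `2` inside `V` fixes a nonzero vector. -/
theorem exists_fixed_mem [CharP K 2] (T : Subgroup S) (hT : IsPGroup 2 T) (v : V) (hv : v ≠ 0) :
    ∃ w : V, w ≠ 0 ∧ (∀ t ∈ T, σ t w = w) ∧
      w ∈ AddSubgroup.closure (Set.range fun t : T => σ (t : S) v) := by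
  classical
  haveI : Fact (Nat.Prime 2) := ⟨Nat.prime_two⟩
  have h2 : ∀ x : V, 2 • x = 0 := fun x => by
    rw [← Nat.cast_smul_eq_nsmul K, CharP.cast_eq_zero, zero_smul]
  letI : Module (ZMod 2) V := AddCommGroup.zmodModule h2
  set W := Submodule.span (ZMod 2) (Set.range fun t : T => σ (t : S) v) with hW
  haveI : Module.Finite (ZMod 2) W := Module.Finite.span_of_finite _ (Set.finite_range _)
  haveI : Finite W := Module.finite_of_finite (ZMod 2)
  have hmem : ∀ (t : T) (w : V), w ∈ W → σ (t : S) w ∈ W := by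
    intro t w hw
    induction hw using Submodule.span_induction with
    | mem x hx =>
      obtain ⟨u, rfl⟩ := hx
      exact Submodule.subset_span ⟨t * u, by
        show σ ((t * u : T) : S) v = σ (t : S) (σ (u : S) v)
        rw [Subgroup.coe_mul, map_mul, Module.End.mul_apply]⟩
    | zero => rw [map_zero]; exact zero_mem _
    | add x y _ _ hx hy => rw [map_add]; exact add_mem hx hy
    | smul c x _ hx =>
      rw [ZMod.map_smul (σ (t : S)) c x]
      exact Submodule.smul_mem _ c hx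
  let act : MulAction T W :=
    { smul := fun t w => ⟨σ (t : S) w.1, hmem t w.1 w.2⟩
      one_smul := fun w => Subtype.ext (show σ ((1 : T) : S) w.1 = w.1 by simp)
      mul_smul := fun t u w => Subtype.ext
        (show σ ((t * u : T) : S) w.1 = σ (t : S) (σ (u : S) w.1) by
          rw [Subgroup.coe_mul, map_mul, Module.End.mul_apply]) }
  have hW0 : 2 ∣ Nat.card W := by
    rw [Module.natCard_eq_pow_finrank (K := ZMod 2), Nat.card_zmod]
    refine dvd_pow_self 2 fun h0 => ?_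
    have hvW : v ∈ W := Submodule.subset_span ⟨1, by simp⟩
    haveI := Module.finrank_zero_iff.1 h0
    exact hv (congrArg Subtype.val (Subsingleton.elim (⟨v, hvW⟩ : W) 0))
  have hz : (0 : W) ∈ MulAction.fixedPoints T W := fun t => Subtype.ext (map_zero (σ (t : S)))
  obtain ⟨w, hwf, hw0⟩ := hT.exists_fixed_point_of_prime_dvd_card_of_fixed_point W hW0 hz
  refine ⟨w.1, fun h => hw0 (Subtype.ext h.symm), fun t ht => congrArg Subtype.val (hwf ⟨t, ht⟩), ?_⟩
  have hle : ∀ x ∈ W, x ∈ AddSubgroup.closure (Set.range fun t : T => σ (t : S) v) := by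
    intro x hx
    induction hx using Submodule.span_induction with
    | mem x hx => exact AddSubgroup.subset_closure hx
    | zero => exact zero_mem _
    | add x y _ _ hx hy => exact add_mem hx hy
    | smul c x _ hx => exact ZMod.smul_mem hx c
  exact hle w.1 w.2

open MulAction in
/-- The main count. -/
theorem weight_fixed [CharP K 2] [FiniteDimensional K V] [Nontrivial V]
    (hcard : (Fintype.card A : K) ≠ 0)
    (hsep : ∀ a : A, a ≠ 1 → ∃ χ : A →* Kˣ, χ a ≠ 1)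
    (hnum : Nat.card (A →* Kˣ) = Nat.card A)
    (hfix0 : ∀ v : V, (∀ a ∈ A, σ a v = v) → v = 0)
    (T : Subgroup S) (hT : IsPGroup 2 T) (x : S) {q : ℕ} (hq : q.Prime) (hq2 : q ≠ 2) (hx : orderOf x = q)
    (hfree : ∀ χ : A →* Kˣ, ctw A x χ = χ → χ = 1)
    (F : Submodule K V) (hF : ∀ v, v ∈ F ↔ ∀ t ∈ T, σ t v = v) :
    3 ≤ Module.finrank K F ∨ (Module.finrank K F = 2 ∧ ∃ v ∈ F, σ x v ∉ F) := by
  classical
  haveI : Fact (Nat.Prime 2) := ⟨Nat.prime_two⟩
  haveI := Fact.mk hq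
  haveI : Finite (A →* Kˣ) := Nat.finite_of_card_ne_zero (hnum ▸ Nat.card_pos.ne')
  letI := Fintype.ofFinite (A →* Kˣ)
  letI : MulAction S (A →* Kˣ) := ctwAction A
  have hsum := sum_wproj σ A hcard hsep (by
    rwa [← Nat.card_eq_fintype_card, ← Nat.card_eq_fintype_card])
  let supp : V → Set (A →* Kˣ) := fun v => {χ | wproj σ A χ v ≠ 0}
  have hsupp_one : ∀ v, (1 : A →* Kˣ) ∉ supp v := by
    intro v h
    refine h (hfix0 _ fun a ha => ?_)
    simpa using sigma_wproj σ A 1 ⟨a, ha⟩ v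
  have hsupp_ne : ∀ v, v ≠ 0 → (supp v).Nonempty := by
    intro v hv
    by_contra h
    rw [Set.not_nonempty_iff_eq_empty, Set.eq_empty_iff_forall_notMem] at h
    refine hv ((hsum v).symm.trans (Finset.sum_eq_zero fun χ _ => ?_))
    simpa [supp] using h χ
  have hsupp_map : ∀ (h : S) (v : V) (χ : A →* Kˣ), χ ∈ supp v → h • χ ∈ supp (σ h v) := by
    intro h v χ hχ
    show wproj σ A (ctw A h χ) (σ h v) ≠ 0
    rw [← sigma_comm_wproj]
    intro h0
    refine hχ ?_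
    have := congrArg (σ h⁻¹) h0
    rwa [← Module.End.mul_apply, ← map_mul, inv_mul_cancel, map_one, Module.End.one_apply, map_zero] at this
  -- the orbit vectors
  have horb : ∀ χ : A →* Kˣ, (∃ v, χ ∈ supp v) → ∃ w ∈ F, w ≠ 0 ∧ supp w = orbit T χ := by
    rintro χ ⟨v, hv⟩
    obtain ⟨w, hw0, hwf, hwm⟩ := exists_fixed_mem σ T hT (wproj σ A χ v) hv
    refine ⟨w, (hF w).2 hwf, hw0, ?_⟩
    have hsub : supp w ⊆ orbit T χ := by
      intro ψ hψ
      by_contra hno
      refine hψ ?_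
      let N : AddSubgroup V := (wproj σ A ψ).toAddMonoidHom.ker
      refine (AddSubgroup.closure_le N).2 ?_ hwm
      rintro _ ⟨t, rfl⟩
      show wproj σ A ψ (σ (t : S) (wproj σ A χ v)) = 0
      rw [sigma_comm_wproj]
      exact wproj_orth σ A (fun e => hno ⟨t, e.symm⟩) _
    refine Set.Subset.antisymm hsub ?_
    obtain ⟨ψ, hψ⟩ := hsupp_ne w hw0
    rintro _ ⟨u, rfl⟩
    obtain ⟨t, ht⟩ := hsub hψ
    have ht' : ψ = (t : S) • χ := ht.symm
    have h1 := hsupp_map (((u : T) : S) * (t : S)⁻¹) w ψ hψ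
    rw [hwf _ (mul_mem u.2 (inv_mem t.2))] at h1
    rw [ht', ← mul_smul, inv_mul_cancel_right] at h1
    exact h1
  have hinvT : ∀ w ∈ F, ∀ t ∈ T, ∀ χ ∈ supp w, t • χ ∈ supp w := by
    intro w hw t ht χ hχ
    have := hsupp_map t w χ hχ
    rwa [(hF w).1 hw t ht] at this
  -- orbits are 2-groups, x-invariant sets are divisible by q
  have hxinv : ∀ Ω : Set (A →* Kˣ), (1 : A →* Kˣ) ∉ Ω → (∀ j : ℕ, ∀ χ ∈ Ω, x ^ j • χ ∈ Ω) →
      q ∣ Nat.card Ω := by
    intro Ω h1 hinv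
    let act : MulAction (Subgroup.zpowers x) Ω :=
      { smul := fun g χ => ⟨(g : S) • χ.1, by
          obtain ⟨j, hj⟩ := (mem_powers_iff_mem_zpowers (x := x) (y := (g : S))).2 g.2
          rw [← show x ^ j = (g : S) from hj]
          exact hinv j χ.1 χ.2⟩
        one_smul := fun χ => Subtype.ext (one_smul S χ.1)
        mul_smul := fun g h χ => Subtype.ext (mul_smul (g : S) (h : S) χ.1) }
    have hP : IsPGroup q (Subgroup.zpowers x) :=
      IsPGroup.of_card (n := 1) (by rw [Nat.card_zpowers, hx, pow_one])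
    have hemp : IsEmpty (fixedPoints (Subgroup.zpowers x) Ω) := by
      refine ⟨fun ⟨χ, hχ⟩ => h1 ?_⟩
      have h2 : ctw A x χ.1 = χ.1 := congrArg Subtype.val (hχ ⟨x, Subgroup.mem_zpowers x⟩)
      exact hfree _ h2 ▸ χ.2
    have h3 := hP.card_modEq_card_fixedPoints Ω
    rw [@Nat.card_of_isEmpty _ hemp] at h3
    exact Nat.modEq_zero_iff_dvd.1 h3
  have horb2 : ∀ χ : A →* Kˣ, ¬ q ∣ Nat.card (orbit T χ) := by
    intro χ hd
    obtain ⟨k, hk⟩ := hT.card_orbit χ
    rw [hk] at hd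
    exact hq2 ((Nat.prime_dvd_prime_iff_eq hq Nat.prime_two).1 (hq.dvd_of_dvd_pow hd))
  -- two orbits
  obtain ⟨v0, hv0⟩ := exists_ne (0 : V)
  obtain ⟨χ1, hχ1⟩ := hsupp_ne v0 hv0
  set Λ : Set (A →* Kˣ) := {χ | ∃ v, χ ∈ supp v} with hΛ
  have hΛ1 : (1 : A →* Kˣ) ∉ Λ := fun ⟨v, hv⟩ => hsupp_one v hv
  have hΛx : ∀ j : ℕ, ∀ χ ∈ Λ, x ^ j • χ ∈ Λ := fun j χ ⟨v, hv⟩ => ⟨_, hsupp_map (x ^ j) v χ hv⟩
  have hΛT : ∀ χ ∈ Λ, orbit T χ ⊆ Λ := by
    rintro χ ⟨v, hv⟩ _ ⟨t, rfl⟩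
    exact ⟨_, hsupp_map (t : S) v χ hv⟩
  obtain ⟨χ2, hχ2, hχ21⟩ : ∃ χ2 ∈ Λ, χ2 ∉ orbit T χ1 := by
    by_contra h
    push Not at h
    refine horb2 χ1 ?_
    rw [show orbit T χ1 = Λ from Set.Subset.antisymm (hΛT _ ⟨v0, hχ1⟩) h]
    exact hxinv Λ hΛ1 hΛx
  obtain ⟨w1, hw1F, hw1, hs1⟩ := horb χ1 ⟨v0, hχ1⟩
  obtain ⟨w2, hw2F, hw2, hs2⟩ := horb χ2 hχ2
  have hdisj : ∀ {χ ψ : A →* Kˣ}, ψ ∉ orbit T χ → ∀ θ, θ ∈ orbit T ψ → θ ∉ orbit T χ := by
    intro χ ψ hne θ h1 h2
    exact hne ((orbit_eq_iff.2 h2).symm.trans (orbit_eq_iff.2 h1) ▸ mem_orbit_self ψ)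
  have hzero : ∀ {w : V} {θ : A →* Kˣ}, θ ∉ supp w → wproj σ A θ w = 0 := fun h => not_not.1 h
  have hcoef : ∀ (w w' : V) (θ : A →* Kˣ) (a b : K), θ ∈ supp w → θ ∉ supp w' → a • w + b • w' = 0 → a = 0 := by
    intro w w' θ a b h1 h2 h0
    have := congrArg (wproj σ A θ) h0
    rw [map_add, map_smul, map_smul, hzero h2, smul_zero, add_zero, map_zero] at this
    exact (smul_eq_zero.1 this).resolve_right h1
  by_cases h3 : ∃ χ3 ∈ Λ, χ3 ∉ orbit T χ1 ∧ χ3 ∉ orbit T χ2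
  · left
    obtain ⟨χ3, hχ3, h31, h32⟩ := h3
    obtain ⟨w3, hw3F, hw3, hs3⟩ := horb χ3 hχ3
    have hli : LinearIndependent K ![(⟨w1, hw1F⟩ : F), ⟨w2, hw2F⟩, ⟨w3, hw3F⟩] := by
      rw [Fintype.linearIndependent_iff]
      intro g hg
      rw [Fin.sum_univ_three] at hg
      have hg' : g 0 • w1 + g 1 • w2 + g 2 • w3 = 0 := congrArg Subtype.val hg
      have e3 : g 2 = 0 := by
        have := congrArg (wproj σ A χ3) hg'
        rw [map_add, map_add, map_smul, map_smul, map_smul, hzero (hs1 ▸ h31), hzero (hs2 ▸ h32),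
          smul_zero, smul_zero, zero_add, zero_add, map_zero] at this
        exact (smul_eq_zero.1 this).resolve_right (hs3 ▸ mem_orbit_self χ3 : χ3 ∈ supp w3)
      rw [e3, zero_smul, add_zero] at hg'
      have e2 : g 1 = 0 := hcoef w2 w1 χ2 _ (g 0) (hs2 ▸ mem_orbit_self χ2) (hs1 ▸ hχ21)
        (by rw [add_comm]; exact hg')
      rw [e2, zero_smul, add_zero] at hg'
      have e1 : g 0 = 0 := (smul_eq_zero.1 hg').resolve_right hw1
      intro i
      fin_cases i <;> assumption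
    simpa using hli.fintype_card_le_finrank
  push Not at h3
  have hli : LinearIndependent K ![(⟨w1, hw1F⟩ : F), ⟨w2, hw2F⟩] := by
    rw [Fintype.linearIndependent_iff]
    intro g hg
    rw [Fin.sum_univ_two] at hg
    have hg' : g 0 • w1 + g 1 • w2 = 0 := congrArg Subtype.val hg
    have e2 : g 1 = 0 := hcoef w2 w1 χ2 _ (g 0) (hs2 ▸ mem_orbit_self χ2) (hs1 ▸ hχ21)
      (by rw [add_comm]; exact hg')
    rw [e2, zero_smul, add_zero] at hg'
    have e1 : g 0 = 0 := (smul_eq_zero.1 hg').resolve_right hw1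
    intro i
    fin_cases i <;> assumption
  have h2le : 2 ≤ Module.finrank K F := by simpa using hli.fintype_card_le_finrank
  rcases Nat.lt_or_ge (Module.finrank K F) 3 with hlt | hge
  swap
  · exact Or.inl hge
  refine Or.inr ⟨by omega, ?_⟩
  by_contra hinv
  push Not at hinv
  have hspan : Submodule.span K (Set.range ![(⟨w1, hw1F⟩ : F), ⟨w2, hw2F⟩]) = ⊤ :=
    hli.span_eq_top_of_card_eq_finrank (by simp; omega)
  have hcomb : ∀ v ∈ F, ∃ a b : K, v = a • w1 + b • w2 := by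
    intro v hv
    have h1 : (⟨v, hv⟩ : F) ∈ Submodule.span K (Set.range ![(⟨w1, hw1F⟩ : F), ⟨w2, hw2F⟩]) :=
      hspan ▸ Submodule.mem_top
    rw [Matrix.range_cons, Matrix.range_cons, Matrix.range_empty, Set.union_empty,
      Set.singleton_union, Submodule.mem_span_pair] at h1
    obtain ⟨a, b, hab⟩ := h1
    exact ⟨a, b, (congrArg Subtype.val hab).symm⟩
  -- supports of fixed vectors are unions of the two orbits
  have hx1 : ∀ j : ℕ, σ (x ^ j) w1 ∈ F := by
    intro j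
    induction j with
    | zero => simpa using hw1F
    | succ j ih => rw [pow_succ', map_mul, Module.End.mul_apply]; exact hinv _ ih
  have hsupp_eq : ∀ (h : S), supp (σ h w1) = (fun χ => h • χ) '' supp w1 := by
    intro h
    refine Set.Subset.antisymm (fun θ hθ => ⟨h⁻¹ • θ, ?_, smul_inv_smul h θ⟩) ?_
    · have := hsupp_map h⁻¹ _ _ hθ
      rwa [← Module.End.mul_apply, ← map_mul, inv_mul_cancel, map_one, Module.End.one_apply] at this
    · rintro _ ⟨χ, hχ, rfl⟩
      exact hsupp_map h w1 χ hχ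
  have hc1 : ∀ j : ℕ, supp (σ (x ^ j) w1) = orbit T χ1 ∨ supp (σ (x ^ j) w1) = orbit T χ2 := by
    intro j
    obtain ⟨a, b, hab⟩ := hcomb _ (hx1 j)
    have hcardeq : Nat.card (supp (σ (x ^ j) w1)) = Nat.card (orbit T χ1) := by
      rw [hsupp_eq, Nat.card_image_of_injective (MulAction.injective (x ^ j)), hs1]
    have hA : ∀ θ ∈ orbit T χ1, wproj σ A θ (σ (x ^ j) w1) = a • wproj σ A θ w1 := fun θ hθ => by
      rw [hab, map_add, map_smul, map_smul,
        hzero (hs2 ▸ fun h2 => hdisj hχ21 θ h2 hθ : θ ∉ supp w2), smul_zero, add_zero]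
    have hB : ∀ θ ∈ orbit T χ2, wproj σ A θ (σ (x ^ j) w1) = b • wproj σ A θ w2 := fun θ hθ => by
      rw [hab, map_add, map_smul, map_smul,
        hzero (hs1 ▸ hdisj hχ21 θ hθ : θ ∉ supp w1), smul_zero, zero_add]
    have hsub : ∀ θ ∈ supp (σ (x ^ j) w1), θ ∈ orbit T χ1 ∧ a ≠ 0 ∨ θ ∈ orbit T χ2 ∧ b ≠ 0 := by
      intro θ hθ
      have hθΛ : θ ∈ Λ := ⟨_, hθ⟩
      by_cases h1 : θ ∈ orbit T χ1
      · exact Or.inl ⟨h1, fun ha => hθ (by rw [hA θ h1, ha, zero_smul])⟩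
      · exact Or.inr ⟨h3 θ hθΛ h1, fun hb => hθ (by rw [hB θ (h3 θ hθΛ h1), hb, zero_smul])⟩
    have hsupA : a ≠ 0 → orbit T χ1 ⊆ supp (σ (x ^ j) w1) := fun ha θ hθ h0 => by
      rw [hA θ hθ] at h0
      exact (hs1 ▸ hθ : θ ∈ supp w1) ((smul_eq_zero.1 h0).resolve_left ha)
    have hsupB : b ≠ 0 → orbit T χ2 ⊆ supp (σ (x ^ j) w1) := fun hb θ hθ h0 => by
      rw [hB θ hθ] at h0
      exact (hs2 ▸ hθ : θ ∈ supp w2) ((smul_eq_zero.1 h0).resolve_left hb)
    by_cases ha : a = 0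
    · right
      refine Set.Subset.antisymm (fun θ hθ => ((hsub θ hθ).resolve_left fun h => h.2 ha).1) (hsupB ?_)
      intro hb
      obtain ⟨θ, hθ⟩ := hsupp_ne _ (show σ (x ^ j) w1 ≠ 0 from fun h0 => hw1 (by
        have := congrArg (σ (x ^ j)⁻¹) h0
        rwa [← Module.End.mul_apply, ← map_mul, inv_mul_cancel, map_one, Module.End.one_apply, map_zero] at this))
      rcases hsub θ hθ with h | h
      · exact h.2 ha
      · exact h.2 hb
    · left
      by_cases hb : b = 0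
      · exact Set.Subset.antisymm (fun θ hθ => ((hsub θ hθ).resolve_right fun h => h.2 hb).1) (hsupA ha)
      · exfalso
        have hlt : orbit T χ1 ⊂ supp (σ (x ^ j) w1) :=
          (Set.ssubset_iff_of_subset (hsupA ha)).2 ⟨χ2, hsupB hb (mem_orbit_self χ2), hχ21⟩
        have := Set.ncard_lt_ncard hlt (Set.toFinite _)
        rw [← Nat.card_coe_set_eq, ← Nat.card_coe_set_eq] at this
        omega
  have himg : ∀ j : ℕ, (fun χ => x ^ j • χ) '' orbit T χ1 = supp (σ (x ^ j) w1) := fun j => by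
    rw [hsupp_eq, hs1]
  -- two of the exponents 0, 1, 2 give the same set
  obtain ⟨i, j, hij, hj, heq⟩ : ∃ i j : ℕ, i < j ∧ j ≤ 2 ∧ supp (σ (x ^ i) w1) = supp (σ (x ^ j) w1) := by
    rcases hc1 0 with e0 | e0 <;> rcases hc1 1 with e1 | e1 <;> rcases hc1 2 with e2 | e2 <;>
      first
      | exact ⟨0, 1, by norm_num, by norm_num, e0.trans e1.symm⟩
      | exact ⟨0, 2, by norm_num, le_rfl, e0.trans e2.symm⟩
      | exact ⟨1, 2, by norm_num, le_rfl, e1.trans e2.symm⟩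
  have hstab : x ^ (j - i) ∈ stabilizer S (orbit T χ1) := by
    rw [mem_stabilizer_iff, ← Set.image_smul]
    have h1 : (fun χ => x ^ i • χ) '' orbit T χ1 = (fun χ => x ^ j • χ) '' orbit T χ1 := by
      rw [himg, himg, heq]
    have h2 := congrArg ((fun χ : A →* Kˣ => (x ^ i)⁻¹ • χ) '' ·) h1
    simp only [Set.image_image, inv_smul_smul, Set.image_id', ← mul_smul] at h2
    rw [show (x ^ i)⁻¹ * x ^ j = x ^ (j - i) by
      rw [inv_mul_eq_iff_eq_mul, ← pow_add, Nat.add_sub_cancel' hij.le]] at h2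
    simpa using h2.symm
  have hxs : x ∈ stabilizer S (orbit T χ1) := by
    have hcop : (j - i).Coprime (orderOf x) := by
      rw [hx]
      refine (hq.coprime_iff_not_dvd.2 fun hd => ?_).symm
      have := Nat.le_of_dvd (by omega) hd
      have := hq.two_le
      omega
    obtain ⟨m, hm⟩ := exists_pow_eq_self_of_coprime hcop
    rw [← hm]
    exact pow_mem hstab m
  refine horb2 χ1 (hxinv _ (fun h1 => hΛ1 (hΛT _ ⟨v0, hχ1⟩ h1)) fun k χ hχ => ?_)
  have := pow_mem hxs k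
  rw [mem_stabilizer_iff] at this
  exact this ▸ Set.smul_mem_smul_set hχ

end H26
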